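import Cfsg.Agent.Lib.Helper28.TC2Upper
import Cfsg.Agent.Lib.Helper14.J2UT.GLDataC0
set_option autoImplicit false
set_option maxRecDepth 100000

namespace Cfsg.Agent.Lib.Helper14.J2UT.GLData
open Cfsg.Agent.Lib.Helper28.TC2Upper

/-- relators -/
def relT : BT (ℕ × List ℕ × List ℕ) := (BT.node 8 (BT.node 4 (BT.node 2 (BT.node 1 (BT.node 0 (BT.leaf (2, [0, 0], [1, 1])) (BT.leaf (3, [2, 2, 2], [3, 3, 3]))) (BT.leaf (10, [2, 0, 2, 0, 2, 0, 2, 0, 2, 0], [1, 3, 1, 3, 1, 3, 1, 3, 1, 3]))) (BT.node 3 (BT.leaf (2, [4, 4], [5, 5])) (BT.leaf (3, [6, 6, 6], [7, 7, 7])))) (BT.node 6 (BT.node 5 (BT.leaf (6, [6, 4, 6, 4, 6, 4], [5, 7, 5, 7, 5, 7])) (BT.leaf (4, [1, 5, 0, 4], [5, 1, 4, 0]))) (BT.node 7 (BT.leaf (4, [3, 5, 2, 4], [5, 3, 4, 2])) (BT.leaf (4, [1, 7, 0, 6], [7, 1, 6, 0]))))) (BT.node 12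 (BT.node 10 (BT.node 9 (BT.leaf (4, [3, 7, 2, 6], [7, 3, 6, 2])) (BT.leaf (3, [8, 8, 8], [9, 9, 9]))) (BT.node 11 (BT.leaf (10, [8, 4, 8, 4, 8, 4, 8, 4, 8, 4], [5, 9, 5, 9, 5, 9, 5, 9, 5, 9])) (BT.leaf (6, [7, 9, 4, 8, 4, 8], [9, 5, 9, 5, 8, 6])))) (BT.node 14 (BT.node 13 (BT.leaf (6, [1, 3, 9, 2, 0, 8], [9, 1, 3, 8, 2, 0])) (BT.leaf (16, [3, 1, 2, 1, 3, 1, 2, 9, 3, 0, 2, 0, 3, 0, 2, 8], [9, 3, 1, 2, 1, 3, 1, 2, 8, 3, 0, 2, 0, 3, 0, 2]))) (BT.node 15 (BT.leaf (65, [5, 9, 5, 9, 5, 9, 5, 9, 0, 2, 0, 3, 0, 8, 4, 8, 4, 8, 4, 8, 4, 5, 9, 5, 9, 5, 9, 0, 2, 0, 3, 0, 8, 4, 8, 4, 8, 4, 5, 9, 5, 9, 0, 2, 0, 3, 0, 8, 4, 8, 4, 5, 9, 0, 2, 0, 3, 0, 8, 4, 0, 2, 0, 3, 0], [1, 2, 1, 3, 1, 5, 9, 1, 2, 1, 3, 1, 8, 4, 5, 9, 5, 9, 1, 2, 1, 3, 1, 8, 4, 8, 4, 5, 9, 5, 9, 5, 9, 1, 2, 1, 3, 1, 8, 4, 8, 4, 8,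 4, 5, 9, 5, 9, 5, 9, 5, 9, 1, 2, 1, 3, 1, 8, 4, 8, 4, 8, 4, 8, 4])) (BT.leaf (43, [8, 5, 9, 1, 2, 1, 3, 1, 5, 8, 5, 9, 1, 2, 1, 3, 1, 5, 8, 2, 5, 9, 5, 9, 0, 2, 0, 3, 0, 8, 4, 8, 4, 5, 9, 0, 2, 0, 3, 0, 8, 4, 3], [2, 5, 9, 1, 2, 1, 3, 1, 8, 4, 5, 9, 5, 9, 1, 2, 1, 3, 1, 8, 4, 8, 4, 3, 9, 4, 0, 2, 0, 3, 0, 8, 4, 9, 4, 0, 2, 0, 3, 0, 8, 4, 9]))))))
/-- subgroup generators -/
def subT : BT (ℕ × List ℕ × List ℕ) := (BT.node 1 (BT.node 0 (BT.leaf (1, [0], [1])) (BT.leaf (1, [2], [3]))) (BT.node 2 (BT.leaf (1, [4], [5])) (BT.leaf (1, [6], [7]))))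
/-- fact chunks -/
def colET : BT ℕ := (BT.node 27 (BT.node 13 (BT.node 6 (BT.node 3 (BT.node 1 (BT.node 0 (BT.leaf cE0) (BT.leaf cE1)) (BT.node 2 (BT.leaf cE2) (BT.leaf cE3))) (BT.node 5 (BT.node 4 (BT.leaf cE4) (BT.leaf cE5)) (BT.leaf cE6))) (BT.node 10 (BT.node 8 (BT.node 7 (BT.leaf cE7) (BT.leaf cE8)) (BT.node 9 (BT.leaf cE9) (BT.leaf cE10))) (BT.node 12 (BT.node 11 (BT.leaf cE11) (BT.leaf cE12)) (BT.leaf cE13)))) (BT.node 20 (BT.node 17 (BT.node 15 (BT.node 14 (BT.leaf cE14) (BT.leaf cE15)) (BT.node 16 (BT.leaf cE16) (BT.leaf cE17))) (BT.node 19 (BT.node 18 (BT.leaf cE18) (BT.leaf cE19)) (BT.leaf cE20))) (BT.node 24 (BT.node 22 (BT.node 21 (BT.leaf cE21) (BT.leaf cE22)) (BT.node 23 (BT.leaf cE23) (BT.leaf cE24))) (BT.node 26 (BT.node 25 (BT.leaf cE25) (BT.leaf cE26)) (BT.leaf cE27)))))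 (BT.node 41 (BT.node 34 (BT.node 31 (BT.node 29 (BT.node 28 (BT.leaf cE28) (BT.leaf cE29)) (BT.node 30 (BT.leaf cE30) (BT.leaf cE31))) (BT.node 33 (BT.node 32 (BT.leaf cE32) (BT.leaf cE33)) (BT.leaf cE34))) (BT.node 38 (BT.node 36 (BT.node 35 (BT.leaf cE35) (BT.leaf cE36)) (BT.node 37 (BT.leaf cE37) (BT.leaf cE38))) (BT.node 40 (BT.node 39 (BT.leaf cE39) (BT.leaf cE40)) (BT.leaf cE41)))) (BT.node 48 (BT.node 45 (BT.node 43 (BT.node 42 (BT.leaf cE42) (BT.leaf cE43)) (BT.node 44 (BT.leaf cE44) (BT.leaf cE45))) (BT.node 47 (BT.node 46 (BT.leaf cE46) (BT.leaf cE47)) (BT.leaf cE48))) (BT.node 51 (BT.node 50 (BT.node 49 (BT.leaf cE49) (BT.leaf cE50)) (BT.leaf cE51)) (BT.node 53 (BT.node 52 (BT.leaf cE52) (BT.leaf cE53)) (BT.leaf cE54))))))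
/-- justification chunks -/
def colJT : BT ℕ := (BT.node 27 (BT.node 13 (BT.node 6 (BT.node 3 (BT.node 1 (BT.node 0 (BT.leaf cJ0) (BT.leaf cJ1)) (BT.node 2 (BT.leaf cJ2) (BT.leaf cJ3))) (BT.node 5 (BT.node 4 (BT.leaf cJ4) (BT.leaf cJ5)) (BT.leaf cJ6))) (BT.node 10 (BT.node 8 (BT.node 7 (BT.leaf cJ7) (BT.leaf cJ8)) (BT.node 9 (BT.leaf cJ9) (BT.leaf cJ10))) (BT.node 12 (BT.node 11 (BT.leaf cJ11) (BT.leaf cJ12)) (BT.leaf cJ13)))) (BT.node 20 (BT.node 17 (BT.node 15 (BT.node 14 (BT.leaf cJ14) (BT.leaf cJ15)) (BT.node 16 (BT.leaf cJ16) (BT.leaf cJ17))) (BT.node 19 (BT.node 18 (BT.leaf cJ18) (BT.leaf cJ19)) (BT.leaf cJ20))) (BT.node 24 (BT.node 22 (BT.node 21 (BT.leaf cJ21) (BT.leaf cJ22)) (BT.node 23 (BT.leaf cJ23) (BT.leaf cJ24))) (BT.node 26 (BT.node 25 (BT.leaf cJ25) (BT.leaf cJ26)) (BT.leaf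 cJ27))))) (BT.node 41 (BT.node 34 (BT.node 31 (BT.node 29 (BT.node 28 (BT.leaf cJ28) (BT.leaf cJ29)) (BT.node 30 (BT.leaf cJ30) (BT.leaf cJ31))) (BT.node 33 (BT.node 32 (BT.leaf cJ32) (BT.leaf cJ33)) (BT.leaf cJ34))) (BT.node 38 (BT.node 36 (BT.node 35 (BT.leaf cJ35) (BT.leaf cJ36)) (BT.node 37 (BT.leaf cJ37) (BT.leaf cJ38))) (BT.node 40 (BT.node 39 (BT.leaf cJ39) (BT.leaf cJ40)) (BT.leaf cJ41)))) (BT.node 48 (BT.node 45 (BT.node 43 (BT.node 42 (BT.leaf cJ42) (BT.leaf cJ43)) (BT.node 44 (BT.leaf cJ44) (BT.leaf cJ45))) (BT.node 47 (BT.node 46 (BT.leaf cJ46) (BT.leaf cJ47)) (BT.leaf cJ48))) (BT.node 51 (BT.node 50 (BT.node 49 (BT.leaf cJ49) (BT.leaf cJ50)) (BT.leaf cJ51)) (BT.node 53 (BT.node 52 (BT.leaf cJ52) (BT.leaf cJ53)) (BT.leaf cJ54))))))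
/-- parent chunks -/
def parCT : BT ℕ := (BT.node 2 (BT.node 1 (BT.node 0 (BT.leaf cP0) (BT.leaf cP1)) (BT.leaf cP2)) (BT.node 3 (BT.leaf cP3) (BT.leaf cP4)))
/-- the certificate -/
def data : Data where
  k := 10
  N := 2421
  W := 26
  MW := 67108864
  B := 4096
  CH := 512
  NCH := 5
  colE := colET
  JW := 64
  MJ := 18446744073709551616
  A := 1048576
  colJ := colJT
  PW := 22
  MP := 4194304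
  parC := parCT
  inv := (BT.node 5 (BT.node 2 (BT.node 1 (BT.node 0 (BT.leaf 1) (BT.leaf 0)) (BT.leaf 3)) (BT.node 4 (BT.node 3 (BT.leaf 2) (BT.leaf 5)) (BT.leaf 4))) (BT.node 8 (BT.node 7 (BT.node 6 (BT.leaf 7) (BT.leaf 6)) (BT.leaf 9)) (BT.node 9 (BT.leaf 8) (BT.leaf 10))))
  rel := relT
  sub := subT
  fuel := 64

end Cfsg.Agent.Lib.Helper14.J2UT.GLData
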