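import Mathlib
set_option autoImplicit false

namespace Cfsg.Agent.Lib.Helper14.J2UT.GLDef

/-- the generators -/
inductive Gen
  | x
  | y
  | u
  | r
  | w
  deriving DecidableEq

/-- the relators in list form -/
def relWords : List (List (Gen × Bool)) := [
  [(.x, true), (.x, true)],
  [(.y, true), (.y, true), (.y, true)],
  [(.x, true), (.y, true), (.x, true), (.y, true), (.x, true), (.y, true), (.x, true), (.y, true), (.x, true), (.y, true)],
  [(.u, true), (.u, true)],
  [(.r, true), (.r, true), (.r, true)],
  [(.u, true), (.r, true), (.u, true), (.r, true), (.u, true), (.r, true)],
  [(.u, true), (.x, true), (.u, false), (.x, false)],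
  [(.u, true), (.y, true), (.u, false), (.y, false)],
  [(.r, true), (.x, true), (.r, false), (.x, false)],
  [(.r, true), (.y, true), (.r, false), (.y, false)],
  [(.w, true), (.w, true), (.w, true)],
  [(.u, true), (.w, true), (.u, true), (.w, true), (.u, true), (.w, true), (.u, true), (.w, true), (.u, true), (.w, true)],
  [(.w, true), (.u, true), (.w, true), (.u, true), (.w, false), (.r, false)],
  [(.w, true), (.x, true), (.y, true), (.w, false), (.y, false), (.x, false)],
  [(.w, true), (.y, true), (.x, true), (.y, false), (.x, true), (.y, true), (.x, true), (.y, false), (.w, false), (.y, true), (.x, false), (.y, false), (.x, false), (.y, true), (.x, false), (.y, false)],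
  [(.x, true), (.y, false), (.x, true), (.y, true), (.x, true), (.u, true), (.w, true), (.x, true), (.y, false), (.x, true), (.y, true), (.x, true), (.w, false), (.u, false), (.u, true), (.w, true), (.u, true), (.w, true), (.x, true), (.y, false), (.x, true), (.y, true), (.x, true), (.w, false), (.u, false), (.w, false), (.u, false), (.u, true), (.w, true), (.u, true), (.w, true), (.u, true), (.w, true), (.x, true), (.y, false), (.x, true), (.y, true), (.x, true), (.w, false), (.u, false), (.w, false), (.u, false), (.w, false), (.u, false), (.u, true), (.w, true), (.u, true), (.w, true), (.u, true), (.w, true), (.u, true), (.w, true), (.x, true), (.y, false), (.x, true), (.y, true), (.x, true), (.w, false), (.u, false), (.w, false), (.u, false), (.w, false), (.u, false), (.w, false), (.u, false)],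
  [(.y, false), (.u, true), (.w, true), (.x, true), (.y, false), (.x, true), (.y, true), (.x, true), (.w, false), (.u, false), (.u, true), (.w, true), (.u, true), (.w, true), (.x, true), (.y, false), (.x, true), (.y, true), (.x, true), (.w, false), (.u, false), (.w, false), (.u, false), (.y, true), (.w, true), (.u, false), (.x, false), (.y, false), (.x, false), (.y, true), (.x, false), (.w, false), (.u, false), (.w, true), (.u, false), (.x, false), (.y, false), (.x, false), (.y, true), (.x, false), (.w, false), (.u, false), (.w, true)] ]

end Cfsg.Agent.Lib.Helper14.J2UT.GLDef
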