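import Cfsg.Agent.Lib.Helper14.J2UT.GLData
set_option autoImplicit false
set_option maxRecDepth 100000
set_option maxHeartbeats 0

namespace Cfsg.Agent.Lib.Helper14.J2UT.GLU0
open Cfsg.Agent.Lib.Helper28.TC2Upper Cfsg.Agent.Lib.Helper14.J2UT.GLData

theorem chk0 : data.checkRange 0 651 = true := by decide +kernel
theorem chk1 : data.checkRange 651 797 = true := by decide +kernel
theorem chk2 : data.checkRange 1448 973 = true := by decide +kernel

end Cfsg.Agent.Lib.Helper14.J2UT.GLU0
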