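import Cfsg.Agent.Lib.Helper28.TC2Upper
import Cfsg.Agent.Lib.Helper14.J2UT.GSDataC0
set_option autoImplicit false
set_option maxRecDepth 100000

namespace Cfsg.Agent.Lib.Helper14.J2UT.GSData
open Cfsg.Agent.Lib.Helper28.TC2Upper

/-- relators -/
def relT : BT (ℕ × List ℕ × List ℕ) := (BT.node 4 (BT.node 2 (BT.node 1 (BT.node 0 (BT.leaf (2, [0, 0], [1, 1])) (BT.leaf (3, [2, 2, 2], [3, 3, 3]))) (BT.leaf (10, [2, 0, 2, 0, 2, 0, 2, 0, 2, 0], [1, 3, 1, 3, 1, 3, 1, 3, 1, 3]))) (BT.node 3 (BT.leaf (2, [4, 4], [5, 5])) (BT.leaf (3, [6, 6, 6], [7, 7, 7])))) (BT.node 7 (BT.node 6 (BT.node 5 (BT.leaf (6, [6, 4, 6, 4, 6, 4], [5, 7, 5, 7, 5, 7])) (BT.leaf (4, [1, 5, 0, 4], [5, 1, 4, 0]))) (BT.leaf (4, [3, 5, 2, 4], [5, 3, 4, 2]))) (BT.node 8 (BT.leaf (4, [1, 7, 0, 6], [7, 1, 6, 0])) (BT.leaf (4, [3, 7, 2, 6], [7, 3, 6, 2])))))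
/-- subgroup generators -/
def subT : BT (ℕ × List ℕ × List ℕ) := (BT.leaf (0, [], []))
/-- fact chunks -/
def colET : BT ℕ := (BT.node 8 (BT.node 4 (BT.node 2 (BT.node 1 (BT.node 0 (BT.leaf cE0) (BT.leaf cE1)) (BT.leaf cE2)) (BT.node 3 (BT.leaf cE3) (BT.leaf cE4))) (BT.node 6 (BT.node 5 (BT.leaf cE5) (BT.leaf cE6)) (BT.node 7 (BT.leaf cE7) (BT.leaf cE8)))) (BT.node 13 (BT.node 11 (BT.node 10 (BT.node 9 (BT.leaf cE9) (BT.leaf cE10)) (BT.leaf cE11)) (BT.node 12 (BT.leaf cE12) (BT.leaf cE13))) (BT.node 15 (BT.node 14 (BT.leaf cE14) (BT.leaf cE15)) (BT.node 16 (BT.leaf cE16) (BT.leaf cE17)))))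
/-- justification chunks -/
def colJT : BT ℕ := (BT.node 8 (BT.node 4 (BT.node 2 (BT.node 1 (BT.node 0 (BT.leaf cJ0) (BT.leaf cJ1)) (BT.leaf cJ2)) (BT.node 3 (BT.leaf cJ3) (BT.leaf cJ4))) (BT.node 6 (BT.node 5 (BT.leaf cJ5) (BT.leaf cJ6)) (BT.node 7 (BT.leaf cJ7) (BT.leaf cJ8)))) (BT.node 13 (BT.node 11 (BT.node 10 (BT.node 9 (BT.leaf cJ9) (BT.leaf cJ10)) (BT.leaf cJ11)) (BT.node 12 (BT.leaf cJ12) (BT.leaf cJ13))) (BT.node 15 (BT.node 14 (BT.leaf cJ14) (BT.leaf cJ15)) (BT.node 16 (BT.leaf cJ16) (BT.leaf cJ17)))))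
/-- parent chunks -/
def parCT : BT ℕ := (BT.node 0 (BT.leaf cP0) (BT.leaf cP1))
/-- the certificate -/
def data : Data where
  k := 8
  N := 720
  W := 23
  MW := 8388608
  B := 1024
  CH := 512
  NCH := 2
  colE := colET
  JW := 64
  MJ := 18446744073709551616
  A := 1048576
  colJ := colJT
  PW := 20
  MP := 1048576
  parC := parCT
  inv := (BT.node 4 (BT.node 2 (BT.node 1 (BT.node 0 (BT.leaf 1) (BT.leaf 0)) (BT.leaf 3)) (BT.node 3 (BT.leaf 2) (BT.leaf 5))) (BT.node 6 (BT.node 5 (BT.leaf 4) (BT.leaf 7)) (BT.node 7 (BT.leaf 6) (BT.leaf 8))))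
  rel := relT
  sub := subT
  fuel := 4

end Cfsg.Agent.Lib.Helper14.J2UT.GSData
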