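import Cfsg.Agent.Lib.Helper28.TC2Range
import Cfsg.Agent.Lib.Helper14.J2UT.GSData
import Cfsg.Agent.Lib.Helper14.J2UT.GSTable
set_option autoImplicit false
set_option maxRecDepth 100000
set_option maxHeartbeats 0

namespace Cfsg.Agent.Lib.Helper14.J2UT.GSM
open Cfsg.Agent.Lib.Helper28.TC2Upper Cfsg.Agent.Lib.Helper28.TC2Lower Cfsg.Agent.Lib.Helper28.TC2Orbit Cfsg.Agent.Lib.Helper28.TC2Range Cfsg.Agent.Lib.Helper14.J2UT.GSData Cfsg.Agent.Lib.Helper14.J2UT.GSTable

theorem hlive0 : data.isLive 0 = true := by decide +kernel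
theorem hinvOK : table.invOK = true := by decide +kernel
theorem hsub0 : table.subOK subPaths = true := by decide +kernel
theorem hcov : ∀ P ∈ relPaths, (∀ l ∈ P, l < table.k) ∧ Table.covered table chkPaths P := by decide +kernel

end Cfsg.Agent.Lib.Helper14.J2UT.GSM
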