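import Cfsg.Agent.Lib.Helper14.J2UT.L2Link
set_option autoImplicit false
set_option maxRecDepth 100000
set_option maxHeartbeats 0

namespace Cfsg.Agent.Lib.Helper14.J2UT.L2Chk
open Cfsg.Agent.Lib.Helper28.TC2Upper Cfsg.Agent.Lib.Helper28.TC2Lower Cfsg.Agent.Lib.Helper28.TC2Glue Cfsg.Agent.Lib.Helper14.J2UT.L2Table Cfsg.Agent.Lib.Helper14.J2UT.L2Link

/-- coset representatives -/
def reps : List (List (Cfsg.Agent.Lib.Helper14.J2UT.L2Def.Gen × Bool)) := [
  [],
  [(.a, true)],
  [(.u, true)],
  [(.w, true)],
  [(.w, false)],
  [(.u, true), (.a, true)],
  [(.w, true), (.a, true)],
  [(.w, false), (.a, true)],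
  [(.w, true), (.u, true)],
  [(.w, false), (.u, true)],
  [(.a, true), (.w, true)],
  [(.u, true), (.w, true)],
  [(.a, true), (.w, false)],
  [(.u, true), (.w, false)],
  [(.w, true), (.u, true), (.a, true)],
  [(.w, false), (.u, true), (.a, true)],
  [(.a, true), (.w, true), (.a, true)],
  [(.u, true), (.w, true), (.a, true)],
  [(.a, true), (.w, false), (.a, true)],
  [(.u, true), (.w, false), (.a, true)],
  [(.a, true), (.w, true), (.u, true)],
  [(.u, true), (.w, true), (.u, true)],
  [(.a, true), (.w, false), (.u, true)],
  [(.u, true), (.w, false), (.u, true)],
  [(.u, true), (.a, true), (.w, true)],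
  [(.w, true), (.a, true), (.w, true)],
  [(.w, false), (.a, true), (.w, true)],
  [(.w, true), (.u, true), (.w, true)],
  [(.w, false), (.u, true), (.w, true)],
  [(.u, true), (.a, true), (.w, false)],
  [(.w, true), (.a, true), (.w, false)],
  [(.w, false), (.a, true), (.w, false)],
  [(.w, true), (.u, true), (.w, false)],
  [(.w, false), (.u, true), (.w, false)],
  [(.a, true), (.w, true), (.u, true), (.a, true)],
  [(.u, true), (.w, true), (.u, true), (.a, true)],
  [(.a, true), (.w, false), (.u, true), (.a, true)],
  [(.u, true), (.w, false), (.u, true), (.a, true)],
  [(.u, true), (.a, true), (.w, true), (.a, true)],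
  [(.w, true), (.a, true), (.w, true), (.a, true)],
  [(.w, false), (.a, true), (.w, true), (.a, true)],
  [(.w, true), (.u, true), (.w, true), (.a, true)],
  [(.w, false), (.u, true), (.w, true), (.a, true)],
  [(.u, true), (.a, true), (.w, false), (.a, true)],
  [(.w, true), (.a, true), (.w, false), (.a, true)],
  [(.w, false), (.a, true), (.w, false), (.a, true)],
  [(.w, true), (.u, true), (.w, false), (.a, true)],
  [(.w, false), (.u, true), (.w, false), (.a, true)],
  [(.u, true), (.a, true), (.w, true), (.u, true)],
  [(.w, true), (.a, true), (.w, true), (.u, true)],
  [(.w, false), (.a, true), (.w, true), (.u, true)],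
  [(.w, true), (.u, true), (.w, true), (.u, true)],
  [(.w, false), (.u, true), (.w, true), (.u, true)],
  [(.u, true), (.a, true), (.w, false), (.u, true)],
  [(.w, true), (.a, true), (.w, false), (.u, true)],
  [(.w, false), (.a, true), (.w, false), (.u, true)],
  [(.w, true), (.u, true), (.w, false), (.u, true)],
  [(.w, false), (.u, true), (.w, false), (.u, true)],
  [(.w, true), (.u, true), (.a, true), (.w, true)],
  [(.w, false), (.u, true), (.a, true), (.w, true)],
  [(.a, true), (.w, true), (.a, true), (.w, true)],
  [(.u, true), (.w, true), (.a, true), (.w, true)],
  [(.a, true), (.w, false), (.a, true), (.w, true)],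
  [(.u, true), (.w, false), (.a, true), (.w, true)],
  [(.a, true), (.w, true), (.u, true), (.w, true)],
  [(.u, true), (.w, true), (.u, true), (.w, true)],
  [(.a, true), (.w, false), (.u, true), (.w, true)],
  [(.u, true), (.w, false), (.u, true), (.w, true)],
  [(.w, true), (.u, true), (.a, true), (.w, false)],
  [(.w, false), (.u, true), (.a, true), (.w, false)],
  [(.a, true), (.w, true), (.a, true), (.w, false)],
  [(.u, true), (.w, true), (.a, true), (.w, false)],
  [(.a, true), (.w, false), (.a, true), (.w, false)],
  [(.u, true), (.w, false), (.a, true), (.w, false)],
  [(.a, true), (.w, true), (.u, true), (.w, false)],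
  [(.u, true), (.w, true), (.u, true), (.w, false)],
  [(.a, true), (.w, false), (.u, true), (.w, false)],
  [(.u, true), (.w, false), (.u, true), (.w, false)],
  [(.u, true), (.a, true), (.w, true), (.u, true), (.a, true)],
  [(.w, true), (.a, true), (.w, true), (.u, true), (.a, true)],
  [(.w, false), (.a, true), (.w, true), (.u, true), (.a, true)],
  [(.w, true), (.u, true), (.w, true), (.u, true), (.a, true)],
  [(.w, false), (.u, true), (.w, true), (.u, true), (.a, true)],
  [(.u, true), (.a, true), (.w, false), (.u, true), (.a, true)],
  [(.w, true), (.a, true), (.w, false), (.u, true), (.a, true)],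
  [(.w, false), (.a, true), (.w, false), (.u, true), (.a, true)],
  [(.w, true), (.u, true), (.w, false), (.u, true), (.a, true)],
  [(.w, false), (.u, true), (.w, false), (.u, true), (.a, true)],
  [(.w, true), (.u, true), (.a, true), (.w, true), (.a, true)],
  [(.w, false), (.u, true), (.a, true), (.w, true), (.a, true)],
  [(.a, true), (.w, true), (.a, true), (.w, true), (.a, true)],
  [(.u, true), (.w, true), (.a, true), (.w, true), (.a, true)],
  [(.a, true), (.w, false), (.a, true), (.w, true), (.a, true)],
  [(.u, true), (.w, false), (.a, true), (.w, true), (.a, true)],
  [(.a, true), (.w, true), (.u, true), (.w, true), (.a, true)],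
  [(.u, true), (.w, true), (.u, true), (.w, true), (.a, true)],
  [(.a, true), (.w, false), (.u, true), (.w, true), (.a, true)],
  [(.u, true), (.w, false), (.u, true), (.w, true), (.a, true)],
  [(.w, true), (.u, true), (.a, true), (.w, false), (.a, true)],
  [(.w, false), (.u, true), (.a, true), (.w, false), (.a, true)],
  [(.a, true), (.w, true), (.a, true), (.w, false), (.a, true)],
  [(.u, true), (.w, true), (.a, true), (.w, false), (.a, true)],
  [(.a, true), (.w, false), (.a, true), (.w, false), (.a, true)],
  [(.u, true), (.w, false), (.a, true), (.w, false), (.a, true)],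
  [(.a, true), (.w, true), (.u, true), (.w, false), (.a, true)],
  [(.u, true), (.w, true), (.u, true), (.w, false), (.a, true)],
  [(.a, true), (.w, false), (.u, true), (.w, false), (.a, true)],
  [(.u, true), (.w, false), (.u, true), (.w, false), (.a, true)],
  [(.w, true), (.u, true), (.a, true), (.w, true), (.u, true)],
  [(.w, false), (.u, true), (.a, true), (.w, true), (.u, true)],
  [(.a, true), (.w, true), (.a, true), (.w, true), (.u, true)],
  [(.u, true), (.w, true), (.a, true), (.w, true), (.u, true)],
  [(.a, true), (.w, false), (.a, true), (.w, true), (.u, true)],
  [(.u, true), (.w, false), (.a, true), (.w, true), (.u, true)],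
  [(.a, true), (.w, true), (.u, true), (.w, true), (.u, true)],
  [(.u, true), (.w, true), (.u, true), (.w, true), (.u, true)],
  [(.a, true), (.w, false), (.u, true), (.w, true), (.u, true)],
  [(.u, true), (.w, false), (.u, true), (.w, true), (.u, true)],
  [(.w, true), (.u, true), (.a, true), (.w, false), (.u, true)],
  [(.w, false), (.u, true), (.a, true), (.w, false), (.u, true)],
  [(.a, true), (.w, true), (.a, true), (.w, false), (.u, true)],
  [(.u, true), (.w, true), (.a, true), (.w, false), (.u, true)],
  [(.a, true), (.w, false), (.a, true), (.w, false), (.u, true)],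
  [(.u, true), (.w, false), (.a, true), (.w, false), (.u, true)],
  [(.a, true), (.w, true), (.u, true), (.w, false), (.u, true)],
  [(.u, true), (.w, true), (.u, true), (.w, false), (.u, true)],
  [(.a, true), (.w, false), (.u, true), (.w, false), (.u, true)],
  [(.u, true), (.w, false), (.u, true), (.w, false), (.u, true)],
  [(.a, true), (.w, true), (.u, true), (.a, true), (.w, true)],
  [(.u, true), (.w, true), (.u, true), (.a, true), (.w, true)],
  [(.a, true), (.w, false), (.u, true), (.a, true), (.w, true)],
  [(.u, true), (.w, false), (.u, true), (.a, true), (.w, true)],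
  [(.u, true), (.a, true), (.w, true), (.a, true), (.w, true)],
  [(.w, true), (.a, true), (.w, true), (.a, true), (.w, true)],
  [(.w, false), (.a, true), (.w, true), (.a, true), (.w, true)],
  [(.w, true), (.u, true), (.w, true), (.a, true), (.w, true)],
  [(.w, false), (.u, true), (.w, true), (.a, true), (.w, true)],
  [(.u, true), (.a, true), (.w, false), (.a, true), (.w, true)],
  [(.w, true), (.a, true), (.w, false), (.a, true), (.w, true)],
  [(.w, false), (.a, true), (.w, false), (.a, true), (.w, true)],
  [(.w, true), (.u, true), (.w, false), (.a, true), (.w, true)],
  [(.w, false), (.u, true), (.w, false), (.a, true), (.w, true)],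
  [(.u, true), (.a, true), (.w, true), (.u, true), (.w, true)],
  [(.w, true), (.a, true), (.w, true), (.u, true), (.w, true)],
  [(.w, false), (.a, true), (.w, true), (.u, true), (.w, true)],
  [(.w, false), (.u, true), (.w, true), (.u, true), (.w, true)],
  [(.u, true), (.a, true), (.w, false), (.u, true), (.w, true)],
  [(.w, true), (.a, true), (.w, false), (.u, true), (.w, true)],
  [(.w, false), (.a, true), (.w, false), (.u, true), (.w, true)],
  [(.w, true), (.u, true), (.w, false), (.u, true), (.w, true)],
  [(.w, false), (.u, true), (.w, false), (.u, true), (.w, true)],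
  [(.a, true), (.w, true), (.u, true), (.a, true), (.w, false)],
  [(.u, true), (.w, true), (.u, true), (.a, true), (.w, false)],
  [(.a, true), (.w, false), (.u, true), (.a, true), (.w, false)],
  [(.u, true), (.w, false), (.u, true), (.a, true), (.w, false)],
  [(.u, true), (.a, true), (.w, true), (.a, true), (.w, false)],
  [(.w, true), (.a, true), (.w, true), (.a, true), (.w, false)],
  [(.w, false), (.a, true), (.w, true), (.a, true), (.w, false)],
  [(.w, true), (.u, true), (.w, true), (.a, true), (.w, false)],
  [(.w, false), (.u, true), (.w, true), (.a, true), (.w, false)],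
  [(.u, true), (.a, true), (.w, false), (.a, true), (.w, false)],
  [(.w, true), (.a, true), (.w, false), (.a, true), (.w, false)],
  [(.w, false), (.a, true), (.w, false), (.a, true), (.w, false)],
  [(.w, true), (.u, true), (.w, false), (.a, true), (.w, false)],
  [(.w, false), (.u, true), (.w, false), (.a, true), (.w, false)],
  [(.u, true), (.a, true), (.w, true), (.u, true), (.w, false)],
  [(.w, true), (.a, true), (.w, true), (.u, true), (.w, false)],
  [(.w, false), (.a, true), (.w, true), (.u, true), (.w, false)],
  [(.w, true), (.u, true), (.w, true), (.u, true), (.w, false)],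
  [(.w, false), (.u, true), (.w, true), (.u, true), (.w, false)],
  [(.u, true), (.a, true), (.w, false), (.u, true), (.w, false)],
  [(.w, true), (.a, true), (.w, false), (.u, true), (.w, false)],
  [(.w, false), (.a, true), (.w, false), (.u, true), (.w, false)],
  [(.w, true), (.u, true), (.w, false), (.u, true), (.w, false)],
  [(.w, true), (.u, true), (.a, true), (.w, true), (.u, true), (.a, true)],
  [(.w, false), (.u, true), (.a, true), (.w, true), (.u, true), (.a, true)],
  [(.a, true), (.w, true), (.a, true), (.w, true), (.u, true), (.a, true)],
  [(.u, true), (.w, true), (.a, true), (.w, true), (.u, true), (.a, true)],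
  [(.a, true), (.w, false), (.a, true), (.w, true), (.u, true), (.a, true)],
  [(.u, true), (.w, false), (.a, true), (.w, true), (.u, true), (.a, true)],
  [(.a, true), (.w, true), (.u, true), (.w, true), (.u, true), (.a, true)],
  [(.u, true), (.w, true), (.u, true), (.w, true), (.u, true), (.a, true)],
  [(.a, true), (.w, false), (.u, true), (.w, true), (.u, true), (.a, true)],
  [(.u, true), (.w, false), (.u, true), (.w, true), (.u, true), (.a, true)],
  [(.w, true), (.u, true), (.a, true), (.w, false), (.u, true), (.a, true)],
  [(.w, false), (.u, true), (.a, true), (.w, false), (.u, true), (.a, true)],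
  [(.a, true), (.w, true), (.a, true), (.w, false), (.u, true), (.a, true)],
  [(.u, true), (.w, true), (.a, true), (.w, false), (.u, true), (.a, true)],
  [(.a, true), (.w, false), (.a, true), (.w, false), (.u, true), (.a, true)],
  [(.u, true), (.w, false), (.a, true), (.w, false), (.u, true), (.a, true)],
  [(.a, true), (.w, true), (.u, true), (.w, false), (.u, true), (.a, true)],
  [(.u, true), (.w, true), (.u, true), (.w, false), (.u, true), (.a, true)],
  [(.a, true), (.w, false), (.u, true), (.w, false), (.u, true), (.a, true)],
  [(.u, true), (.w, false), (.u, true), (.w, false), (.u, true), (.a, true)],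
  [(.a, true), (.w, true), (.u, true), (.a, true), (.w, true), (.a, true)],
  [(.u, true), (.w, true), (.u, true), (.a, true), (.w, true), (.a, true)],
  [(.a, true), (.w, false), (.u, true), (.a, true), (.w, true), (.a, true)],
  [(.u, true), (.w, false), (.u, true), (.a, true), (.w, true), (.a, true)],
  [(.u, true), (.a, true), (.w, true), (.a, true), (.w, true), (.a, true)],
  [(.w, true), (.a, true), (.w, true), (.a, true), (.w, true), (.a, true)],
  [(.w, false), (.a, true), (.w, true), (.a, true), (.w, true), (.a, true)],
  [(.w, true), (.u, true), (.w, true), (.a, true), (.w, true), (.a, true)],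
  [(.w, false), (.u, true), (.w, true), (.a, true), (.w, true), (.a, true)],
  [(.u, true), (.a, true), (.w, false), (.a, true), (.w, true), (.a, true)],
  [(.w, true), (.a, true), (.w, false), (.a, true), (.w, true), (.a, true)],
  [(.w, false), (.a, true), (.w, false), (.a, true), (.w, true), (.a, true)],
  [(.w, true), (.u, true), (.w, false), (.a, true), (.w, true), (.a, true)],
  [(.w, false), (.u, true), (.w, false), (.a, true), (.w, true), (.a, true)],
  [(.u, true), (.a, true), (.w, true), (.u, true), (.w, true), (.a, true)],
  [(.w, true), (.a, true), (.w, true), (.u, true), (.w, true), (.a, true)],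
  [(.w, false), (.a, true), (.w, true), (.u, true), (.w, true), (.a, true)],
  [(.w, false), (.u, true), (.w, true), (.u, true), (.w, true), (.a, true)],
  [(.u, true), (.a, true), (.w, false), (.u, true), (.w, true), (.a, true)],
  [(.w, true), (.a, true), (.w, false), (.u, true), (.w, true), (.a, true)],
  [(.w, false), (.a, true), (.w, false), (.u, true), (.w, true), (.a, true)],
  [(.w, true), (.u, true), (.w, false), (.u, true), (.w, true), (.a, true)],
  [(.w, false), (.u, true), (.w, false), (.u, true), (.w, true), (.a, true)],
  [(.a, true), (.w, true), (.u, true), (.a, true), (.w, false), (.a, true)],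
  [(.u, true), (.w, true), (.u, true), (.a, true), (.w, false), (.a, true)],
  [(.a, true), (.w, false), (.u, true), (.a, true), (.w, false), (.a, true)],
  [(.u, true), (.w, false), (.u, true), (.a, true), (.w, false), (.a, true)],
  [(.u, true), (.a, true), (.w, true), (.a, true), (.w, false), (.a, true)],
  [(.w, true), (.a, true), (.w, true), (.a, true), (.w, false), (.a, true)],
  [(.w, false), (.a, true), (.w, true), (.a, true), (.w, false), (.a, true)],
  [(.w, true), (.u, true), (.w, true), (.a, true), (.w, false), (.a, true)],
  [(.w, false), (.u, true), (.w, true), (.a, true), (.w, false), (.a, true)],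
  [(.u, true), (.a, true), (.w, false), (.a, true), (.w, false), (.a, true)],
  [(.w, true), (.a, true), (.w, false), (.a, true), (.w, false), (.a, true)],
  [(.w, false), (.a, true), (.w, false), (.a, true), (.w, false), (.a, true)],
  [(.w, true), (.u, true), (.w, false), (.a, true), (.w, false), (.a, true)],
  [(.w, false), (.u, true), (.w, false), (.a, true), (.w, false), (.a, true)],
  [(.u, true), (.a, true), (.w, true), (.u, true), (.w, false), (.a, true)],
  [(.w, true), (.a, true), (.w, true), (.u, true), (.w, false), (.a, true)],
  [(.w, false), (.a, true), (.w, true), (.u, true), (.w, false), (.a, true)],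
  [(.w, true), (.u, true), (.w, true), (.u, true), (.w, false), (.a, true)],
  [(.w, false), (.u, true), (.w, true), (.u, true), (.w, false), (.a, true)],
  [(.u, true), (.a, true), (.w, false), (.u, true), (.w, false), (.a, true)],
  [(.w, true), (.a, true), (.w, false), (.u, true), (.w, false), (.a, true)],
  [(.w, false), (.a, true), (.w, false), (.u, true), (.w, false), (.a, true)],
  [(.w, true), (.u, true), (.w, false), (.u, true), (.w, false), (.a, true)],
  [(.a, true), (.w, true), (.u, true), (.a, true), (.w, true), (.u, true)],
  [(.u, true), (.w, true), (.u, true), (.a, true), (.w, true), (.u, true)],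
  [(.a, true), (.w, false), (.u, true), (.a, true), (.w, true), (.u, true)],
  [(.u, true), (.w, false), (.u, true), (.a, true), (.w, true), (.u, true)],
  [(.u, true), (.a, true), (.w, true), (.a, true), (.w, true), (.u, true)],
  [(.w, true), (.a, true), (.w, true), (.a, true), (.w, true), (.u, true)],
  [(.w, false), (.a, true), (.w, true), (.a, true), (.w, true), (.u, true)],
  [(.w, true), (.u, true), (.w, true), (.a, true), (.w, true), (.u, true)],
  [(.w, false), (.u, true), (.w, true), (.a, true), (.w, true), (.u, true)],
  [(.u, true), (.a, true), (.w, false), (.a, true), (.w, true), (.u, true)],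
  [(.w, true), (.a, true), (.w, false), (.a, true), (.w, true), (.u, true)],
  [(.w, false), (.a, true), (.w, false), (.a, true), (.w, true), (.u, true)],
  [(.w, true), (.u, true), (.w, false), (.a, true), (.w, true), (.u, true)],
  [(.w, false), (.u, true), (.w, false), (.a, true), (.w, true), (.u, true)],
  [(.u, true), (.a, true), (.w, true), (.u, true), (.w, true), (.u, true)],
  [(.w, true), (.a, true), (.w, true), (.u, true), (.w, true), (.u, true)],
  [(.w, false), (.a, true), (.w, true), (.u, true), (.w, true), (.u, true)],
  [(.u, true), (.a, true), (.w, false), (.u, true), (.w, true), (.u, true)],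
  [(.w, true), (.a, true), (.w, false), (.u, true), (.w, true), (.u, true)],
  [(.w, false), (.a, true), (.w, false), (.u, true), (.w, true), (.u, true)],
  [(.w, true), (.u, true), (.w, false), (.u, true), (.w, true), (.u, true)],
  [(.w, false), (.u, true), (.w, false), (.u, true), (.w, true), (.u, true)],
  [(.a, true), (.w, true), (.u, true), (.a, true), (.w, false), (.u, true)],
  [(.u, true), (.w, true), (.u, true), (.a, true), (.w, false), (.u, true)],
  [(.a, true), (.w, false), (.u, true), (.a, true), (.w, false), (.u, true)],
  [(.u, true), (.w, false), (.u, true), (.a, true), (.w, false), (.u, true)],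
  [(.u, true), (.a, true), (.w, true), (.a, true), (.w, false), (.u, true)],
  [(.w, true), (.a, true), (.w, true), (.a, true), (.w, false), (.u, true)],
  [(.w, false), (.a, true), (.w, true), (.a, true), (.w, false), (.u, true)],
  [(.w, true), (.u, true), (.w, true), (.a, true), (.w, false), (.u, true)],
  [(.w, false), (.u, true), (.w, true), (.a, true), (.w, false), (.u, true)],
  [(.u, true), (.a, true), (.w, false), (.a, true), (.w, false), (.u, true)],
  [(.w, true), (.a, true), (.w, false), (.a, true), (.w, false), (.u, true)],
  [(.w, false), (.a, true), (.w, false), (.a, true), (.w, false), (.u, true)],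
  [(.w, true), (.u, true), (.w, false), (.a, true), (.w, false), (.u, true)],
  [(.w, false), (.u, true), (.w, false), (.a, true), (.w, false), (.u, true)],
  [(.u, true), (.a, true), (.w, true), (.u, true), (.w, false), (.u, true)],
  [(.w, true), (.a, true), (.w, true), (.u, true), (.w, false), (.u, true)],
  [(.w, false), (.a, true), (.w, true), (.u, true), (.w, false), (.u, true)],
  [(.w, true), (.u, true), (.w, true), (.u, true), (.w, false), (.u, true)],
  [(.w, false), (.u, true), (.w, true), (.u, true), (.w, false), (.u, true)],
  [(.u, true), (.a, true), (.w, false), (.u, true), (.w, false), (.u, true)],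
  [(.w, true), (.a, true), (.w, false), (.u, true), (.w, false), (.u, true)],
  [(.w, false), (.a, true), (.w, false), (.u, true), (.w, false), (.u, true)],
  [(.u, true), (.a, true), (.w, true), (.u, true), (.a, true), (.w, true)],
  [(.w, true), (.a, true), (.w, true), (.u, true), (.a, true), (.w, true)],
  [(.w, false), (.a, true), (.w, true), (.u, true), (.a, true), (.w, true)],
  [(.w, true), (.u, true), (.w, true), (.u, true), (.a, true), (.w, true)],
  [(.w, false), (.u, true), (.w, true), (.u, true), (.a, true), (.w, true)],
  [(.u, true), (.a, true), (.w, false), (.u, true), (.a, true), (.w, true)],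
  [(.w, true), (.a, true), (.w, false), (.u, true), (.a, true), (.w, true)],
  [(.w, false), (.a, true), (.w, false), (.u, true), (.a, true), (.w, true)],
  [(.w, true), (.u, true), (.w, false), (.u, true), (.a, true), (.w, true)],
  [(.w, false), (.u, true), (.w, false), (.u, true), (.a, true), (.w, true)],
  [(.w, true), (.u, true), (.a, true), (.w, true), (.a, true), (.w, true)],
  [(.w, false), (.u, true), (.a, true), (.w, true), (.a, true), (.w, true)],
  [(.u, true), (.w, true), (.a, true), (.w, true), (.a, true), (.w, true)],
  [(.u, true), (.w, false), (.a, true), (.w, true), (.a, true), (.w, true)],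
  [(.a, true), (.w, true), (.u, true), (.w, true), (.a, true), (.w, true)],
  [(.u, true), (.w, true), (.u, true), (.w, true), (.a, true), (.w, true)],
  [(.a, true), (.w, false), (.u, true), (.w, true), (.a, true), (.w, true)],
  [(.u, true), (.w, false), (.u, true), (.w, true), (.a, true), (.w, true)],
  [(.w, true), (.u, true), (.a, true), (.w, false), (.a, true), (.w, true)],
  [(.w, false), (.u, true), (.a, true), (.w, false), (.a, true), (.w, true)],
  [(.a, true), (.w, true), (.a, true), (.w, false), (.a, true), (.w, true)],
  [(.u, true), (.w, true), (.a, true), (.w, false), (.a, true), (.w, true)],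
  [(.u, true), (.w, false), (.a, true), (.w, false), (.a, true), (.w, true)],
  [(.a, true), (.w, true), (.u, true), (.w, false), (.a, true), (.w, true)],
  [(.a, true), (.w, false), (.u, true), (.w, false), (.a, true), (.w, true)],
  [(.w, true), (.u, true), (.a, true), (.w, true), (.u, true), (.w, true)],
  [(.w, false), (.u, true), (.a, true), (.w, true), (.u, true), (.w, true)],
  [(.a, true), (.w, true), (.a, true), (.w, true), (.u, true), (.w, true)],
  [(.u, true), (.w, true), (.a, true), (.w, true), (.u, true), (.w, true)],
  [(.a, true), (.w, false), (.a, true), (.w, true), (.u, true), (.w, true)],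
  [(.u, true), (.w, false), (.u, true), (.w, true), (.u, true), (.w, true)],
  [(.w, true), (.u, true), (.a, true), (.w, false), (.u, true), (.w, true)],
  [(.w, false), (.u, true), (.a, true), (.w, false), (.u, true), (.w, true)],
  [(.a, true), (.w, true), (.a, true), (.w, false), (.u, true), (.w, true)],
  [(.a, true), (.w, false), (.a, true), (.w, false), (.u, true), (.w, true)],
  [(.u, true), (.w, false), (.a, true), (.w, false), (.u, true), (.w, true)],
  [(.a, true), (.w, true), (.u, true), (.w, false), (.u, true), (.w, true)],
  [(.u, true), (.w, true), (.u, true), (.w, false), (.u, true), (.w, true)],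
  [(.u, true), (.a, true), (.w, true), (.u, true), (.a, true), (.w, false)],
  [(.w, true), (.a, true), (.w, true), (.u, true), (.a, true), (.w, false)],
  [(.w, false), (.a, true), (.w, true), (.u, true), (.a, true), (.w, false)],
  [(.w, true), (.u, true), (.w, true), (.u, true), (.a, true), (.w, false)],
  [(.w, false), (.u, true), (.w, true), (.u, true), (.a, true), (.w, false)],
  [(.u, true), (.a, true), (.w, false), (.u, true), (.a, true), (.w, false)],
  [(.w, true), (.a, true), (.w, false), (.u, true), (.a, true), (.w, false)],
  [(.w, false), (.a, true), (.w, false), (.u, true), (.a, true), (.w, false)],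
  [(.w, true), (.u, true), (.w, false), (.u, true), (.a, true), (.w, false)],
  [(.w, false), (.u, true), (.w, false), (.u, true), (.a, true), (.w, false)],
  [(.w, true), (.u, true), (.a, true), (.w, true), (.a, true), (.w, false)],
  [(.w, false), (.u, true), (.a, true), (.w, true), (.a, true), (.w, false)],
  [(.u, true), (.w, true), (.a, true), (.w, true), (.a, true), (.w, false)],
  [(.a, true), (.w, false), (.a, true), (.w, true), (.a, true), (.w, false)],
  [(.u, true), (.w, false), (.a, true), (.w, true), (.a, true), (.w, false)],
  [(.a, true), (.w, true), (.u, true), (.w, true), (.a, true), (.w, false)],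
  [(.a, true), (.w, false), (.u, true), (.w, true), (.a, true), (.w, false)],
  [(.w, true), (.u, true), (.a, true), (.w, false), (.a, true), (.w, false)],
  [(.w, false), (.u, true), (.a, true), (.w, false), (.a, true), (.w, false)],
  [(.u, true), (.w, true), (.a, true), (.w, false), (.a, true), (.w, false)],
  [(.u, true), (.w, false), (.a, true), (.w, false), (.a, true), (.w, false)],
  [(.a, true), (.w, true), (.u, true), (.w, false), (.a, true), (.w, false)],
  [(.u, true), (.w, true), (.u, true), (.w, false), (.a, true), (.w, false)],
  [(.a, true), (.w, false), (.u, true), (.w, false), (.a, true), (.w, false)],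
  [(.u, true), (.w, false), (.u, true), (.w, false), (.a, true), (.w, false)],
  [(.w, true), (.u, true), (.a, true), (.w, true), (.u, true), (.w, false)],
  [(.w, false), (.u, true), (.a, true), (.w, true), (.u, true), (.w, false)],
  [(.a, true), (.w, true), (.a, true), (.w, true), (.u, true), (.w, false)],
  [(.u, true), (.w, true), (.a, true), (.w, true), (.u, true), (.w, false)],
  [(.a, true), (.w, false), (.a, true), (.w, true), (.u, true), (.w, false)],
  [(.a, true), (.w, false), (.u, true), (.w, true), (.u, true), (.w, false)],
  [(.u, true), (.w, false), (.u, true), (.w, true), (.u, true), (.w, false)],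
  [(.w, true), (.u, true), (.a, true), (.w, false), (.u, true), (.w, false)],
  [(.w, false), (.u, true), (.a, true), (.w, false), (.u, true), (.w, false)],
  [(.a, true), (.w, true), (.a, true), (.w, false), (.u, true), (.w, false)],
  [(.a, true), (.w, false), (.a, true), (.w, false), (.u, true), (.w, false)],
  [(.u, true), (.w, false), (.a, true), (.w, false), (.u, true), (.w, false)],
  [(.u, true), (.w, true), (.u, true), (.w, false), (.u, true), (.w, false)],
  [(.a, true), (.w, true), (.u, true), (.a, true), (.w, true), (.u, true), (.a, true)],
  [(.u, true), (.w, true), (.u, true), (.a, true), (.w, true), (.u, true), (.a, true)],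
  [(.a, true), (.w, false), (.u, true), (.a, true), (.w, true), (.u, true), (.a, true)],
  [(.u, true), (.w, false), (.u, true), (.a, true), (.w, true), (.u, true), (.a, true)],
  [(.u, true), (.a, true), (.w, true), (.a, true), (.w, true), (.u, true), (.a, true)],
  [(.w, false), (.a, true), (.w, true), (.a, true), (.w, true), (.u, true), (.a, true)],
  [(.w, true), (.u, true), (.w, true), (.a, true), (.w, true), (.u, true), (.a, true)],
  [(.w, false), (.u, true), (.w, true), (.a, true), (.w, true), (.u, true), (.a, true)],
  [(.u, true), (.a, true), (.w, false), (.a, true), (.w, true), (.u, true), (.a, true)],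
  [(.w, true), (.a, true), (.w, false), (.a, true), (.w, true), (.u, true), (.a, true)],
  [(.w, false), (.a, true), (.w, false), (.a, true), (.w, true), (.u, true), (.a, true)],
  [(.w, true), (.u, true), (.w, false), (.a, true), (.w, true), (.u, true), (.a, true)],
  [(.w, false), (.u, true), (.w, false), (.a, true), (.w, true), (.u, true), (.a, true)],
  [(.u, true), (.a, true), (.w, true), (.u, true), (.w, true), (.u, true), (.a, true)],
  [(.w, true), (.a, true), (.w, true), (.u, true), (.w, true), (.u, true), (.a, true)],
  [(.w, false), (.a, true), (.w, true), (.u, true), (.w, true), (.u, true), (.a, true)],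
  [(.u, true), (.a, true), (.w, false), (.u, true), (.w, true), (.u, true), (.a, true)],
  [(.w, true), (.a, true), (.w, false), (.u, true), (.w, true), (.u, true), (.a, true)],
  [(.w, false), (.a, true), (.w, false), (.u, true), (.w, true), (.u, true), (.a, true)],
  [(.w, true), (.u, true), (.w, false), (.u, true), (.w, true), (.u, true), (.a, true)],
  [(.w, false), (.u, true), (.w, false), (.u, true), (.w, true), (.u, true), (.a, true)],
  [(.a, true), (.w, true), (.u, true), (.a, true), (.w, false), (.u, true), (.a, true)],
  [(.u, true), (.w, true), (.u, true), (.a, true), (.w, false), (.u, true), (.a, true)],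
  [(.a, true), (.w, false), (.u, true), (.a, true), (.w, false), (.u, true), (.a, true)],
  [(.u, true), (.w, false), (.u, true), (.a, true), (.w, false), (.u, true), (.a, true)],
  [(.u, true), (.a, true), (.w, true), (.a, true), (.w, false), (.u, true), (.a, true)],
  [(.w, true), (.a, true), (.w, true), (.a, true), (.w, false), (.u, true), (.a, true)],
  [(.w, false), (.a, true), (.w, true), (.a, true), (.w, false), (.u, true), (.a, true)],
  [(.w, true), (.u, true), (.w, true), (.a, true), (.w, false), (.u, true), (.a, true)],
  [(.w, false), (.u, true), (.w, true), (.a, true), (.w, false), (.u, true), (.a, true)],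
  [(.u, true), (.a, true), (.w, false), (.a, true), (.w, false), (.u, true), (.a, true)],
  [(.w, true), (.a, true), (.w, false), (.a, true), (.w, false), (.u, true), (.a, true)],
  [(.w, true), (.u, true), (.w, false), (.a, true), (.w, false), (.u, true), (.a, true)],
  [(.w, false), (.u, true), (.w, false), (.a, true), (.w, false), (.u, true), (.a, true)],
  [(.u, true), (.a, true), (.w, true), (.u, true), (.w, false), (.u, true), (.a, true)],
  [(.w, true), (.a, true), (.w, true), (.u, true), (.w, false), (.u, true), (.a, true)],
  [(.w, false), (.a, true), (.w, true), (.u, true), (.w, false), (.u, true), (.a, true)],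
  [(.w, true), (.u, true), (.w, true), (.u, true), (.w, false), (.u, true), (.a, true)],
  [(.w, false), (.u, true), (.w, true), (.u, true), (.w, false), (.u, true), (.a, true)],
  [(.u, true), (.a, true), (.w, false), (.u, true), (.w, false), (.u, true), (.a, true)],
  [(.w, true), (.a, true), (.w, false), (.u, true), (.w, false), (.u, true), (.a, true)],
  [(.w, false), (.a, true), (.w, false), (.u, true), (.w, false), (.u, true), (.a, true)],
  [(.u, true), (.a, true), (.w, true), (.u, true), (.a, true), (.w, true), (.a, true)],
  [(.w, true), (.a, true), (.w, true), (.u, true), (.a, true), (.w, true), (.a, true)],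
  [(.w, false), (.a, true), (.w, true), (.u, true), (.a, true), (.w, true), (.a, true)],
  [(.w, true), (.u, true), (.w, true), (.u, true), (.a, true), (.w, true), (.a, true)],
  [(.w, false), (.u, true), (.w, true), (.u, true), (.a, true), (.w, true), (.a, true)],
  [(.u, true), (.a, true), (.w, false), (.u, true), (.a, true), (.w, true), (.a, true)],
  [(.w, true), (.a, true), (.w, false), (.u, true), (.a, true), (.w, true), (.a, true)],
  [(.w, true), (.u, true), (.w, false), (.u, true), (.a, true), (.w, true), (.a, true)],
  [(.w, false), (.u, true), (.w, false), (.u, true), (.a, true), (.w, true), (.a, true)],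
  [(.w, true), (.u, true), (.a, true), (.w, true), (.a, true), (.w, true), (.a, true)],
  [(.u, true), (.w, false), (.a, true), (.w, true), (.a, true), (.w, true), (.a, true)],
  [(.a, true), (.w, true), (.u, true), (.w, true), (.a, true), (.w, true), (.a, true)],
  [(.u, true), (.w, true), (.u, true), (.w, true), (.a, true), (.w, true), (.a, true)],
  [(.u, true), (.w, false), (.u, true), (.w, true), (.a, true), (.w, true), (.a, true)],
  [(.w, true), (.u, true), (.a, true), (.w, false), (.a, true), (.w, true), (.a, true)],
  [(.w, false), (.u, true), (.a, true), (.w, false), (.a, true), (.w, true), (.a, true)],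
  [(.a, true), (.w, true), (.a, true), (.w, false), (.a, true), (.w, true), (.a, true)],
  [(.u, true), (.w, true), (.a, true), (.w, false), (.a, true), (.w, true), (.a, true)],
  [(.u, true), (.w, false), (.a, true), (.w, false), (.a, true), (.w, true), (.a, true)],
  [(.a, true), (.w, true), (.u, true), (.w, false), (.a, true), (.w, true), (.a, true)],
  [(.a, true), (.w, false), (.u, true), (.w, false), (.a, true), (.w, true), (.a, true)],
  [(.w, true), (.u, true), (.a, true), (.w, true), (.u, true), (.w, true), (.a, true)],
  [(.w, false), (.u, true), (.a, true), (.w, true), (.u, true), (.w, true), (.a, true)],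
  [(.a, true), (.w, true), (.a, true), (.w, true), (.u, true), (.w, true), (.a, true)],
  [(.u, true), (.w, true), (.a, true), (.w, true), (.u, true), (.w, true), (.a, true)],
  [(.a, true), (.w, false), (.a, true), (.w, true), (.u, true), (.w, true), (.a, true)],
  [(.u, true), (.w, false), (.u, true), (.w, true), (.u, true), (.w, true), (.a, true)],
  [(.w, true), (.u, true), (.a, true), (.w, false), (.u, true), (.w, true), (.a, true)],
  [(.w, false), (.u, true), (.a, true), (.w, false), (.u, true), (.w, true), (.a, true)],
  [(.a, true), (.w, true), (.a, true), (.w, false), (.u, true), (.w, true), (.a, true)],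
  [(.u, true), (.w, false), (.a, true), (.w, false), (.u, true), (.w, true), (.a, true)],
  [(.a, true), (.w, true), (.u, true), (.w, false), (.u, true), (.w, true), (.a, true)],
  [(.u, true), (.w, true), (.u, true), (.w, false), (.u, true), (.w, true), (.a, true)],
  [(.u, true), (.a, true), (.w, true), (.u, true), (.a, true), (.w, false), (.a, true)],
  [(.w, false), (.a, true), (.w, true), (.u, true), (.a, true), (.w, false), (.a, true)],
  [(.w, true), (.u, true), (.w, true), (.u, true), (.a, true), (.w, false), (.a, true)],
  [(.w, false), (.u, true), (.w, true), (.u, true), (.a, true), (.w, false), (.a, true)],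
  [(.u, true), (.a, true), (.w, false), (.u, true), (.a, true), (.w, false), (.a, true)],
  [(.w, true), (.a, true), (.w, false), (.u, true), (.a, true), (.w, false), (.a, true)],
  [(.w, false), (.a, true), (.w, false), (.u, true), (.a, true), (.w, false), (.a, true)],
  [(.w, true), (.u, true), (.w, false), (.u, true), (.a, true), (.w, false), (.a, true)],
  [(.w, false), (.u, true), (.w, false), (.u, true), (.a, true), (.w, false), (.a, true)],
  [(.w, true), (.u, true), (.a, true), (.w, true), (.a, true), (.w, false), (.a, true)],
  [(.w, false), (.u, true), (.a, true), (.w, true), (.a, true), (.w, false), (.a, true)],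
  [(.u, true), (.w, true), (.a, true), (.w, true), (.a, true), (.w, false), (.a, true)],
  [(.a, true), (.w, false), (.a, true), (.w, true), (.a, true), (.w, false), (.a, true)],
  [(.u, true), (.w, false), (.a, true), (.w, true), (.a, true), (.w, false), (.a, true)],
  [(.a, true), (.w, true), (.u, true), (.w, true), (.a, true), (.w, false), (.a, true)],
  [(.a, true), (.w, false), (.u, true), (.w, true), (.a, true), (.w, false), (.a, true)],
  [(.w, false), (.u, true), (.a, true), (.w, false), (.a, true), (.w, false), (.a, true)],
  [(.u, true), (.w, true), (.a, true), (.w, false), (.a, true), (.w, false), (.a, true)],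
  [(.u, true), (.w, true), (.u, true), (.w, false), (.a, true), (.w, false), (.a, true)],
  [(.a, true), (.w, false), (.u, true), (.w, false), (.a, true), (.w, false), (.a, true)],
  [(.u, true), (.w, false), (.u, true), (.w, false), (.a, true), (.w, false), (.a, true)],
  [(.w, true), (.u, true), (.a, true), (.w, true), (.u, true), (.w, false), (.a, true)],
  [(.w, false), (.u, true), (.a, true), (.w, true), (.u, true), (.w, false), (.a, true)],
  [(.u, true), (.w, true), (.a, true), (.w, true), (.u, true), (.w, false), (.a, true)],
  [(.a, true), (.w, false), (.a, true), (.w, true), (.u, true), (.w, false), (.a, true)],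
  [(.a, true), (.w, false), (.u, true), (.w, true), (.u, true), (.w, false), (.a, true)],
  [(.u, true), (.w, false), (.u, true), (.w, true), (.u, true), (.w, false), (.a, true)],
  [(.w, true), (.u, true), (.a, true), (.w, false), (.u, true), (.w, false), (.a, true)],
  [(.w, false), (.u, true), (.a, true), (.w, false), (.u, true), (.w, false), (.a, true)],
  [(.a, true), (.w, true), (.a, true), (.w, false), (.u, true), (.w, false), (.a, true)],
  [(.a, true), (.w, false), (.a, true), (.w, false), (.u, true), (.w, false), (.a, true)],
  [(.u, true), (.w, false), (.a, true), (.w, false), (.u, true), (.w, false), (.a, true)],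
  [(.u, true), (.w, true), (.u, true), (.w, false), (.u, true), (.w, false), (.a, true)],
  [(.u, true), (.a, true), (.w, true), (.u, true), (.a, true), (.w, true), (.u, true)],
  [(.w, true), (.a, true), (.w, true), (.u, true), (.a, true), (.w, true), (.u, true)],
  [(.w, false), (.a, true), (.w, true), (.u, true), (.a, true), (.w, true), (.u, true)],
  [(.w, false), (.u, true), (.w, true), (.u, true), (.a, true), (.w, true), (.u, true)],
  [(.u, true), (.a, true), (.w, false), (.u, true), (.a, true), (.w, true), (.u, true)],
  [(.w, true), (.a, true), (.w, false), (.u, true), (.a, true), (.w, true), (.u, true)],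
  [(.w, false), (.a, true), (.w, false), (.u, true), (.a, true), (.w, true), (.u, true)],
  [(.w, true), (.u, true), (.w, false), (.u, true), (.a, true), (.w, true), (.u, true)],
  [(.w, false), (.u, true), (.w, false), (.u, true), (.a, true), (.w, true), (.u, true)],
  [(.w, true), (.u, true), (.a, true), (.w, true), (.a, true), (.w, true), (.u, true)],
  [(.w, false), (.u, true), (.a, true), (.w, true), (.a, true), (.w, true), (.u, true)],
  [(.u, true), (.w, false), (.a, true), (.w, true), (.a, true), (.w, true), (.u, true)],
  [(.a, true), (.w, true), (.u, true), (.w, true), (.a, true), (.w, true), (.u, true)],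
  [(.u, true), (.w, true), (.u, true), (.w, true), (.a, true), (.w, true), (.u, true)],
  [(.a, true), (.w, false), (.u, true), (.w, true), (.a, true), (.w, true), (.u, true)],
  [(.w, true), (.u, true), (.a, true), (.w, false), (.a, true), (.w, true), (.u, true)],
  [(.w, false), (.u, true), (.a, true), (.w, false), (.a, true), (.w, true), (.u, true)],
  [(.a, true), (.w, true), (.a, true), (.w, false), (.a, true), (.w, true), (.u, true)],
  [(.u, true), (.w, true), (.a, true), (.w, false), (.a, true), (.w, true), (.u, true)],
  [(.u, true), (.w, false), (.a, true), (.w, false), (.a, true), (.w, true), (.u, true)],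
  [(.a, true), (.w, true), (.u, true), (.w, false), (.a, true), (.w, true), (.u, true)],
  [(.a, true), (.w, false), (.u, true), (.w, false), (.a, true), (.w, true), (.u, true)],
  [(.w, false), (.u, true), (.a, true), (.w, true), (.u, true), (.w, true), (.u, true)],
  [(.a, true), (.w, true), (.a, true), (.w, true), (.u, true), (.w, true), (.u, true)],
  [(.u, true), (.w, true), (.a, true), (.w, true), (.u, true), (.w, true), (.u, true)],
  [(.a, true), (.w, false), (.a, true), (.w, true), (.u, true), (.w, true), (.u, true)],
  [(.w, true), (.u, true), (.a, true), (.w, false), (.u, true), (.w, true), (.u, true)],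
  [(.w, false), (.u, true), (.a, true), (.w, false), (.u, true), (.w, true), (.u, true)],
  [(.a, true), (.w, true), (.a, true), (.w, false), (.u, true), (.w, true), (.u, true)],
  [(.a, true), (.w, false), (.a, true), (.w, false), (.u, true), (.w, true), (.u, true)],
  [(.a, true), (.w, true), (.u, true), (.w, false), (.u, true), (.w, true), (.u, true)],
  [(.u, true), (.w, true), (.u, true), (.w, false), (.u, true), (.w, true), (.u, true)],
  [(.u, true), (.a, true), (.w, true), (.u, true), (.a, true), (.w, false), (.u, true)],
  [(.w, true), (.a, true), (.w, true), (.u, true), (.a, true), (.w, false), (.u, true)],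
  [(.w, false), (.a, true), (.w, true), (.u, true), (.a, true), (.w, false), (.u, true)],
  [(.w, true), (.u, true), (.w, true), (.u, true), (.a, true), (.w, false), (.u, true)],
  [(.w, false), (.u, true), (.w, true), (.u, true), (.a, true), (.w, false), (.u, true)],
  [(.u, true), (.a, true), (.w, false), (.u, true), (.a, true), (.w, false), (.u, true)],
  [(.w, true), (.a, true), (.w, false), (.u, true), (.a, true), (.w, false), (.u, true)],
  [(.w, false), (.a, true), (.w, false), (.u, true), (.a, true), (.w, false), (.u, true)],
  [(.w, true), (.u, true), (.w, false), (.u, true), (.a, true), (.w, false), (.u, true)],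
  [(.w, true), (.u, true), (.a, true), (.w, true), (.a, true), (.w, false), (.u, true)],
  [(.w, false), (.u, true), (.a, true), (.w, true), (.a, true), (.w, false), (.u, true)],
  [(.u, true), (.w, true), (.a, true), (.w, true), (.a, true), (.w, false), (.u, true)],
  [(.a, true), (.w, false), (.a, true), (.w, true), (.a, true), (.w, false), (.u, true)],
  [(.u, true), (.w, false), (.a, true), (.w, true), (.a, true), (.w, false), (.u, true)],
  [(.a, true), (.w, true), (.u, true), (.w, true), (.a, true), (.w, false), (.u, true)],
  [(.a, true), (.w, false), (.u, true), (.w, true), (.a, true), (.w, false), (.u, true)],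
  [(.w, true), (.u, true), (.a, true), (.w, false), (.a, true), (.w, false), (.u, true)],
  [(.w, false), (.u, true), (.a, true), (.w, false), (.a, true), (.w, false), (.u, true)],
  [(.u, true), (.w, true), (.a, true), (.w, false), (.a, true), (.w, false), (.u, true)],
  [(.a, true), (.w, true), (.u, true), (.w, false), (.a, true), (.w, false), (.u, true)],
  [(.a, true), (.w, false), (.u, true), (.w, false), (.a, true), (.w, false), (.u, true)],
  [(.u, true), (.w, false), (.u, true), (.w, false), (.a, true), (.w, false), (.u, true)],
  [(.w, true), (.u, true), (.a, true), (.w, true), (.u, true), (.w, false), (.u, true)],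
  [(.w, false), (.u, true), (.a, true), (.w, true), (.u, true), (.w, false), (.u, true)],
  [(.a, true), (.w, true), (.a, true), (.w, true), (.u, true), (.w, false), (.u, true)],
  [(.a, true), (.w, false), (.a, true), (.w, true), (.u, true), (.w, false), (.u, true)],
  [(.a, true), (.w, false), (.u, true), (.w, true), (.u, true), (.w, false), (.u, true)],
  [(.u, true), (.w, false), (.u, true), (.w, true), (.u, true), (.w, false), (.u, true)],
  [(.w, true), (.u, true), (.a, true), (.w, false), (.u, true), (.w, false), (.u, true)],
  [(.a, true), (.w, true), (.a, true), (.w, false), (.u, true), (.w, false), (.u, true)],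
  [(.a, true), (.w, false), (.a, true), (.w, false), (.u, true), (.w, false), (.u, true)],
  [(.u, true), (.w, false), (.a, true), (.w, false), (.u, true), (.w, false), (.u, true)],
  [(.w, true), (.u, true), (.a, true), (.w, true), (.u, true), (.a, true), (.w, true)],
  [(.w, false), (.u, true), (.a, true), (.w, true), (.u, true), (.a, true), (.w, true)],
  [(.a, true), (.w, true), (.a, true), (.w, true), (.u, true), (.a, true), (.w, true)],
  [(.u, true), (.w, true), (.a, true), (.w, true), (.u, true), (.a, true), (.w, true)],
  [(.a, true), (.w, false), (.a, true), (.w, true), (.u, true), (.a, true), (.w, true)],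
  [(.u, true), (.w, false), (.a, true), (.w, true), (.u, true), (.a, true), (.w, true)],
  [(.a, true), (.w, true), (.u, true), (.w, true), (.u, true), (.a, true), (.w, true)],
  [(.a, true), (.w, false), (.u, true), (.w, true), (.u, true), (.a, true), (.w, true)],
  [(.u, true), (.w, false), (.u, true), (.w, true), (.u, true), (.a, true), (.w, true)],
  [(.w, true), (.u, true), (.a, true), (.w, false), (.u, true), (.a, true), (.w, true)],
  [(.w, false), (.u, true), (.a, true), (.w, false), (.u, true), (.a, true), (.w, true)],
  [(.a, true), (.w, true), (.a, true), (.w, false), (.u, true), (.a, true), (.w, true)],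
  [(.u, true), (.w, true), (.a, true), (.w, false), (.u, true), (.a, true), (.w, true)],
  [(.u, true), (.w, false), (.a, true), (.w, false), (.u, true), (.a, true), (.w, true)],
  [(.a, true), (.w, true), (.u, true), (.w, false), (.u, true), (.a, true), (.w, true)],
  [(.u, true), (.w, true), (.u, true), (.w, false), (.u, true), (.a, true), (.w, true)],
  [(.a, true), (.w, false), (.u, true), (.w, false), (.u, true), (.a, true), (.w, true)],
  [(.u, true), (.w, false), (.u, true), (.w, false), (.u, true), (.a, true), (.w, true)],
  [(.a, true), (.w, true), (.u, true), (.a, true), (.w, true), (.a, true), (.w, true)],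
  [(.u, true), (.w, true), (.u, true), (.a, true), (.w, true), (.a, true), (.w, true)],
  [(.u, true), (.w, false), (.u, true), (.a, true), (.w, true), (.a, true), (.w, true)],
  [(.w, true), (.u, true), (.w, false), (.a, true), (.w, true), (.a, true), (.w, true)],
  [(.u, true), (.a, true), (.w, true), (.u, true), (.w, true), (.a, true), (.w, true)],
  [(.w, true), (.a, true), (.w, true), (.u, true), (.w, true), (.a, true), (.w, true)],
  [(.u, true), (.a, true), (.w, false), (.u, true), (.w, true), (.a, true), (.w, true)],
  [(.a, true), (.w, true), (.u, true), (.a, true), (.w, false), (.a, true), (.w, true)],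
  [(.u, true), (.w, true), (.u, true), (.a, true), (.w, false), (.a, true), (.w, true)],
  [(.a, true), (.w, false), (.u, true), (.a, true), (.w, false), (.a, true), (.w, true)],
  [(.u, true), (.w, false), (.u, true), (.a, true), (.w, false), (.a, true), (.w, true)],
  [(.u, true), (.a, true), (.w, true), (.a, true), (.w, false), (.a, true), (.w, true)],
  [(.w, false), (.a, true), (.w, true), (.a, true), (.w, false), (.a, true), (.w, true)],
  [(.w, true), (.u, true), (.w, true), (.a, true), (.w, false), (.a, true), (.w, true)],
  [(.w, false), (.u, true), (.w, true), (.a, true), (.w, false), (.a, true), (.w, true)],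
  [(.w, true), (.u, true), (.w, false), (.a, true), (.w, false), (.a, true), (.w, true)],
  [(.w, false), (.u, true), (.w, false), (.a, true), (.w, false), (.a, true), (.w, true)],
  [(.w, true), (.a, true), (.w, true), (.u, true), (.w, false), (.a, true), (.w, true)],
  [(.w, false), (.a, true), (.w, true), (.u, true), (.w, false), (.a, true), (.w, true)],
  [(.w, true), (.a, true), (.w, false), (.u, true), (.w, false), (.a, true), (.w, true)],
  [(.a, true), (.w, true), (.u, true), (.a, true), (.w, true), (.u, true), (.w, true)],
  [(.a, true), (.w, false), (.u, true), (.a, true), (.w, true), (.u, true), (.w, true)],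
  [(.u, true), (.w, false), (.u, true), (.a, true), (.w, true), (.u, true), (.w, true)],
  [(.u, true), (.a, true), (.w, true), (.a, true), (.w, true), (.u, true), (.w, true)],
  [(.w, false), (.a, true), (.w, true), (.a, true), (.w, true), (.u, true), (.w, true)],
  [(.w, true), (.u, true), (.w, true), (.a, true), (.w, true), (.u, true), (.w, true)],
  [(.w, false), (.u, true), (.w, true), (.a, true), (.w, true), (.u, true), (.w, true)],
  [(.w, true), (.a, true), (.w, false), (.a, true), (.w, true), (.u, true), (.w, true)],
  [(.w, true), (.u, true), (.w, false), (.u, true), (.w, true), (.u, true), (.w, true)],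
  [(.w, false), (.u, true), (.w, false), (.u, true), (.w, true), (.u, true), (.w, true)],
  [(.a, true), (.w, true), (.u, true), (.a, true), (.w, false), (.u, true), (.w, true)],
  [(.u, true), (.w, true), (.u, true), (.a, true), (.w, false), (.u, true), (.w, true)],
  [(.a, true), (.w, false), (.u, true), (.a, true), (.w, false), (.u, true), (.w, true)],
  [(.u, true), (.w, false), (.u, true), (.a, true), (.w, false), (.u, true), (.w, true)],
  [(.w, true), (.a, true), (.w, true), (.a, true), (.w, false), (.u, true), (.w, true)],
  [(.w, false), (.a, true), (.w, true), (.a, true), (.w, false), (.u, true), (.w, true)],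
  [(.u, true), (.a, true), (.w, false), (.a, true), (.w, false), (.u, true), (.w, true)],
  [(.u, true), (.a, true), (.w, true), (.u, true), (.w, false), (.u, true), (.w, true)],
  [(.w, true), (.a, true), (.w, true), (.u, true), (.w, false), (.u, true), (.w, true)],
  [(.w, true), (.u, true), (.w, true), (.u, true), (.w, false), (.u, true), (.w, true)],
  [(.w, false), (.u, true), (.w, true), (.u, true), (.w, false), (.u, true), (.w, true)],
  [(.w, true), (.u, true), (.a, true), (.w, true), (.u, true), (.a, true), (.w, false)],
  [(.w, false), (.u, true), (.a, true), (.w, true), (.u, true), (.a, true), (.w, false)],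
  [(.u, true), (.w, true), (.a, true), (.w, true), (.u, true), (.a, true), (.w, false)],
  [(.a, true), (.w, false), (.a, true), (.w, true), (.u, true), (.a, true), (.w, false)],
  [(.u, true), (.w, false), (.a, true), (.w, true), (.u, true), (.a, true), (.w, false)],
  [(.a, true), (.w, true), (.u, true), (.w, true), (.u, true), (.a, true), (.w, false)],
  [(.a, true), (.w, false), (.u, true), (.w, true), (.u, true), (.a, true), (.w, false)],
  [(.u, true), (.w, false), (.u, true), (.w, true), (.u, true), (.a, true), (.w, false)],
  [(.w, true), (.u, true), (.a, true), (.w, false), (.u, true), (.a, true), (.w, false)],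
  [(.w, false), (.u, true), (.a, true), (.w, false), (.u, true), (.a, true), (.w, false)],
  [(.a, true), (.w, true), (.a, true), (.w, false), (.u, true), (.a, true), (.w, false)],
  [(.u, true), (.w, true), (.a, true), (.w, false), (.u, true), (.a, true), (.w, false)],
  [(.u, true), (.w, false), (.a, true), (.w, false), (.u, true), (.a, true), (.w, false)],
  [(.a, true), (.w, true), (.u, true), (.w, false), (.u, true), (.a, true), (.w, false)],
  [(.u, true), (.w, true), (.u, true), (.w, false), (.u, true), (.a, true), (.w, false)],
  [(.a, true), (.w, false), (.u, true), (.w, false), (.u, true), (.a, true), (.w, false)],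
  [(.a, true), (.w, true), (.u, true), (.a, true), (.w, true), (.a, true), (.w, false)],
  [(.u, true), (.w, true), (.u, true), (.a, true), (.w, true), (.a, true), (.w, false)],
  [(.u, true), (.w, false), (.u, true), (.a, true), (.w, true), (.a, true), (.w, false)],
  [(.w, true), (.u, true), (.w, true), (.a, true), (.w, true), (.a, true), (.w, false)],
  [(.u, true), (.a, true), (.w, false), (.a, true), (.w, true), (.a, true), (.w, false)],
  [(.w, true), (.u, true), (.w, false), (.a, true), (.w, true), (.a, true), (.w, false)],
  [(.w, false), (.u, true), (.w, false), (.a, true), (.w, true), (.a, true), (.w, false)],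
  [(.w, false), (.a, true), (.w, true), (.u, true), (.w, true), (.a, true), (.w, false)],
  [(.w, true), (.a, true), (.w, false), (.u, true), (.w, true), (.a, true), (.w, false)],
  [(.u, true), (.w, true), (.u, true), (.a, true), (.w, false), (.a, true), (.w, false)],
  [(.a, true), (.w, false), (.u, true), (.a, true), (.w, false), (.a, true), (.w, false)],
  [(.u, true), (.w, false), (.u, true), (.a, true), (.w, false), (.a, true), (.w, false)],
  [(.w, false), (.u, true), (.w, true), (.a, true), (.w, false), (.a, true), (.w, false)],
  [(.u, true), (.a, true), (.w, true), (.u, true), (.w, false), (.a, true), (.w, false)],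
  [(.u, true), (.a, true), (.w, false), (.u, true), (.w, false), (.a, true), (.w, false)],
  [(.w, false), (.a, true), (.w, false), (.u, true), (.w, false), (.a, true), (.w, false)],
  [(.a, true), (.w, true), (.u, true), (.a, true), (.w, true), (.u, true), (.w, false)],
  [(.a, true), (.w, false), (.u, true), (.a, true), (.w, true), (.u, true), (.w, false)],
  [(.u, true), (.w, false), (.u, true), (.a, true), (.w, true), (.u, true), (.w, false)],
  [(.u, true), (.a, true), (.w, true), (.a, true), (.w, true), (.u, true), (.w, false)],
  [(.w, true), (.a, true), (.w, false), (.a, true), (.w, true), (.u, true), (.w, false)],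
  [(.w, false), (.a, true), (.w, false), (.a, true), (.w, true), (.u, true), (.w, false)],
  [(.u, true), (.a, true), (.w, false), (.u, true), (.w, true), (.u, true), (.w, false)],
  [(.w, true), (.u, true), (.w, false), (.u, true), (.w, true), (.u, true), (.w, false)],
  [(.w, false), (.u, true), (.w, false), (.u, true), (.w, true), (.u, true), (.w, false)],
  [(.a, true), (.w, true), (.u, true), (.a, true), (.w, false), (.u, true), (.w, false)],
  [(.u, true), (.w, true), (.u, true), (.a, true), (.w, false), (.u, true), (.w, false)],
  [(.a, true), (.w, false), (.u, true), (.a, true), (.w, false), (.u, true), (.w, false)],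
  [(.w, false), (.a, true), (.w, true), (.a, true), (.w, false), (.u, true), (.w, false)],
  [(.u, true), (.a, true), (.w, false), (.a, true), (.w, false), (.u, true), (.w, false)],
  [(.w, true), (.a, true), (.w, false), (.a, true), (.w, false), (.u, true), (.w, false)],
  [(.w, false), (.u, true), (.w, false), (.a, true), (.w, false), (.u, true), (.w, false)],
  [(.w, true), (.u, true), (.w, true), (.u, true), (.w, false), (.u, true), (.w, false)],
  [(.w, false), (.u, true), (.w, true), (.u, true), (.w, false), (.u, true), (.w, false)],
  [(.w, true), (.a, true), (.w, true), (.u, true), (.a, true), (.w, true), (.u, true), (.a, true)],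
  [(.w, false), (.a, true), (.w, true), (.u, true), (.a, true), (.w, true), (.u, true), (.a, true)],
  [(.w, false), (.u, true), (.w, true), (.u, true), (.a, true), (.w, true), (.u, true), (.a, true)],
  [(.u, true), (.a, true), (.w, false), (.u, true), (.a, true), (.w, true), (.u, true), (.a, true)],
  [(.w, true), (.a, true), (.w, false), (.u, true), (.a, true), (.w, true), (.u, true), (.a, true)],
  [(.w, true), (.u, true), (.w, false), (.u, true), (.a, true), (.w, true), (.u, true), (.a, true)],
  [(.w, false), (.u, true), (.w, false), (.u, true), (.a, true), (.w, true), (.u, true), (.a, true)],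
  [(.w, true), (.u, true), (.a, true), (.w, true), (.a, true), (.w, true), (.u, true), (.a, true)],
  [(.u, true), (.w, false), (.a, true), (.w, true), (.a, true), (.w, true), (.u, true), (.a, true)],
  [(.a, true), (.w, true), (.u, true), (.w, true), (.a, true), (.w, true), (.u, true), (.a, true)],
  [(.u, true), (.w, true), (.u, true), (.w, true), (.a, true), (.w, true), (.u, true), (.a, true)],
  [(.w, true), (.u, true), (.a, true), (.w, false), (.a, true), (.w, true), (.u, true), (.a, true)],
  [(.w, false), (.u, true), (.a, true), (.w, false), (.a, true), (.w, true), (.u, true), (.a, true)],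
  [(.a, true), (.w, true), (.a, true), (.w, false), (.a, true), (.w, true), (.u, true), (.a, true)],
  [(.u, true), (.w, true), (.a, true), (.w, false), (.a, true), (.w, true), (.u, true), (.a, true)],
  [(.u, true), (.w, false), (.a, true), (.w, false), (.a, true), (.w, true), (.u, true), (.a, true)],
  [(.a, true), (.w, true), (.u, true), (.w, false), (.a, true), (.w, true), (.u, true), (.a, true)],
  [(.a, true), (.w, false), (.u, true), (.w, false), (.a, true), (.w, true), (.u, true), (.a, true)],
  [(.w, false), (.u, true), (.a, true), (.w, true), (.u, true), (.w, true), (.u, true), (.a, true)],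
  [(.a, true), (.w, true), (.a, true), (.w, true), (.u, true), (.w, true), (.u, true), (.a, true)],
  [(.u, true), (.w, true), (.a, true), (.w, true), (.u, true), (.w, true), (.u, true), (.a, true)],
  [(.a, true), (.w, false), (.a, true), (.w, true), (.u, true), (.w, true), (.u, true), (.a, true)],
  [(.w, true), (.u, true), (.a, true), (.w, false), (.u, true), (.w, true), (.u, true), (.a, true)],
  [(.w, false), (.u, true), (.a, true), (.w, false), (.u, true), (.w, true), (.u, true), (.a, true)],
  [(.a, true), (.w, true), (.a, true), (.w, false), (.u, true), (.w, true), (.u, true), (.a, true)],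
  [(.a, true), (.w, true), (.u, true), (.w, false), (.u, true), (.w, true), (.u, true), (.a, true)],
  [(.u, true), (.w, true), (.u, true), (.w, false), (.u, true), (.w, true), (.u, true), (.a, true)],
  [(.u, true), (.a, true), (.w, true), (.u, true), (.a, true), (.w, false), (.u, true), (.a, true)],
  [(.w, false), (.a, true), (.w, true), (.u, true), (.a, true), (.w, false), (.u, true), (.a, true)],
  [(.w, true), (.u, true), (.w, true), (.u, true), (.a, true), (.w, false), (.u, true), (.a, true)],
  [(.w, false), (.u, true), (.w, true), (.u, true), (.a, true), (.w, false), (.u, true), (.a, true)],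
  [(.w, true), (.a, true), (.w, false), (.u, true), (.a, true), (.w, false), (.u, true), (.a, true)],
  [(.w, false), (.a, true), (.w, false), (.u, true), (.a, true), (.w, false), (.u, true), (.a, true)],
  [(.w, true), (.u, true), (.w, false), (.u, true), (.a, true), (.w, false), (.u, true), (.a, true)],
  [(.w, true), (.u, true), (.a, true), (.w, true), (.a, true), (.w, false), (.u, true), (.a, true)],
  [(.w, false), (.u, true), (.a, true), (.w, true), (.a, true), (.w, false), (.u, true), (.a, true)],
  [(.u, true), (.w, true), (.a, true), (.w, true), (.a, true), (.w, false), (.u, true), (.a, true)],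
  [(.a, true), (.w, false), (.a, true), (.w, true), (.a, true), (.w, false), (.u, true), (.a, true)],
  [(.u, true), (.w, false), (.a, true), (.w, true), (.a, true), (.w, false), (.u, true), (.a, true)],
  [(.a, true), (.w, true), (.u, true), (.w, true), (.a, true), (.w, false), (.u, true), (.a, true)],
  [(.a, true), (.w, false), (.u, true), (.w, true), (.a, true), (.w, false), (.u, true), (.a, true)],
  [(.w, false), (.u, true), (.a, true), (.w, false), (.a, true), (.w, false), (.u, true), (.a, true)],
  [(.u, true), (.w, true), (.a, true), (.w, false), (.a, true), (.w, false), (.u, true), (.a, true)],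
  [(.a, true), (.w, false), (.u, true), (.w, false), (.a, true), (.w, false), (.u, true), (.a, true)],
  [(.u, true), (.w, false), (.u, true), (.w, false), (.a, true), (.w, false), (.u, true), (.a, true)],
  [(.w, true), (.u, true), (.a, true), (.w, true), (.u, true), (.w, false), (.u, true), (.a, true)],
  [(.w, false), (.u, true), (.a, true), (.w, true), (.u, true), (.w, false), (.u, true), (.a, true)],
  [(.a, true), (.w, false), (.a, true), (.w, true), (.u, true), (.w, false), (.u, true), (.a, true)],
  [(.a, true), (.w, false), (.u, true), (.w, true), (.u, true), (.w, false), (.u, true), (.a, true)],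
  [(.u, true), (.w, false), (.u, true), (.w, true), (.u, true), (.w, false), (.u, true), (.a, true)],
  [(.w, true), (.u, true), (.a, true), (.w, false), (.u, true), (.w, false), (.u, true), (.a, true)],
  [(.a, true), (.w, true), (.a, true), (.w, false), (.u, true), (.w, false), (.u, true), (.a, true)],
  [(.a, true), (.w, false), (.a, true), (.w, false), (.u, true), (.w, false), (.u, true), (.a, true)],
  [(.u, true), (.w, false), (.a, true), (.w, false), (.u, true), (.w, false), (.u, true), (.a, true)],
  [(.w, false), (.u, true), (.a, true), (.w, true), (.u, true), (.a, true), (.w, true), (.a, true)],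
  [(.a, true), (.w, true), (.a, true), (.w, true), (.u, true), (.a, true), (.w, true), (.a, true)],
  [(.u, true), (.w, true), (.a, true), (.w, true), (.u, true), (.a, true), (.w, true), (.a, true)],
  [(.a, true), (.w, false), (.a, true), (.w, true), (.u, true), (.a, true), (.w, true), (.a, true)],
  [(.u, true), (.w, false), (.a, true), (.w, true), (.u, true), (.a, true), (.w, true), (.a, true)],
  [(.a, true), (.w, true), (.u, true), (.w, true), (.u, true), (.a, true), (.w, true), (.a, true)],
  [(.a, true), (.w, false), (.u, true), (.w, true), (.u, true), (.a, true), (.w, true), (.a, true)],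
  [(.u, true), (.w, false), (.u, true), (.w, true), (.u, true), (.a, true), (.w, true), (.a, true)],
  [(.w, true), (.u, true), (.a, true), (.w, false), (.u, true), (.a, true), (.w, true), (.a, true)],
  [(.w, false), (.u, true), (.a, true), (.w, false), (.u, true), (.a, true), (.w, true), (.a, true)],
  [(.a, true), (.w, true), (.a, true), (.w, false), (.u, true), (.a, true), (.w, true), (.a, true)],
  [(.u, true), (.w, true), (.a, true), (.w, false), (.u, true), (.a, true), (.w, true), (.a, true)],
  [(.a, true), (.w, true), (.u, true), (.w, false), (.u, true), (.a, true), (.w, true), (.a, true)],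
  [(.u, true), (.w, true), (.u, true), (.w, false), (.u, true), (.a, true), (.w, true), (.a, true)],
  [(.a, true), (.w, false), (.u, true), (.w, false), (.u, true), (.a, true), (.w, true), (.a, true)],
  [(.u, true), (.w, false), (.u, true), (.w, false), (.u, true), (.a, true), (.w, true), (.a, true)],
  [(.a, true), (.w, true), (.u, true), (.a, true), (.w, true), (.a, true), (.w, true), (.a, true)],
  [(.u, true), (.w, true), (.u, true), (.a, true), (.w, true), (.a, true), (.w, true), (.a, true)],
  [(.u, true), (.a, true), (.w, true), (.u, true), (.w, true), (.a, true), (.w, true), (.a, true)],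
  [(.a, true), (.w, true), (.u, true), (.a, true), (.w, false), (.a, true), (.w, true), (.a, true)],
  [(.u, true), (.w, true), (.u, true), (.a, true), (.w, false), (.a, true), (.w, true), (.a, true)],
  [(.a, true), (.w, false), (.u, true), (.a, true), (.w, false), (.a, true), (.w, true), (.a, true)],
  [(.u, true), (.w, false), (.u, true), (.a, true), (.w, false), (.a, true), (.w, true), (.a, true)],
  [(.u, true), (.a, true), (.w, true), (.a, true), (.w, false), (.a, true), (.w, true), (.a, true)],
  [(.w, false), (.a, true), (.w, true), (.a, true), (.w, false), (.a, true), (.w, true), (.a, true)],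
  [(.w, true), (.u, true), (.w, true), (.a, true), (.w, false), (.a, true), (.w, true), (.a, true)],
  [(.w, false), (.u, true), (.w, true), (.a, true), (.w, false), (.a, true), (.w, true), (.a, true)],
  [(.w, true), (.u, true), (.w, false), (.a, true), (.w, false), (.a, true), (.w, true), (.a, true)],
  [(.w, false), (.u, true), (.w, false), (.a, true), (.w, false), (.a, true), (.w, true), (.a, true)],
  [(.w, true), (.a, true), (.w, true), (.u, true), (.w, false), (.a, true), (.w, true), (.a, true)],
  [(.w, false), (.a, true), (.w, true), (.u, true), (.w, false), (.a, true), (.w, true), (.a, true)],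
  [(.a, true), (.w, true), (.u, true), (.a, true), (.w, true), (.u, true), (.w, true), (.a, true)],
  [(.a, true), (.w, false), (.u, true), (.a, true), (.w, true), (.u, true), (.w, true), (.a, true)],
  [(.u, true), (.w, false), (.u, true), (.a, true), (.w, true), (.u, true), (.w, true), (.a, true)],
  [(.u, true), (.a, true), (.w, true), (.a, true), (.w, true), (.u, true), (.w, true), (.a, true)],
  [(.w, true), (.u, true), (.w, true), (.a, true), (.w, true), (.u, true), (.w, true), (.a, true)],
  [(.w, false), (.u, true), (.w, true), (.a, true), (.w, true), (.u, true), (.w, true), (.a, true)],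
  [(.w, true), (.u, true), (.w, false), (.u, true), (.w, true), (.u, true), (.w, true), (.a, true)],
  [(.w, false), (.u, true), (.w, false), (.u, true), (.w, true), (.u, true), (.w, true), (.a, true)],
  [(.a, true), (.w, true), (.u, true), (.a, true), (.w, false), (.u, true), (.w, true), (.a, true)],
  [(.u, true), (.w, true), (.u, true), (.a, true), (.w, false), (.u, true), (.w, true), (.a, true)],
  [(.a, true), (.w, false), (.u, true), (.a, true), (.w, false), (.u, true), (.w, true), (.a, true)],
  [(.u, true), (.w, false), (.u, true), (.a, true), (.w, false), (.u, true), (.w, true), (.a, true)],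
  [(.w, true), (.a, true), (.w, true), (.a, true), (.w, false), (.u, true), (.w, true), (.a, true)],
  [(.w, false), (.a, true), (.w, true), (.a, true), (.w, false), (.u, true), (.w, true), (.a, true)],
  [(.u, true), (.a, true), (.w, true), (.u, true), (.w, false), (.u, true), (.w, true), (.a, true)],
  [(.w, true), (.a, true), (.w, true), (.u, true), (.w, false), (.u, true), (.w, true), (.a, true)],
  [(.w, true), (.u, true), (.w, true), (.u, true), (.w, false), (.u, true), (.w, true), (.a, true)],
  [(.w, false), (.u, true), (.w, true), (.u, true), (.w, false), (.u, true), (.w, true), (.a, true)],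
  [(.w, true), (.u, true), (.a, true), (.w, true), (.u, true), (.a, true), (.w, false), (.a, true)],
  [(.w, false), (.u, true), (.a, true), (.w, true), (.u, true), (.a, true), (.w, false), (.a, true)],
  [(.a, true), (.w, false), (.a, true), (.w, true), (.u, true), (.a, true), (.w, false), (.a, true)],
  [(.u, true), (.w, false), (.a, true), (.w, true), (.u, true), (.a, true), (.w, false), (.a, true)],
  [(.a, true), (.w, true), (.u, true), (.w, true), (.u, true), (.a, true), (.w, false), (.a, true)],
  [(.a, true), (.w, false), (.u, true), (.w, true), (.u, true), (.a, true), (.w, false), (.a, true)],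
  [(.u, true), (.w, false), (.u, true), (.w, true), (.u, true), (.a, true), (.w, false), (.a, true)],
  [(.w, true), (.u, true), (.a, true), (.w, false), (.u, true), (.a, true), (.w, false), (.a, true)],
  [(.a, true), (.w, true), (.a, true), (.w, false), (.u, true), (.a, true), (.w, false), (.a, true)],
  [(.u, true), (.w, true), (.a, true), (.w, false), (.u, true), (.a, true), (.w, false), (.a, true)],
  [(.u, true), (.w, false), (.a, true), (.w, false), (.u, true), (.a, true), (.w, false), (.a, true)],
  [(.a, true), (.w, true), (.u, true), (.w, false), (.u, true), (.a, true), (.w, false), (.a, true)],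
  [(.u, true), (.w, true), (.u, true), (.w, false), (.u, true), (.a, true), (.w, false), (.a, true)],
  [(.a, true), (.w, false), (.u, true), (.w, false), (.u, true), (.a, true), (.w, false), (.a, true)],
  [(.a, true), (.w, true), (.u, true), (.a, true), (.w, true), (.a, true), (.w, false), (.a, true)],
  [(.u, true), (.w, true), (.u, true), (.a, true), (.w, true), (.a, true), (.w, false), (.a, true)],
  [(.u, true), (.w, false), (.u, true), (.a, true), (.w, true), (.a, true), (.w, false), (.a, true)],
  [(.w, true), (.u, true), (.w, true), (.a, true), (.w, true), (.a, true), (.w, false), (.a, true)],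
  [(.u, true), (.a, true), (.w, false), (.a, true), (.w, true), (.a, true), (.w, false), (.a, true)],
  [(.w, true), (.u, true), (.w, false), (.a, true), (.w, true), (.a, true), (.w, false), (.a, true)],
  [(.w, false), (.u, true), (.w, false), (.a, true), (.w, true), (.a, true), (.w, false), (.a, true)],
  [(.w, true), (.a, true), (.w, false), (.u, true), (.w, true), (.a, true), (.w, false), (.a, true)],
  [(.a, true), (.w, false), (.u, true), (.a, true), (.w, false), (.a, true), (.w, false), (.a, true)],
  [(.u, true), (.w, false), (.u, true), (.a, true), (.w, false), (.a, true), (.w, false), (.a, true)],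
  [(.u, true), (.a, true), (.w, false), (.u, true), (.w, false), (.a, true), (.w, false), (.a, true)],
  [(.a, true), (.w, true), (.u, true), (.a, true), (.w, true), (.u, true), (.w, false), (.a, true)],
  [(.a, true), (.w, false), (.u, true), (.a, true), (.w, true), (.u, true), (.w, false), (.a, true)],
  [(.u, true), (.w, false), (.u, true), (.a, true), (.w, true), (.u, true), (.w, false), (.a, true)],
  [(.w, true), (.a, true), (.w, false), (.a, true), (.w, true), (.u, true), (.w, false), (.a, true)],
  [(.w, false), (.a, true), (.w, false), (.a, true), (.w, true), (.u, true), (.w, false), (.a, true)],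
  [(.u, true), (.a, true), (.w, false), (.u, true), (.w, true), (.u, true), (.w, false), (.a, true)],
  [(.w, true), (.u, true), (.w, false), (.u, true), (.w, true), (.u, true), (.w, false), (.a, true)],
  [(.w, false), (.u, true), (.w, false), (.u, true), (.w, true), (.u, true), (.w, false), (.a, true)],
  [(.a, true), (.w, true), (.u, true), (.a, true), (.w, false), (.u, true), (.w, false), (.a, true)],
  [(.u, true), (.w, true), (.u, true), (.a, true), (.w, false), (.u, true), (.w, false), (.a, true)],
  [(.a, true), (.w, false), (.u, true), (.a, true), (.w, false), (.u, true), (.w, false), (.a, true)],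
  [(.u, true), (.a, true), (.w, false), (.a, true), (.w, false), (.u, true), (.w, false), (.a, true)],
  [(.w, false), (.u, true), (.w, false), (.a, true), (.w, false), (.u, true), (.w, false), (.a, true)],
  [(.w, true), (.u, true), (.w, true), (.u, true), (.w, false), (.u, true), (.w, false), (.a, true)],
  [(.w, false), (.u, true), (.w, true), (.u, true), (.w, false), (.u, true), (.w, false), (.a, true)],
  [(.a, true), (.w, true), (.a, true), (.w, true), (.u, true), (.a, true), (.w, true), (.u, true)],
  [(.u, true), (.w, true), (.a, true), (.w, true), (.u, true), (.a, true), (.w, true), (.u, true)],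
  [(.a, true), (.w, false), (.u, true), (.w, true), (.u, true), (.a, true), (.w, true), (.u, true)],
  [(.u, true), (.w, false), (.u, true), (.w, true), (.u, true), (.a, true), (.w, true), (.u, true)],
  [(.w, true), (.u, true), (.a, true), (.w, false), (.u, true), (.a, true), (.w, true), (.u, true)],
  [(.w, false), (.u, true), (.a, true), (.w, false), (.u, true), (.a, true), (.w, true), (.u, true)],
  [(.a, true), (.w, true), (.u, true), (.w, false), (.u, true), (.a, true), (.w, true), (.u, true)],
  [(.u, true), (.w, true), (.u, true), (.w, false), (.u, true), (.a, true), (.w, true), (.u, true)],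
  [(.a, true), (.w, false), (.u, true), (.w, false), (.u, true), (.a, true), (.w, true), (.u, true)],
  [(.u, true), (.w, false), (.u, true), (.w, false), (.u, true), (.a, true), (.w, true), (.u, true)],
  [(.a, true), (.w, true), (.u, true), (.a, true), (.w, true), (.a, true), (.w, true), (.u, true)],
  [(.u, true), (.w, true), (.u, true), (.a, true), (.w, true), (.a, true), (.w, true), (.u, true)],
  [(.w, true), (.u, true), (.w, false), (.a, true), (.w, true), (.a, true), (.w, true), (.u, true)],
  [(.u, true), (.a, true), (.w, true), (.u, true), (.w, true), (.a, true), (.w, true), (.u, true)],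
  [(.w, true), (.a, true), (.w, true), (.u, true), (.w, true), (.a, true), (.w, true), (.u, true)],
  [(.u, true), (.a, true), (.w, true), (.a, true), (.w, false), (.a, true), (.w, true), (.u, true)],
  [(.w, false), (.a, true), (.w, true), (.a, true), (.w, false), (.a, true), (.w, true), (.u, true)],
  [(.w, true), (.u, true), (.w, true), (.a, true), (.w, false), (.a, true), (.w, true), (.u, true)],
  [(.w, false), (.u, true), (.w, true), (.a, true), (.w, false), (.a, true), (.w, true), (.u, true)],
  [(.w, true), (.u, true), (.w, false), (.a, true), (.w, false), (.a, true), (.w, true), (.u, true)],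
  [(.w, false), (.u, true), (.w, false), (.a, true), (.w, false), (.a, true), (.w, true), (.u, true)],
  [(.w, false), (.a, true), (.w, true), (.u, true), (.w, false), (.a, true), (.w, true), (.u, true)],
  [(.w, true), (.a, true), (.w, false), (.u, true), (.w, false), (.a, true), (.w, true), (.u, true)],
  [(.a, true), (.w, false), (.u, true), (.a, true), (.w, true), (.u, true), (.w, true), (.u, true)],
  [(.u, true), (.w, false), (.u, true), (.a, true), (.w, true), (.u, true), (.w, true), (.u, true)],
  [(.u, true), (.a, true), (.w, true), (.a, true), (.w, true), (.u, true), (.w, true), (.u, true)],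
  [(.w, false), (.a, true), (.w, true), (.a, true), (.w, true), (.u, true), (.w, true), (.u, true)],
  [(.w, true), (.u, true), (.w, true), (.a, true), (.w, true), (.u, true), (.w, true), (.u, true)],
  [(.w, false), (.u, true), (.w, true), (.a, true), (.w, true), (.u, true), (.w, true), (.u, true)],
  [(.w, true), (.a, true), (.w, false), (.a, true), (.w, true), (.u, true), (.w, true), (.u, true)],
  [(.a, true), (.w, true), (.u, true), (.a, true), (.w, false), (.u, true), (.w, true), (.u, true)],
  [(.u, true), (.w, true), (.u, true), (.a, true), (.w, false), (.u, true), (.w, true), (.u, true)],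
  [(.a, true), (.w, false), (.u, true), (.a, true), (.w, false), (.u, true), (.w, true), (.u, true)],
  [(.u, true), (.w, false), (.u, true), (.a, true), (.w, false), (.u, true), (.w, true), (.u, true)],
  [(.w, true), (.a, true), (.w, true), (.a, true), (.w, false), (.u, true), (.w, true), (.u, true)],
  [(.w, false), (.a, true), (.w, true), (.a, true), (.w, false), (.u, true), (.w, true), (.u, true)],
  [(.u, true), (.a, true), (.w, true), (.u, true), (.w, false), (.u, true), (.w, true), (.u, true)],
  [(.w, true), (.a, true), (.w, true), (.u, true), (.w, false), (.u, true), (.w, true), (.u, true)],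
  [(.w, true), (.u, true), (.w, true), (.u, true), (.w, false), (.u, true), (.w, true), (.u, true)],
  [(.w, false), (.u, true), (.w, true), (.u, true), (.w, false), (.u, true), (.w, true), (.u, true)],
  [(.w, true), (.u, true), (.a, true), (.w, true), (.u, true), (.a, true), (.w, false), (.u, true)],
  [(.w, false), (.u, true), (.a, true), (.w, true), (.u, true), (.a, true), (.w, false), (.u, true)],
  [(.a, true), (.w, true), (.u, true), (.w, true), (.u, true), (.a, true), (.w, false), (.u, true)],
  [(.a, true), (.w, false), (.u, true), (.w, true), (.u, true), (.a, true), (.w, false), (.u, true)],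
  [(.u, true), (.w, false), (.u, true), (.w, true), (.u, true), (.a, true), (.w, false), (.u, true)],
  [(.u, true), (.w, false), (.a, true), (.w, false), (.u, true), (.a, true), (.w, false), (.u, true)],
  [(.a, true), (.w, true), (.u, true), (.w, false), (.u, true), (.a, true), (.w, false), (.u, true)],
  [(.u, true), (.w, true), (.u, true), (.w, false), (.u, true), (.a, true), (.w, false), (.u, true)],
  [(.w, true), (.u, true), (.w, true), (.a, true), (.w, true), (.a, true), (.w, false), (.u, true)],
  [(.u, true), (.a, true), (.w, false), (.a, true), (.w, true), (.a, true), (.w, false), (.u, true)],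
  [(.w, true), (.u, true), (.w, false), (.a, true), (.w, true), (.a, true), (.w, false), (.u, true)],
  [(.w, false), (.u, true), (.w, false), (.a, true), (.w, true), (.a, true), (.w, false), (.u, true)],
  [(.w, false), (.a, true), (.w, true), (.u, true), (.w, true), (.a, true), (.w, false), (.u, true)],
  [(.w, true), (.a, true), (.w, false), (.u, true), (.w, true), (.a, true), (.w, false), (.u, true)],
  [(.a, true), (.w, false), (.u, true), (.a, true), (.w, false), (.a, true), (.w, false), (.u, true)],
  [(.u, true), (.w, false), (.u, true), (.a, true), (.w, false), (.a, true), (.w, false), (.u, true)],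
  [(.w, false), (.u, true), (.w, true), (.a, true), (.w, false), (.a, true), (.w, false), (.u, true)],
  [(.u, true), (.a, true), (.w, false), (.u, true), (.w, false), (.a, true), (.w, false), (.u, true)],
  [(.w, false), (.a, true), (.w, false), (.u, true), (.w, false), (.a, true), (.w, false), (.u, true)],
  [(.a, true), (.w, true), (.u, true), (.a, true), (.w, true), (.u, true), (.w, false), (.u, true)],
  [(.a, true), (.w, false), (.u, true), (.a, true), (.w, true), (.u, true), (.w, false), (.u, true)],
  [(.u, true), (.w, false), (.u, true), (.a, true), (.w, true), (.u, true), (.w, false), (.u, true)],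
  [(.w, true), (.a, true), (.w, false), (.a, true), (.w, true), (.u, true), (.w, false), (.u, true)],
  [(.w, false), (.a, true), (.w, false), (.a, true), (.w, true), (.u, true), (.w, false), (.u, true)],
  [(.u, true), (.a, true), (.w, false), (.u, true), (.w, true), (.u, true), (.w, false), (.u, true)],
  [(.w, true), (.u, true), (.w, false), (.u, true), (.w, true), (.u, true), (.w, false), (.u, true)],
  [(.w, false), (.u, true), (.w, false), (.u, true), (.w, true), (.u, true), (.w, false), (.u, true)],
  [(.a, true), (.w, true), (.u, true), (.a, true), (.w, false), (.u, true), (.w, false), (.u, true)],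
  [(.u, true), (.w, true), (.u, true), (.a, true), (.w, false), (.u, true), (.w, false), (.u, true)],
  [(.w, false), (.a, true), (.w, true), (.a, true), (.w, false), (.u, true), (.w, false), (.u, true)],
  [(.u, true), (.a, true), (.w, false), (.a, true), (.w, false), (.u, true), (.w, false), (.u, true)],
  [(.w, true), (.a, true), (.w, false), (.a, true), (.w, false), (.u, true), (.w, false), (.u, true)],
  [(.w, false), (.u, true), (.w, false), (.a, true), (.w, false), (.u, true), (.w, false), (.u, true)],
  [(.u, true), (.w, false), (.u, true), (.a, true), (.w, true), (.u, true), (.a, true), (.w, true)],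
  [(.u, true), (.a, true), (.w, true), (.a, true), (.w, true), (.u, true), (.a, true), (.w, true)],
  [(.w, false), (.u, true), (.w, true), (.a, true), (.w, true), (.u, true), (.a, true), (.w, true)],
  [(.w, true), (.a, true), (.w, false), (.a, true), (.w, true), (.u, true), (.a, true), (.w, true)],
  [(.w, false), (.u, true), (.w, false), (.a, true), (.w, true), (.u, true), (.a, true), (.w, true)],
  [(.w, true), (.a, true), (.w, true), (.u, true), (.w, true), (.u, true), (.a, true), (.w, true)],
  [(.w, false), (.a, true), (.w, true), (.u, true), (.w, true), (.u, true), (.a, true), (.w, true)],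
  [(.u, true), (.a, true), (.w, false), (.u, true), (.w, true), (.u, true), (.a, true), (.w, true)],
  [(.w, true), (.a, true), (.w, false), (.u, true), (.w, true), (.u, true), (.a, true), (.w, true)],
  [(.w, false), (.a, true), (.w, false), (.u, true), (.w, true), (.u, true), (.a, true), (.w, true)],
  [(.w, true), (.u, true), (.w, false), (.u, true), (.w, true), (.u, true), (.a, true), (.w, true)],
  [(.w, false), (.u, true), (.w, false), (.u, true), (.w, true), (.u, true), (.a, true), (.w, true)],
  [(.a, true), (.w, true), (.u, true), (.a, true), (.w, false), (.u, true), (.a, true), (.w, true)],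
  [(.u, true), (.w, true), (.u, true), (.a, true), (.w, false), (.u, true), (.a, true), (.w, true)],
  [(.w, true), (.a, true), (.w, true), (.a, true), (.w, false), (.u, true), (.a, true), (.w, true)],
  [(.w, false), (.a, true), (.w, true), (.a, true), (.w, false), (.u, true), (.a, true), (.w, true)],
  [(.w, false), (.u, true), (.w, true), (.a, true), (.w, false), (.u, true), (.a, true), (.w, true)],
  [(.w, true), (.u, true), (.w, false), (.a, true), (.w, false), (.u, true), (.a, true), (.w, true)],
  [(.w, false), (.u, true), (.w, false), (.a, true), (.w, false), (.u, true), (.a, true), (.w, true)],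
  [(.u, true), (.a, true), (.w, true), (.u, true), (.w, false), (.u, true), (.a, true), (.w, true)],
  [(.w, true), (.a, true), (.w, true), (.u, true), (.w, false), (.u, true), (.a, true), (.w, true)],
  [(.w, true), (.u, true), (.w, true), (.u, true), (.w, false), (.u, true), (.a, true), (.w, true)],
  [(.w, false), (.u, true), (.w, true), (.u, true), (.w, false), (.u, true), (.a, true), (.w, true)],
  [(.u, true), (.a, true), (.w, false), (.u, true), (.w, false), (.u, true), (.a, true), (.w, true)],
  [(.w, true), (.a, true), (.w, false), (.u, true), (.w, false), (.u, true), (.a, true), (.w, true)],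
  [(.w, false), (.a, true), (.w, false), (.u, true), (.w, false), (.u, true), (.a, true), (.w, true)],
  [(.u, true), (.a, true), (.w, true), (.u, true), (.a, true), (.w, true), (.a, true), (.w, true)],
  [(.w, true), (.a, true), (.w, true), (.u, true), (.a, true), (.w, true), (.a, true), (.w, true)],
  [(.w, true), (.u, true), (.w, true), (.u, true), (.a, true), (.w, true), (.a, true), (.w, true)],
  [(.w, false), (.u, true), (.w, true), (.u, true), (.a, true), (.w, true), (.a, true), (.w, true)],
  [(.w, true), (.u, true), (.w, false), (.u, true), (.a, true), (.w, true), (.a, true), (.w, true)],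
  [(.w, false), (.u, true), (.w, false), (.u, true), (.a, true), (.w, true), (.a, true), (.w, true)],
  [(.a, true), (.w, true), (.u, true), (.w, false), (.a, true), (.w, true), (.a, true), (.w, true)],
  [(.w, true), (.u, true), (.a, true), (.w, true), (.u, true), (.w, true), (.a, true), (.w, true)],
  [(.w, false), (.u, true), (.a, true), (.w, true), (.u, true), (.w, true), (.a, true), (.w, true)],
  [(.u, true), (.w, true), (.a, true), (.w, true), (.u, true), (.w, true), (.a, true), (.w, true)],
  [(.w, true), (.u, true), (.a, true), (.w, false), (.u, true), (.w, true), (.a, true), (.w, true)],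
  [(.w, false), (.u, true), (.a, true), (.w, false), (.u, true), (.w, true), (.a, true), (.w, true)],
  [(.w, true), (.u, true), (.w, true), (.u, true), (.a, true), (.w, false), (.a, true), (.w, true)],
  [(.w, true), (.a, true), (.w, false), (.u, true), (.a, true), (.w, false), (.a, true), (.w, true)],
  [(.w, true), (.u, true), (.w, false), (.u, true), (.a, true), (.w, false), (.a, true), (.w, true)],
  [(.w, false), (.u, true), (.w, false), (.u, true), (.a, true), (.w, false), (.a, true), (.w, true)],
  [(.w, true), (.u, true), (.a, true), (.w, true), (.a, true), (.w, false), (.a, true), (.w, true)],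
  [(.w, false), (.u, true), (.a, true), (.w, true), (.a, true), (.w, false), (.a, true), (.w, true)],
  [(.u, true), (.w, true), (.u, true), (.w, false), (.a, true), (.w, false), (.a, true), (.w, true)],
  [(.u, true), (.w, false), (.u, true), (.w, false), (.a, true), (.w, false), (.a, true), (.w, true)],
  [(.w, true), (.a, true), (.w, true), (.u, true), (.a, true), (.w, true), (.u, true), (.w, true)],
  [(.w, false), (.a, true), (.w, true), (.u, true), (.a, true), (.w, true), (.u, true), (.w, true)],
  [(.u, true), (.a, true), (.w, false), (.u, true), (.a, true), (.w, true), (.u, true), (.w, true)],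
  [(.w, true), (.a, true), (.w, false), (.u, true), (.a, true), (.w, true), (.u, true), (.w, true)],
  [(.w, false), (.a, true), (.w, false), (.u, true), (.a, true), (.w, true), (.u, true), (.w, true)],
  [(.w, true), (.u, true), (.w, false), (.u, true), (.a, true), (.w, true), (.u, true), (.w, true)],
  [(.w, false), (.u, true), (.w, false), (.u, true), (.a, true), (.w, true), (.u, true), (.w, true)],
  [(.w, false), (.u, true), (.a, true), (.w, true), (.a, true), (.w, true), (.u, true), (.w, true)],
  [(.u, true), (.w, false), (.a, true), (.w, true), (.a, true), (.w, true), (.u, true), (.w, true)],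
  [(.a, true), (.w, true), (.u, true), (.w, true), (.a, true), (.w, true), (.u, true), (.w, true)],
  [(.u, true), (.w, true), (.u, true), (.w, true), (.a, true), (.w, true), (.u, true), (.w, true)],
  [(.a, true), (.w, false), (.u, true), (.w, true), (.a, true), (.w, true), (.u, true), (.w, true)],
  [(.u, true), (.w, true), (.a, true), (.w, false), (.a, true), (.w, true), (.u, true), (.w, true)],
  [(.a, true), (.w, true), (.u, true), (.w, false), (.u, true), (.w, true), (.u, true), (.w, true)],
  [(.u, true), (.a, true), (.w, true), (.u, true), (.a, true), (.w, false), (.u, true), (.w, true)],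
  [(.w, true), (.a, true), (.w, true), (.u, true), (.a, true), (.w, false), (.u, true), (.w, true)],
  [(.w, true), (.u, true), (.w, true), (.u, true), (.a, true), (.w, false), (.u, true), (.w, true)],
  [(.w, false), (.u, true), (.w, true), (.u, true), (.a, true), (.w, false), (.u, true), (.w, true)],
  [(.u, true), (.a, true), (.w, false), (.u, true), (.a, true), (.w, false), (.u, true), (.w, true)],
  [(.w, true), (.a, true), (.w, false), (.u, true), (.a, true), (.w, false), (.u, true), (.w, true)],
  [(.w, false), (.a, true), (.w, false), (.u, true), (.a, true), (.w, false), (.u, true), (.w, true)],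
  [(.u, true), (.w, true), (.a, true), (.w, true), (.a, true), (.w, false), (.u, true), (.w, true)],
  [(.u, true), (.w, false), (.a, true), (.w, true), (.a, true), (.w, false), (.u, true), (.w, true)],
  [(.w, true), (.u, true), (.a, true), (.w, false), (.a, true), (.w, false), (.u, true), (.w, true)],
  [(.w, false), (.u, true), (.a, true), (.w, false), (.a, true), (.w, false), (.u, true), (.w, true)],
  [(.w, true), (.u, true), (.a, true), (.w, true), (.u, true), (.w, false), (.u, true), (.w, true)],
  [(.w, false), (.u, true), (.a, true), (.w, true), (.u, true), (.w, false), (.u, true), (.w, true)],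
  [(.a, true), (.w, true), (.a, true), (.w, true), (.u, true), (.w, false), (.u, true), (.w, true)],
  [(.a, true), (.w, false), (.u, true), (.w, true), (.u, true), (.w, false), (.u, true), (.w, true)],
  [(.u, true), (.w, false), (.u, true), (.w, true), (.u, true), (.w, false), (.u, true), (.w, true)],
  [(.a, true), (.w, false), (.u, true), (.a, true), (.w, true), (.u, true), (.a, true), (.w, false)],
  [(.u, true), (.w, false), (.u, true), (.a, true), (.w, true), (.u, true), (.a, true), (.w, false)],
  [(.w, true), (.u, true), (.w, true), (.a, true), (.w, true), (.u, true), (.a, true), (.w, false)],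
  [(.w, false), (.u, true), (.w, true), (.a, true), (.w, true), (.u, true), (.a, true), (.w, false)],
  [(.w, true), (.a, true), (.w, false), (.a, true), (.w, true), (.u, true), (.a, true), (.w, false)],
  [(.w, false), (.a, true), (.w, false), (.a, true), (.w, true), (.u, true), (.a, true), (.w, false)],
  [(.w, true), (.u, true), (.w, false), (.a, true), (.w, true), (.u, true), (.a, true), (.w, false)],
  [(.w, true), (.a, true), (.w, true), (.u, true), (.w, true), (.u, true), (.a, true), (.w, false)],
  [(.w, false), (.a, true), (.w, true), (.u, true), (.w, true), (.u, true), (.a, true), (.w, false)],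
  [(.u, true), (.a, true), (.w, false), (.u, true), (.w, true), (.u, true), (.a, true), (.w, false)],
  [(.w, false), (.a, true), (.w, false), (.u, true), (.w, true), (.u, true), (.a, true), (.w, false)],
  [(.w, true), (.u, true), (.w, false), (.u, true), (.w, true), (.u, true), (.a, true), (.w, false)],
  [(.w, false), (.u, true), (.w, false), (.u, true), (.w, true), (.u, true), (.a, true), (.w, false)],
  [(.u, true), (.w, true), (.u, true), (.a, true), (.w, false), (.u, true), (.a, true), (.w, false)],
  [(.w, false), (.a, true), (.w, true), (.a, true), (.w, false), (.u, true), (.a, true), (.w, false)],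
  [(.w, true), (.u, true), (.w, true), (.a, true), (.w, false), (.u, true), (.a, true), (.w, false)],
  [(.w, true), (.u, true), (.w, false), (.a, true), (.w, false), (.u, true), (.a, true), (.w, false)],
  [(.u, true), (.a, true), (.w, true), (.u, true), (.w, false), (.u, true), (.a, true), (.w, false)],
  [(.w, true), (.a, true), (.w, true), (.u, true), (.w, false), (.u, true), (.a, true), (.w, false)],
  [(.w, false), (.a, true), (.w, true), (.u, true), (.w, false), (.u, true), (.a, true), (.w, false)],
  [(.w, true), (.u, true), (.w, true), (.u, true), (.w, false), (.u, true), (.a, true), (.w, false)],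
  [(.w, false), (.u, true), (.w, true), (.u, true), (.w, false), (.u, true), (.a, true), (.w, false)],
  [(.w, true), (.a, true), (.w, false), (.u, true), (.w, false), (.u, true), (.a, true), (.w, false)],
  [(.w, false), (.a, true), (.w, false), (.u, true), (.w, false), (.u, true), (.a, true), (.w, false)],
  [(.w, false), (.a, true), (.w, true), (.u, true), (.a, true), (.w, true), (.a, true), (.w, false)],
  [(.w, true), (.u, true), (.w, true), (.u, true), (.a, true), (.w, true), (.a, true), (.w, false)],
  [(.w, false), (.u, true), (.w, true), (.u, true), (.a, true), (.w, true), (.a, true), (.w, false)],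
  [(.w, false), (.u, true), (.w, false), (.u, true), (.a, true), (.w, true), (.a, true), (.w, false)],
  [(.u, true), (.w, true), (.u, true), (.w, true), (.a, true), (.w, true), (.a, true), (.w, false)],
  [(.w, true), (.u, true), (.a, true), (.w, false), (.a, true), (.w, true), (.a, true), (.w, false)],
  [(.w, false), (.u, true), (.a, true), (.w, false), (.a, true), (.w, true), (.a, true), (.w, false)],
  [(.w, true), (.u, true), (.w, true), (.u, true), (.a, true), (.w, false), (.a, true), (.w, false)],
  [(.w, false), (.u, true), (.w, true), (.u, true), (.a, true), (.w, false), (.a, true), (.w, false)],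
  [(.u, true), (.a, true), (.w, false), (.u, true), (.a, true), (.w, false), (.a, true), (.w, false)],
  [(.w, false), (.a, true), (.w, false), (.u, true), (.a, true), (.w, false), (.a, true), (.w, false)],
  [(.w, true), (.u, true), (.w, false), (.u, true), (.a, true), (.w, false), (.a, true), (.w, false)],
  [(.w, false), (.u, true), (.w, false), (.u, true), (.a, true), (.w, false), (.a, true), (.w, false)],
  [(.a, true), (.w, false), (.u, true), (.w, true), (.a, true), (.w, false), (.a, true), (.w, false)],
  [(.w, true), (.u, true), (.a, true), (.w, true), (.u, true), (.w, false), (.a, true), (.w, false)],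
  [(.w, false), (.u, true), (.a, true), (.w, true), (.u, true), (.w, false), (.a, true), (.w, false)],
  [(.w, true), (.u, true), (.a, true), (.w, false), (.u, true), (.w, false), (.a, true), (.w, false)],
  [(.w, false), (.u, true), (.a, true), (.w, false), (.u, true), (.w, false), (.a, true), (.w, false)],
  [(.u, true), (.w, false), (.a, true), (.w, false), (.u, true), (.w, false), (.a, true), (.w, false)],
  [(.w, true), (.a, true), (.w, true), (.u, true), (.a, true), (.w, true), (.u, true), (.w, false)],
  [(.w, false), (.a, true), (.w, true), (.u, true), (.a, true), (.w, true), (.u, true), (.w, false)],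
  [(.u, true), (.a, true), (.w, false), (.u, true), (.a, true), (.w, true), (.u, true), (.w, false)],
  [(.w, false), (.a, true), (.w, false), (.u, true), (.a, true), (.w, true), (.u, true), (.w, false)],
  [(.w, true), (.u, true), (.w, false), (.u, true), (.a, true), (.w, true), (.u, true), (.w, false)],
  [(.w, false), (.u, true), (.w, false), (.u, true), (.a, true), (.w, true), (.u, true), (.w, false)],
  [(.w, true), (.u, true), (.a, true), (.w, true), (.a, true), (.w, true), (.u, true), (.w, false)],
  [(.w, false), (.u, true), (.a, true), (.w, true), (.a, true), (.w, true), (.u, true), (.w, false)],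
  [(.u, true), (.w, true), (.a, true), (.w, false), (.a, true), (.w, true), (.u, true), (.w, false)],
  [(.u, true), (.w, false), (.a, true), (.w, false), (.a, true), (.w, true), (.u, true), (.w, false)],
  [(.w, true), (.u, true), (.a, true), (.w, false), (.u, true), (.w, true), (.u, true), (.w, false)],
  [(.w, false), (.u, true), (.a, true), (.w, false), (.u, true), (.w, true), (.u, true), (.w, false)],
  [(.a, true), (.w, true), (.u, true), (.w, false), (.u, true), (.w, true), (.u, true), (.w, false)],
  [(.u, true), (.w, true), (.u, true), (.w, false), (.u, true), (.w, true), (.u, true), (.w, false)],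
  [(.u, true), (.a, true), (.w, true), (.u, true), (.a, true), (.w, false), (.u, true), (.w, false)],
  [(.w, true), (.a, true), (.w, true), (.u, true), (.a, true), (.w, false), (.u, true), (.w, false)],
  [(.w, false), (.a, true), (.w, true), (.u, true), (.a, true), (.w, false), (.u, true), (.w, false)],
  [(.w, true), (.u, true), (.w, true), (.u, true), (.a, true), (.w, false), (.u, true), (.w, false)],
  [(.w, false), (.u, true), (.w, true), (.u, true), (.a, true), (.w, false), (.u, true), (.w, false)],
  [(.w, true), (.a, true), (.w, false), (.u, true), (.a, true), (.w, false), (.u, true), (.w, false)],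
  [(.w, false), (.a, true), (.w, false), (.u, true), (.a, true), (.w, false), (.u, true), (.w, false)],
  [(.u, true), (.w, false), (.a, true), (.w, true), (.a, true), (.w, false), (.u, true), (.w, false)],
  [(.w, true), (.u, true), (.a, true), (.w, false), (.a, true), (.w, false), (.u, true), (.w, false)],
  [(.u, true), (.w, true), (.a, true), (.w, false), (.a, true), (.w, false), (.u, true), (.w, false)],
  [(.a, true), (.w, false), (.u, true), (.w, false), (.a, true), (.w, false), (.u, true), (.w, false)],
  [(.u, true), (.w, false), (.u, true), (.w, false), (.a, true), (.w, false), (.u, true), (.w, false)],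
  [(.a, true), (.w, false), (.u, true), (.w, true), (.u, true), (.w, false), (.u, true), (.w, false)],
  [(.a, true), (.w, true), (.a, true), (.w, true), (.u, true), (.a, true), (.w, true), (.u, true), (.a, true)],
  [(.u, true), (.w, true), (.a, true), (.w, true), (.u, true), (.a, true), (.w, true), (.u, true), (.a, true)],
  [(.a, true), (.w, false), (.u, true), (.w, true), (.u, true), (.a, true), (.w, true), (.u, true), (.a, true)],
  [(.u, true), (.w, false), (.u, true), (.w, true), (.u, true), (.a, true), (.w, true), (.u, true), (.a, true)],
  [(.w, true), (.u, true), (.a, true), (.w, false), (.u, true), (.a, true), (.w, true), (.u, true), (.a, true)],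
  [(.w, false), (.u, true), (.a, true), (.w, false), (.u, true), (.a, true), (.w, true), (.u, true), (.a, true)],
  [(.a, true), (.w, true), (.u, true), (.w, false), (.u, true), (.a, true), (.w, true), (.u, true), (.a, true)],
  [(.u, true), (.w, true), (.u, true), (.w, false), (.u, true), (.a, true), (.w, true), (.u, true), (.a, true)],
  [(.a, true), (.w, false), (.u, true), (.w, false), (.u, true), (.a, true), (.w, true), (.u, true), (.a, true)],
  [(.u, true), (.w, false), (.u, true), (.w, false), (.u, true), (.a, true), (.w, true), (.u, true), (.a, true)],
  [(.a, true), (.w, true), (.u, true), (.a, true), (.w, true), (.a, true), (.w, true), (.u, true), (.a, true)],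
  [(.u, true), (.w, true), (.u, true), (.a, true), (.w, true), (.a, true), (.w, true), (.u, true), (.a, true)],
  [(.u, true), (.a, true), (.w, true), (.u, true), (.w, true), (.a, true), (.w, true), (.u, true), (.a, true)],
  [(.u, true), (.a, true), (.w, true), (.a, true), (.w, false), (.a, true), (.w, true), (.u, true), (.a, true)],
  [(.w, false), (.a, true), (.w, true), (.a, true), (.w, false), (.a, true), (.w, true), (.u, true), (.a, true)],
  [(.w, true), (.u, true), (.w, true), (.a, true), (.w, false), (.a, true), (.w, true), (.u, true), (.a, true)],
  [(.w, false), (.u, true), (.w, true), (.a, true), (.w, false), (.a, true), (.w, true), (.u, true), (.a, true)],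
  [(.w, true), (.u, true), (.w, false), (.a, true), (.w, false), (.a, true), (.w, true), (.u, true), (.a, true)],
  [(.w, false), (.u, true), (.w, false), (.a, true), (.w, false), (.a, true), (.w, true), (.u, true), (.a, true)],
  [(.a, true), (.w, false), (.u, true), (.a, true), (.w, true), (.u, true), (.w, true), (.u, true), (.a, true)],
  [(.u, true), (.w, false), (.u, true), (.a, true), (.w, true), (.u, true), (.w, true), (.u, true), (.a, true)],
  [(.u, true), (.a, true), (.w, true), (.a, true), (.w, true), (.u, true), (.w, true), (.u, true), (.a, true)],
  [(.w, true), (.u, true), (.w, true), (.a, true), (.w, true), (.u, true), (.w, true), (.u, true), (.a, true)],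
  [(.w, false), (.u, true), (.w, true), (.a, true), (.w, true), (.u, true), (.w, true), (.u, true), (.a, true)],
  [(.a, true), (.w, true), (.u, true), (.a, true), (.w, false), (.u, true), (.w, true), (.u, true), (.a, true)],
  [(.u, true), (.w, true), (.u, true), (.a, true), (.w, false), (.u, true), (.w, true), (.u, true), (.a, true)],
  [(.a, true), (.w, false), (.u, true), (.a, true), (.w, false), (.u, true), (.w, true), (.u, true), (.a, true)],
  [(.u, true), (.w, false), (.u, true), (.a, true), (.w, false), (.u, true), (.w, true), (.u, true), (.a, true)],
  [(.w, true), (.a, true), (.w, true), (.a, true), (.w, false), (.u, true), (.w, true), (.u, true), (.a, true)],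
  [(.w, false), (.a, true), (.w, true), (.a, true), (.w, false), (.u, true), (.w, true), (.u, true), (.a, true)],
  [(.u, true), (.a, true), (.w, true), (.u, true), (.w, false), (.u, true), (.w, true), (.u, true), (.a, true)],
  [(.w, true), (.a, true), (.w, true), (.u, true), (.w, false), (.u, true), (.w, true), (.u, true), (.a, true)],
  [(.w, true), (.u, true), (.w, true), (.u, true), (.w, false), (.u, true), (.w, true), (.u, true), (.a, true)],
  [(.w, false), (.u, true), (.w, true), (.u, true), (.w, false), (.u, true), (.w, true), (.u, true), (.a, true)],
  [(.w, true), (.u, true), (.a, true), (.w, true), (.u, true), (.a, true), (.w, false), (.u, true), (.a, true)],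
  [(.w, false), (.u, true), (.a, true), (.w, true), (.u, true), (.a, true), (.w, false), (.u, true), (.a, true)],
  [(.a, true), (.w, true), (.u, true), (.w, true), (.u, true), (.a, true), (.w, false), (.u, true), (.a, true)],
  [(.a, true), (.w, false), (.u, true), (.w, true), (.u, true), (.a, true), (.w, false), (.u, true), (.a, true)],
  [(.u, true), (.w, false), (.u, true), (.w, true), (.u, true), (.a, true), (.w, false), (.u, true), (.a, true)],
  [(.u, true), (.w, false), (.a, true), (.w, false), (.u, true), (.a, true), (.w, false), (.u, true), (.a, true)],
  [(.a, true), (.w, true), (.u, true), (.w, false), (.u, true), (.a, true), (.w, false), (.u, true), (.a, true)],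
  [(.u, true), (.w, true), (.u, true), (.w, false), (.u, true), (.a, true), (.w, false), (.u, true), (.a, true)],
  [(.w, true), (.u, true), (.w, true), (.a, true), (.w, true), (.a, true), (.w, false), (.u, true), (.a, true)],
  [(.u, true), (.a, true), (.w, false), (.a, true), (.w, true), (.a, true), (.w, false), (.u, true), (.a, true)],
  [(.w, true), (.u, true), (.w, false), (.a, true), (.w, true), (.a, true), (.w, false), (.u, true), (.a, true)],
  [(.w, false), (.u, true), (.w, false), (.a, true), (.w, true), (.a, true), (.w, false), (.u, true), (.a, true)],
  [(.a, true), (.w, false), (.u, true), (.a, true), (.w, false), (.a, true), (.w, false), (.u, true), (.a, true)],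
  [(.u, true), (.w, false), (.u, true), (.a, true), (.w, false), (.a, true), (.w, false), (.u, true), (.a, true)],
  [(.u, true), (.a, true), (.w, false), (.u, true), (.w, false), (.a, true), (.w, false), (.u, true), (.a, true)],
  [(.a, true), (.w, true), (.u, true), (.a, true), (.w, true), (.u, true), (.w, false), (.u, true), (.a, true)],
  [(.a, true), (.w, false), (.u, true), (.a, true), (.w, true), (.u, true), (.w, false), (.u, true), (.a, true)],
  [(.u, true), (.w, false), (.u, true), (.a, true), (.w, true), (.u, true), (.w, false), (.u, true), (.a, true)],
  [(.w, true), (.a, true), (.w, false), (.a, true), (.w, true), (.u, true), (.w, false), (.u, true), (.a, true)],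
  [(.w, false), (.a, true), (.w, false), (.a, true), (.w, true), (.u, true), (.w, false), (.u, true), (.a, true)],
  [(.u, true), (.a, true), (.w, false), (.u, true), (.w, true), (.u, true), (.w, false), (.u, true), (.a, true)],
  [(.w, true), (.u, true), (.w, false), (.u, true), (.w, true), (.u, true), (.w, false), (.u, true), (.a, true)],
  [(.w, false), (.u, true), (.w, false), (.u, true), (.w, true), (.u, true), (.w, false), (.u, true), (.a, true)],
  [(.a, true), (.w, true), (.u, true), (.a, true), (.w, false), (.u, true), (.w, false), (.u, true), (.a, true)],
  [(.u, true), (.w, true), (.u, true), (.a, true), (.w, false), (.u, true), (.w, false), (.u, true), (.a, true)],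
  [(.u, true), (.a, true), (.w, false), (.a, true), (.w, false), (.u, true), (.w, false), (.u, true), (.a, true)],
  [(.w, false), (.u, true), (.w, false), (.a, true), (.w, false), (.u, true), (.w, false), (.u, true), (.a, true)],
  [(.u, true), (.w, false), (.u, true), (.a, true), (.w, true), (.u, true), (.a, true), (.w, true), (.a, true)],
  [(.u, true), (.a, true), (.w, true), (.a, true), (.w, true), (.u, true), (.a, true), (.w, true), (.a, true)],
  [(.w, true), (.a, true), (.w, true), (.u, true), (.w, true), (.u, true), (.a, true), (.w, true), (.a, true)],
  [(.u, true), (.a, true), (.w, false), (.u, true), (.w, true), (.u, true), (.a, true), (.w, true), (.a, true)],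
  [(.w, true), (.a, true), (.w, false), (.u, true), (.w, true), (.u, true), (.a, true), (.w, true), (.a, true)],
  [(.w, false), (.a, true), (.w, false), (.u, true), (.w, true), (.u, true), (.a, true), (.w, true), (.a, true)],
  [(.w, true), (.u, true), (.w, false), (.u, true), (.w, true), (.u, true), (.a, true), (.w, true), (.a, true)],
  [(.w, false), (.u, true), (.w, false), (.u, true), (.w, true), (.u, true), (.a, true), (.w, true), (.a, true)],
  [(.a, true), (.w, true), (.u, true), (.a, true), (.w, false), (.u, true), (.a, true), (.w, true), (.a, true)],
  [(.u, true), (.w, true), (.u, true), (.a, true), (.w, false), (.u, true), (.a, true), (.w, true), (.a, true)],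
  [(.w, false), (.a, true), (.w, true), (.a, true), (.w, false), (.u, true), (.a, true), (.w, true), (.a, true)],
  [(.u, true), (.a, true), (.w, true), (.u, true), (.w, false), (.u, true), (.a, true), (.w, true), (.a, true)],
  [(.w, true), (.u, true), (.w, true), (.u, true), (.w, false), (.u, true), (.a, true), (.w, true), (.a, true)],
  [(.w, false), (.u, true), (.w, true), (.u, true), (.w, false), (.u, true), (.a, true), (.w, true), (.a, true)],
  [(.u, true), (.a, true), (.w, false), (.u, true), (.w, false), (.u, true), (.a, true), (.w, true), (.a, true)],
  [(.w, true), (.a, true), (.w, false), (.u, true), (.w, false), (.u, true), (.a, true), (.w, true), (.a, true)],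
  [(.w, false), (.a, true), (.w, false), (.u, true), (.w, false), (.u, true), (.a, true), (.w, true), (.a, true)],
  [(.u, true), (.a, true), (.w, true), (.u, true), (.a, true), (.w, true), (.a, true), (.w, true), (.a, true)],
  [(.w, true), (.u, true), (.w, true), (.u, true), (.a, true), (.w, true), (.a, true), (.w, true), (.a, true)],
  [(.w, false), (.u, true), (.w, true), (.u, true), (.a, true), (.w, true), (.a, true), (.w, true), (.a, true)],
  [(.w, true), (.u, true), (.a, true), (.w, true), (.u, true), (.w, true), (.a, true), (.w, true), (.a, true)],
  [(.w, false), (.u, true), (.a, true), (.w, true), (.u, true), (.w, true), (.a, true), (.w, true), (.a, true)],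
  [(.w, true), (.u, true), (.w, true), (.u, true), (.a, true), (.w, false), (.a, true), (.w, true), (.a, true)],
  [(.w, true), (.u, true), (.w, false), (.u, true), (.a, true), (.w, false), (.a, true), (.w, true), (.a, true)],
  [(.w, false), (.u, true), (.w, false), (.u, true), (.a, true), (.w, false), (.a, true), (.w, true), (.a, true)],
  [(.w, true), (.u, true), (.a, true), (.w, true), (.a, true), (.w, false), (.a, true), (.w, true), (.a, true)],
  [(.w, false), (.u, true), (.a, true), (.w, true), (.a, true), (.w, false), (.a, true), (.w, true), (.a, true)],
  [(.u, true), (.w, true), (.u, true), (.w, false), (.a, true), (.w, false), (.a, true), (.w, true), (.a, true)],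
  [(.u, true), (.w, false), (.u, true), (.w, false), (.a, true), (.w, false), (.a, true), (.w, true), (.a, true)],
  [(.w, true), (.a, true), (.w, true), (.u, true), (.a, true), (.w, true), (.u, true), (.w, true), (.a, true)],
  [(.u, true), (.a, true), (.w, false), (.u, true), (.a, true), (.w, true), (.u, true), (.w, true), (.a, true)],
  [(.w, true), (.a, true), (.w, false), (.u, true), (.a, true), (.w, true), (.u, true), (.w, true), (.a, true)],
  [(.w, false), (.a, true), (.w, false), (.u, true), (.a, true), (.w, true), (.u, true), (.w, true), (.a, true)],
  [(.w, true), (.u, true), (.w, false), (.u, true), (.a, true), (.w, true), (.u, true), (.w, true), (.a, true)],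
  [(.w, false), (.u, true), (.w, false), (.u, true), (.a, true), (.w, true), (.u, true), (.w, true), (.a, true)],
  [(.a, true), (.w, true), (.u, true), (.w, true), (.a, true), (.w, true), (.u, true), (.w, true), (.a, true)],
  [(.u, true), (.w, true), (.u, true), (.w, true), (.a, true), (.w, true), (.u, true), (.w, true), (.a, true)],
  [(.a, true), (.w, false), (.u, true), (.w, true), (.a, true), (.w, true), (.u, true), (.w, true), (.a, true)],
  [(.a, true), (.w, true), (.u, true), (.w, false), (.u, true), (.w, true), (.u, true), (.w, true), (.a, true)],
  [(.u, true), (.a, true), (.w, true), (.u, true), (.a, true), (.w, false), (.u, true), (.w, true), (.a, true)],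
  [(.w, true), (.u, true), (.w, true), (.u, true), (.a, true), (.w, false), (.u, true), (.w, true), (.a, true)],
  [(.w, false), (.u, true), (.w, true), (.u, true), (.a, true), (.w, false), (.u, true), (.w, true), (.a, true)],
  [(.u, true), (.a, true), (.w, false), (.u, true), (.a, true), (.w, false), (.u, true), (.w, true), (.a, true)],
  [(.w, true), (.a, true), (.w, false), (.u, true), (.a, true), (.w, false), (.u, true), (.w, true), (.a, true)],
  [(.w, false), (.a, true), (.w, false), (.u, true), (.a, true), (.w, false), (.u, true), (.w, true), (.a, true)],
  [(.u, true), (.w, false), (.a, true), (.w, true), (.a, true), (.w, false), (.u, true), (.w, true), (.a, true)],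
  [(.w, true), (.u, true), (.a, true), (.w, true), (.u, true), (.w, false), (.u, true), (.w, true), (.a, true)],
  [(.w, false), (.u, true), (.a, true), (.w, true), (.u, true), (.w, false), (.u, true), (.w, true), (.a, true)],
  [(.a, true), (.w, true), (.a, true), (.w, true), (.u, true), (.w, false), (.u, true), (.w, true), (.a, true)],
  [(.a, true), (.w, false), (.u, true), (.w, true), (.u, true), (.w, false), (.u, true), (.w, true), (.a, true)],
  [(.u, true), (.w, false), (.u, true), (.w, true), (.u, true), (.w, false), (.u, true), (.w, true), (.a, true)],
  [(.a, true), (.w, false), (.u, true), (.a, true), (.w, true), (.u, true), (.a, true), (.w, false), (.a, true)],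
  [(.u, true), (.w, false), (.u, true), (.a, true), (.w, true), (.u, true), (.a, true), (.w, false), (.a, true)],
  [(.w, true), (.a, true), (.w, false), (.a, true), (.w, true), (.u, true), (.a, true), (.w, false), (.a, true)],
  [(.w, true), (.a, true), (.w, true), (.u, true), (.w, true), (.u, true), (.a, true), (.w, false), (.a, true)],
  [(.w, false), (.a, true), (.w, true), (.u, true), (.w, true), (.u, true), (.a, true), (.w, false), (.a, true)],
  [(.u, true), (.a, true), (.w, false), (.u, true), (.w, true), (.u, true), (.a, true), (.w, false), (.a, true)],
  [(.w, true), (.u, true), (.w, false), (.u, true), (.w, true), (.u, true), (.a, true), (.w, false), (.a, true)],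
  [(.w, false), (.u, true), (.w, false), (.u, true), (.w, true), (.u, true), (.a, true), (.w, false), (.a, true)],
  [(.u, true), (.w, true), (.u, true), (.a, true), (.w, false), (.u, true), (.a, true), (.w, false), (.a, true)],
  [(.u, true), (.a, true), (.w, true), (.u, true), (.w, false), (.u, true), (.a, true), (.w, false), (.a, true)],
  [(.w, true), (.a, true), (.w, true), (.u, true), (.w, false), (.u, true), (.a, true), (.w, false), (.a, true)],
  [(.w, false), (.a, true), (.w, true), (.u, true), (.w, false), (.u, true), (.a, true), (.w, false), (.a, true)],
  [(.w, true), (.u, true), (.w, true), (.u, true), (.w, false), (.u, true), (.a, true), (.w, false), (.a, true)],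
  [(.w, false), (.u, true), (.w, true), (.u, true), (.w, false), (.u, true), (.a, true), (.w, false), (.a, true)],
  [(.w, false), (.a, true), (.w, false), (.u, true), (.w, false), (.u, true), (.a, true), (.w, false), (.a, true)],
  [(.w, true), (.u, true), (.w, true), (.u, true), (.a, true), (.w, true), (.a, true), (.w, false), (.a, true)],
  [(.w, false), (.u, true), (.w, true), (.u, true), (.a, true), (.w, true), (.a, true), (.w, false), (.a, true)],
  [(.w, false), (.u, true), (.w, false), (.u, true), (.a, true), (.w, true), (.a, true), (.w, false), (.a, true)],
  [(.u, true), (.w, true), (.u, true), (.w, true), (.a, true), (.w, true), (.a, true), (.w, false), (.a, true)],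
  [(.w, true), (.u, true), (.a, true), (.w, false), (.a, true), (.w, true), (.a, true), (.w, false), (.a, true)],
  [(.w, false), (.u, true), (.a, true), (.w, false), (.a, true), (.w, true), (.a, true), (.w, false), (.a, true)],
  [(.u, true), (.a, true), (.w, false), (.u, true), (.a, true), (.w, false), (.a, true), (.w, false), (.a, true)],
  [(.w, true), (.u, true), (.w, false), (.u, true), (.a, true), (.w, false), (.a, true), (.w, false), (.a, true)],
  [(.w, false), (.u, true), (.w, false), (.u, true), (.a, true), (.w, false), (.a, true), (.w, false), (.a, true)],
  [(.w, true), (.u, true), (.a, true), (.w, false), (.u, true), (.w, false), (.a, true), (.w, false), (.a, true)],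
  [(.w, false), (.u, true), (.a, true), (.w, false), (.u, true), (.w, false), (.a, true), (.w, false), (.a, true)],
  [(.w, true), (.a, true), (.w, true), (.u, true), (.a, true), (.w, true), (.u, true), (.w, false), (.a, true)],
  [(.w, false), (.a, true), (.w, true), (.u, true), (.a, true), (.w, true), (.u, true), (.w, false), (.a, true)],
  [(.u, true), (.a, true), (.w, false), (.u, true), (.a, true), (.w, true), (.u, true), (.w, false), (.a, true)],
  [(.w, true), (.u, true), (.w, false), (.u, true), (.a, true), (.w, true), (.u, true), (.w, false), (.a, true)],
  [(.w, false), (.u, true), (.w, false), (.u, true), (.a, true), (.w, true), (.u, true), (.w, false), (.a, true)],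
  [(.u, true), (.w, true), (.a, true), (.w, false), (.a, true), (.w, true), (.u, true), (.w, false), (.a, true)],
  [(.w, true), (.u, true), (.a, true), (.w, false), (.u, true), (.w, true), (.u, true), (.w, false), (.a, true)],
  [(.w, false), (.u, true), (.a, true), (.w, false), (.u, true), (.w, true), (.u, true), (.w, false), (.a, true)],
  [(.a, true), (.w, true), (.u, true), (.w, false), (.u, true), (.w, true), (.u, true), (.w, false), (.a, true)],
  [(.u, true), (.w, true), (.u, true), (.w, false), (.u, true), (.w, true), (.u, true), (.w, false), (.a, true)],
  [(.u, true), (.a, true), (.w, true), (.u, true), (.a, true), (.w, false), (.u, true), (.w, false), (.a, true)],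
  [(.w, true), (.a, true), (.w, true), (.u, true), (.a, true), (.w, false), (.u, true), (.w, false), (.a, true)],
  [(.w, false), (.a, true), (.w, true), (.u, true), (.a, true), (.w, false), (.u, true), (.w, false), (.a, true)],
  [(.w, true), (.u, true), (.w, true), (.u, true), (.a, true), (.w, false), (.u, true), (.w, false), (.a, true)],
  [(.w, false), (.u, true), (.w, true), (.u, true), (.a, true), (.w, false), (.u, true), (.w, false), (.a, true)],
  [(.w, false), (.a, true), (.w, false), (.u, true), (.a, true), (.w, false), (.u, true), (.w, false), (.a, true)],
  [(.a, true), (.w, false), (.u, true), (.w, false), (.a, true), (.w, false), (.u, true), (.w, false), (.a, true)],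
  [(.u, true), (.w, false), (.u, true), (.w, false), (.a, true), (.w, false), (.u, true), (.w, false), (.a, true)],
  [(.a, true), (.w, false), (.u, true), (.w, true), (.u, true), (.w, false), (.u, true), (.w, false), (.a, true)],
  [(.u, true), (.a, true), (.w, true), (.a, true), (.w, true), (.u, true), (.a, true), (.w, true), (.u, true)],
  [(.w, false), (.u, true), (.w, true), (.a, true), (.w, true), (.u, true), (.a, true), (.w, true), (.u, true)],
  [(.u, true), (.a, true), (.w, false), (.u, true), (.w, true), (.u, true), (.a, true), (.w, true), (.u, true)],
  [(.w, true), (.a, true), (.w, false), (.u, true), (.w, true), (.u, true), (.a, true), (.w, true), (.u, true)],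
  [(.w, false), (.a, true), (.w, false), (.u, true), (.w, true), (.u, true), (.a, true), (.w, true), (.u, true)],
  [(.w, true), (.u, true), (.w, false), (.u, true), (.w, true), (.u, true), (.a, true), (.w, true), (.u, true)],
  [(.a, true), (.w, true), (.u, true), (.a, true), (.w, false), (.u, true), (.a, true), (.w, true), (.u, true)],
  [(.u, true), (.w, true), (.u, true), (.a, true), (.w, false), (.u, true), (.a, true), (.w, true), (.u, true)],
  [(.u, true), (.a, true), (.w, true), (.u, true), (.w, false), (.u, true), (.a, true), (.w, true), (.u, true)],
  [(.w, true), (.a, true), (.w, true), (.u, true), (.w, false), (.u, true), (.a, true), (.w, true), (.u, true)],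
  [(.w, true), (.u, true), (.w, true), (.u, true), (.w, false), (.u, true), (.a, true), (.w, true), (.u, true)],
  [(.w, false), (.u, true), (.w, true), (.u, true), (.w, false), (.u, true), (.a, true), (.w, true), (.u, true)],
  [(.u, true), (.a, true), (.w, false), (.u, true), (.w, false), (.u, true), (.a, true), (.w, true), (.u, true)],
  [(.w, true), (.a, true), (.w, false), (.u, true), (.w, false), (.u, true), (.a, true), (.w, true), (.u, true)],
  [(.w, false), (.a, true), (.w, false), (.u, true), (.w, false), (.u, true), (.a, true), (.w, true), (.u, true)],
  [(.u, true), (.a, true), (.w, true), (.u, true), (.a, true), (.w, true), (.a, true), (.w, true), (.u, true)],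
  [(.w, true), (.u, true), (.w, true), (.u, true), (.a, true), (.w, true), (.a, true), (.w, true), (.u, true)],
  [(.w, false), (.u, true), (.w, true), (.u, true), (.a, true), (.w, true), (.a, true), (.w, true), (.u, true)],
  [(.w, true), (.u, true), (.a, true), (.w, true), (.u, true), (.w, true), (.a, true), (.w, true), (.u, true)],
  [(.w, false), (.u, true), (.a, true), (.w, true), (.u, true), (.w, true), (.a, true), (.w, true), (.u, true)],
  [(.u, true), (.w, true), (.a, true), (.w, true), (.u, true), (.w, true), (.a, true), (.w, true), (.u, true)],
  [(.w, true), (.u, true), (.a, true), (.w, true), (.a, true), (.w, false), (.a, true), (.w, true), (.u, true)],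
  [(.w, false), (.u, true), (.a, true), (.w, true), (.a, true), (.w, false), (.a, true), (.w, true), (.u, true)],
  [(.u, true), (.w, true), (.u, true), (.w, false), (.a, true), (.w, false), (.a, true), (.w, true), (.u, true)],
  [(.u, true), (.a, true), (.w, false), (.u, true), (.a, true), (.w, true), (.u, true), (.w, true), (.u, true)],
  [(.w, true), (.a, true), (.w, false), (.u, true), (.a, true), (.w, true), (.u, true), (.w, true), (.u, true)],
  [(.w, true), (.u, true), (.w, false), (.u, true), (.a, true), (.w, true), (.u, true), (.w, true), (.u, true)],
  [(.w, false), (.u, true), (.w, false), (.u, true), (.a, true), (.w, true), (.u, true), (.w, true), (.u, true)],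
  [(.w, false), (.u, true), (.a, true), (.w, true), (.a, true), (.w, true), (.u, true), (.w, true), (.u, true)],
  [(.a, true), (.w, true), (.u, true), (.w, true), (.a, true), (.w, true), (.u, true), (.w, true), (.u, true)],
  [(.u, true), (.w, true), (.u, true), (.w, true), (.a, true), (.w, true), (.u, true), (.w, true), (.u, true)],
  [(.a, true), (.w, false), (.u, true), (.w, true), (.a, true), (.w, true), (.u, true), (.w, true), (.u, true)],
  [(.u, true), (.w, true), (.a, true), (.w, false), (.a, true), (.w, true), (.u, true), (.w, true), (.u, true)],
  [(.u, true), (.a, true), (.w, true), (.u, true), (.a, true), (.w, false), (.u, true), (.w, true), (.u, true)],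
  [(.w, true), (.a, true), (.w, true), (.u, true), (.a, true), (.w, false), (.u, true), (.w, true), (.u, true)],
  [(.w, true), (.u, true), (.w, true), (.u, true), (.a, true), (.w, false), (.u, true), (.w, true), (.u, true)],
  [(.w, false), (.u, true), (.w, true), (.u, true), (.a, true), (.w, false), (.u, true), (.w, true), (.u, true)],
  [(.u, true), (.a, true), (.w, false), (.u, true), (.a, true), (.w, false), (.u, true), (.w, true), (.u, true)],
  [(.w, true), (.a, true), (.w, false), (.u, true), (.a, true), (.w, false), (.u, true), (.w, true), (.u, true)],
  [(.w, false), (.a, true), (.w, false), (.u, true), (.a, true), (.w, false), (.u, true), (.w, true), (.u, true)],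
  [(.u, true), (.w, false), (.a, true), (.w, true), (.a, true), (.w, false), (.u, true), (.w, true), (.u, true)],
  [(.w, true), (.u, true), (.a, true), (.w, true), (.u, true), (.w, false), (.u, true), (.w, true), (.u, true)],
  [(.w, false), (.u, true), (.a, true), (.w, true), (.u, true), (.w, false), (.u, true), (.w, true), (.u, true)],
  [(.a, true), (.w, true), (.a, true), (.w, true), (.u, true), (.w, false), (.u, true), (.w, true), (.u, true)],
  [(.a, true), (.w, false), (.u, true), (.w, true), (.u, true), (.w, false), (.u, true), (.w, true), (.u, true)],
  [(.u, true), (.w, false), (.u, true), (.w, true), (.u, true), (.w, false), (.u, true), (.w, true), (.u, true)],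
  [(.a, true), (.w, false), (.u, true), (.a, true), (.w, true), (.u, true), (.a, true), (.w, false), (.u, true)],
  [(.u, true), (.w, false), (.u, true), (.a, true), (.w, true), (.u, true), (.a, true), (.w, false), (.u, true)],
  [(.w, true), (.a, true), (.w, true), (.u, true), (.w, true), (.u, true), (.a, true), (.w, false), (.u, true)],
  [(.w, false), (.a, true), (.w, true), (.u, true), (.w, true), (.u, true), (.a, true), (.w, false), (.u, true)],
  [(.u, true), (.a, true), (.w, false), (.u, true), (.w, true), (.u, true), (.a, true), (.w, false), (.u, true)],
  [(.w, false), (.a, true), (.w, false), (.u, true), (.w, true), (.u, true), (.a, true), (.w, false), (.u, true)],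
  [(.w, true), (.u, true), (.w, false), (.u, true), (.w, true), (.u, true), (.a, true), (.w, false), (.u, true)],
  [(.w, false), (.u, true), (.w, false), (.u, true), (.w, true), (.u, true), (.a, true), (.w, false), (.u, true)],
  [(.w, true), (.u, true), (.w, false), (.a, true), (.w, false), (.u, true), (.a, true), (.w, false), (.u, true)],
  [(.u, true), (.a, true), (.w, true), (.u, true), (.w, false), (.u, true), (.a, true), (.w, false), (.u, true)],
  [(.w, true), (.a, true), (.w, true), (.u, true), (.w, false), (.u, true), (.a, true), (.w, false), (.u, true)],
  [(.w, false), (.a, true), (.w, true), (.u, true), (.w, false), (.u, true), (.a, true), (.w, false), (.u, true)],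
  [(.w, false), (.u, true), (.w, true), (.u, true), (.w, false), (.u, true), (.a, true), (.w, false), (.u, true)],
  [(.w, true), (.u, true), (.a, true), (.w, false), (.a, true), (.w, true), (.a, true), (.w, false), (.u, true)],
  [(.w, false), (.u, true), (.a, true), (.w, false), (.a, true), (.w, true), (.a, true), (.w, false), (.u, true)],
  [(.u, true), (.a, true), (.w, false), (.u, true), (.a, true), (.w, false), (.a, true), (.w, false), (.u, true)],
  [(.w, true), (.u, true), (.w, false), (.u, true), (.a, true), (.w, false), (.a, true), (.w, false), (.u, true)],
  [(.w, false), (.u, true), (.w, false), (.u, true), (.a, true), (.w, false), (.a, true), (.w, false), (.u, true)],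
  [(.w, true), (.u, true), (.a, true), (.w, false), (.u, true), (.w, false), (.a, true), (.w, false), (.u, true)],
  [(.w, false), (.u, true), (.a, true), (.w, false), (.u, true), (.w, false), (.a, true), (.w, false), (.u, true)],
  [(.u, true), (.w, false), (.a, true), (.w, false), (.u, true), (.w, false), (.a, true), (.w, false), (.u, true)],
  [(.w, true), (.a, true), (.w, true), (.u, true), (.a, true), (.w, true), (.u, true), (.w, false), (.u, true)],
  [(.w, false), (.a, true), (.w, true), (.u, true), (.a, true), (.w, true), (.u, true), (.w, false), (.u, true)],
  [(.u, true), (.a, true), (.w, false), (.u, true), (.a, true), (.w, true), (.u, true), (.w, false), (.u, true)],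
  [(.w, false), (.a, true), (.w, false), (.u, true), (.a, true), (.w, true), (.u, true), (.w, false), (.u, true)],
  [(.w, true), (.u, true), (.w, false), (.u, true), (.a, true), (.w, true), (.u, true), (.w, false), (.u, true)],
  [(.w, false), (.u, true), (.w, false), (.u, true), (.a, true), (.w, true), (.u, true), (.w, false), (.u, true)],
  [(.u, true), (.w, true), (.a, true), (.w, false), (.a, true), (.w, true), (.u, true), (.w, false), (.u, true)],
  [(.w, true), (.u, true), (.a, true), (.w, false), (.u, true), (.w, true), (.u, true), (.w, false), (.u, true)],
  [(.w, false), (.u, true), (.a, true), (.w, false), (.u, true), (.w, true), (.u, true), (.w, false), (.u, true)],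
  [(.a, true), (.w, true), (.u, true), (.w, false), (.u, true), (.w, true), (.u, true), (.w, false), (.u, true)],
  [(.u, true), (.w, true), (.u, true), (.w, false), (.u, true), (.w, true), (.u, true), (.w, false), (.u, true)],
  [(.u, true), (.a, true), (.w, true), (.u, true), (.a, true), (.w, false), (.u, true), (.w, false), (.u, true)],
  [(.w, false), (.a, true), (.w, true), (.u, true), (.a, true), (.w, false), (.u, true), (.w, false), (.u, true)],
  [(.w, true), (.u, true), (.w, true), (.u, true), (.a, true), (.w, false), (.u, true), (.w, false), (.u, true)],
  [(.w, false), (.u, true), (.w, true), (.u, true), (.a, true), (.w, false), (.u, true), (.w, false), (.u, true)],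
  [(.u, true), (.w, false), (.a, true), (.w, true), (.a, true), (.w, false), (.u, true), (.w, false), (.u, true)],
  [(.w, true), (.u, true), (.a, true), (.w, false), (.a, true), (.w, false), (.u, true), (.w, false), (.u, true)],
  [(.a, true), (.w, false), (.u, true), (.w, false), (.a, true), (.w, false), (.u, true), (.w, false), (.u, true)],
  [(.u, true), (.w, false), (.u, true), (.w, false), (.a, true), (.w, false), (.u, true), (.w, false), (.u, true)],
  [(.w, true), (.u, true), (.w, false), (.u, true), (.a, true), (.w, true), (.u, true), (.a, true), (.w, true)],
  [(.w, false), (.u, true), (.w, false), (.u, true), (.a, true), (.w, true), (.u, true), (.a, true), (.w, true)],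
  [(.w, true), (.u, true), (.a, true), (.w, true), (.a, true), (.w, true), (.u, true), (.a, true), (.w, true)],
  [(.u, true), (.w, true), (.a, true), (.w, true), (.u, true), (.w, true), (.u, true), (.a, true), (.w, true)],
  [(.w, true), (.u, true), (.a, true), (.w, false), (.u, true), (.w, true), (.u, true), (.a, true), (.w, true)],
  [(.w, false), (.u, true), (.a, true), (.w, false), (.u, true), (.w, true), (.u, true), (.a, true), (.w, true)],
  [(.a, true), (.w, true), (.u, true), (.w, false), (.u, true), (.w, true), (.u, true), (.a, true), (.w, true)],
  [(.u, true), (.a, true), (.w, true), (.u, true), (.a, true), (.w, false), (.u, true), (.a, true), (.w, true)],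
  [(.w, true), (.u, true), (.w, true), (.u, true), (.a, true), (.w, false), (.u, true), (.a, true), (.w, true)],
  [(.w, false), (.u, true), (.w, true), (.u, true), (.a, true), (.w, false), (.u, true), (.a, true), (.w, true)],
  [(.u, true), (.w, true), (.a, true), (.w, true), (.a, true), (.w, false), (.u, true), (.a, true), (.w, true)],
  [(.u, true), (.w, false), (.u, true), (.w, false), (.a, true), (.w, false), (.u, true), (.a, true), (.w, true)],
  [(.w, true), (.u, true), (.a, true), (.w, true), (.u, true), (.w, false), (.u, true), (.a, true), (.w, true)],
  [(.w, false), (.u, true), (.a, true), (.w, true), (.u, true), (.w, false), (.u, true), (.a, true), (.w, true)],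
  [(.a, true), (.w, false), (.u, true), (.w, true), (.u, true), (.w, false), (.u, true), (.a, true), (.w, true)],
  [(.u, true), (.w, false), (.u, true), (.w, true), (.u, true), (.w, false), (.u, true), (.a, true), (.w, true)],
  [(.w, true), (.u, true), (.a, true), (.w, false), (.u, true), (.w, false), (.u, true), (.a, true), (.w, true)],
  [(.u, true), (.w, false), (.a, true), (.w, false), (.u, true), (.w, false), (.u, true), (.a, true), (.w, true)],
  [(.u, true), (.w, false), (.u, true), (.w, true), (.u, true), (.a, true), (.w, true), (.a, true), (.w, true)],
  [(.u, true), (.w, true), (.u, true), (.w, false), (.u, true), (.a, true), (.w, true), (.a, true), (.w, true)],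
  [(.u, true), (.w, false), (.u, true), (.a, true), (.w, true), (.u, true), (.w, true), (.a, true), (.w, true)],
  [(.w, true), (.u, true), (.w, true), (.a, true), (.w, true), (.u, true), (.w, true), (.a, true), (.w, true)],
  [(.u, true), (.w, true), (.u, true), (.a, true), (.w, false), (.u, true), (.w, true), (.a, true), (.w, true)],
  [(.u, true), (.w, true), (.u, true), (.a, true), (.w, true), (.a, true), (.w, false), (.a, true), (.w, true)],
  [(.u, true), (.w, false), (.u, true), (.a, true), (.w, true), (.a, true), (.w, false), (.a, true), (.w, true)],
  [(.u, true), (.w, true), (.a, true), (.w, true), (.u, true), (.a, true), (.w, true), (.u, true), (.w, true)],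
  [(.w, true), (.u, true), (.a, true), (.w, false), (.u, true), (.a, true), (.w, true), (.u, true), (.w, true)],
  [(.w, false), (.u, true), (.a, true), (.w, false), (.u, true), (.a, true), (.w, true), (.u, true), (.w, true)],
  [(.a, true), (.w, true), (.u, true), (.w, false), (.u, true), (.a, true), (.w, true), (.u, true), (.w, true)],
  [(.a, true), (.w, false), (.u, true), (.w, false), (.u, true), (.a, true), (.w, true), (.u, true), (.w, true)],
  [(.u, true), (.w, false), (.u, true), (.w, false), (.u, true), (.a, true), (.w, true), (.u, true), (.w, true)],
  [(.u, true), (.a, true), (.w, true), (.u, true), (.w, true), (.a, true), (.w, true), (.u, true), (.w, true)],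
  [(.w, true), (.a, true), (.w, true), (.u, true), (.w, true), (.a, true), (.w, true), (.u, true), (.w, true)],
  [(.w, false), (.u, true), (.w, true), (.a, true), (.w, false), (.a, true), (.w, true), (.u, true), (.w, true)],
  [(.w, true), (.u, true), (.a, true), (.w, true), (.u, true), (.a, true), (.w, false), (.u, true), (.w, true)],
  [(.w, false), (.u, true), (.a, true), (.w, true), (.u, true), (.a, true), (.w, false), (.u, true), (.w, true)],
  [(.a, true), (.w, true), (.u, true), (.w, true), (.u, true), (.a, true), (.w, false), (.u, true), (.w, true)],
  [(.a, true), (.w, false), (.u, true), (.w, true), (.u, true), (.a, true), (.w, false), (.u, true), (.w, true)],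
  [(.u, true), (.w, false), (.u, true), (.w, true), (.u, true), (.a, true), (.w, false), (.u, true), (.w, true)],
  [(.u, true), (.w, false), (.a, true), (.w, false), (.u, true), (.a, true), (.w, false), (.u, true), (.w, true)],
  [(.w, false), (.u, true), (.w, false), (.a, true), (.w, true), (.a, true), (.w, false), (.u, true), (.w, true)],
  [(.u, true), (.w, false), (.u, true), (.a, true), (.w, false), (.a, true), (.w, false), (.u, true), (.w, true)],
  [(.a, true), (.w, true), (.u, true), (.a, true), (.w, true), (.u, true), (.w, false), (.u, true), (.w, true)],
  [(.a, true), (.w, false), (.u, true), (.a, true), (.w, true), (.u, true), (.w, false), (.u, true), (.w, true)],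
  [(.u, true), (.w, false), (.u, true), (.a, true), (.w, true), (.u, true), (.w, false), (.u, true), (.w, true)],
  [(.u, true), (.a, true), (.w, false), (.u, true), (.w, true), (.u, true), (.w, false), (.u, true), (.w, true)],
  [(.w, true), (.u, true), (.w, false), (.u, true), (.w, true), (.u, true), (.w, false), (.u, true), (.w, true)],
  [(.u, true), (.a, true), (.w, false), (.u, true), (.a, true), (.w, true), (.u, true), (.a, true), (.w, false)],
  [(.w, true), (.u, true), (.w, false), (.u, true), (.a, true), (.w, true), (.u, true), (.a, true), (.w, false)],
  [(.w, false), (.u, true), (.w, false), (.u, true), (.a, true), (.w, true), (.u, true), (.a, true), (.w, false)],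
  [(.u, true), (.w, true), (.u, true), (.w, true), (.a, true), (.w, true), (.u, true), (.a, true), (.w, false)],
  [(.u, true), (.w, false), (.a, true), (.w, false), (.a, true), (.w, true), (.u, true), (.a, true), (.w, false)],
  [(.u, true), (.w, true), (.a, true), (.w, true), (.u, true), (.w, true), (.u, true), (.a, true), (.w, false)],
  [(.w, true), (.u, true), (.a, true), (.w, false), (.u, true), (.w, true), (.u, true), (.a, true), (.w, false)],
  [(.w, false), (.u, true), (.a, true), (.w, false), (.u, true), (.w, true), (.u, true), (.a, true), (.w, false)],
  [(.a, true), (.w, true), (.u, true), (.w, false), (.u, true), (.w, true), (.u, true), (.a, true), (.w, false)],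
  [(.u, true), (.w, true), (.u, true), (.w, false), (.u, true), (.w, true), (.u, true), (.a, true), (.w, false)],
  [(.w, true), (.u, true), (.w, true), (.u, true), (.a, true), (.w, false), (.u, true), (.a, true), (.w, false)],
  [(.w, false), (.u, true), (.w, true), (.u, true), (.a, true), (.w, false), (.u, true), (.a, true), (.w, false)],
  [(.w, true), (.u, true), (.a, true), (.w, true), (.u, true), (.w, false), (.u, true), (.a, true), (.w, false)],
  [(.w, false), (.u, true), (.a, true), (.w, true), (.u, true), (.w, false), (.u, true), (.a, true), (.w, false)],
  [(.a, true), (.w, false), (.u, true), (.w, true), (.u, true), (.w, false), (.u, true), (.a, true), (.w, false)],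
  [(.u, true), (.w, false), (.a, true), (.w, false), (.u, true), (.w, false), (.u, true), (.a, true), (.w, false)],
  [(.u, true), (.w, true), (.u, true), (.a, true), (.w, false), (.a, true), (.w, true), (.a, true), (.w, false)],
  [(.u, true), (.w, false), (.u, true), (.a, true), (.w, false), (.a, true), (.w, true), (.a, true), (.w, false)],
  [(.u, true), (.w, false), (.u, true), (.w, true), (.u, true), (.a, true), (.w, false), (.a, true), (.w, false)],
  [(.u, true), (.w, true), (.u, true), (.w, false), (.u, true), (.a, true), (.w, false), (.a, true), (.w, false)],
  [(.u, true), (.w, false), (.u, true), (.a, true), (.w, true), (.u, true), (.w, false), (.a, true), (.w, false)],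
  [(.u, true), (.w, true), (.u, true), (.a, true), (.w, false), (.u, true), (.w, false), (.a, true), (.w, false)],
  [(.w, false), (.u, true), (.w, false), (.a, true), (.w, false), (.u, true), (.w, false), (.a, true), (.w, false)],
  [(.u, true), (.w, true), (.a, true), (.w, true), (.u, true), (.a, true), (.w, true), (.u, true), (.w, false)],
  [(.w, true), (.u, true), (.a, true), (.w, false), (.u, true), (.a, true), (.w, true), (.u, true), (.w, false)],
  [(.w, false), (.u, true), (.a, true), (.w, false), (.u, true), (.a, true), (.w, true), (.u, true), (.w, false)],
  [(.a, true), (.w, true), (.u, true), (.w, false), (.u, true), (.a, true), (.w, true), (.u, true), (.w, false)],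
  [(.u, true), (.w, true), (.u, true), (.w, false), (.u, true), (.a, true), (.w, true), (.u, true), (.w, false)],
  [(.a, true), (.w, false), (.u, true), (.w, false), (.u, true), (.a, true), (.w, true), (.u, true), (.w, false)],
  [(.u, true), (.w, true), (.u, true), (.a, true), (.w, true), (.a, true), (.w, true), (.u, true), (.w, false)],
  [(.w, true), (.u, true), (.w, true), (.a, true), (.w, false), (.a, true), (.w, true), (.u, true), (.w, false)],
  [(.a, true), (.w, true), (.u, true), (.a, true), (.w, false), (.u, true), (.w, true), (.u, true), (.w, false)],
  [(.u, true), (.w, true), (.u, true), (.a, true), (.w, false), (.u, true), (.w, true), (.u, true), (.w, false)],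
  [(.a, true), (.w, false), (.u, true), (.a, true), (.w, false), (.u, true), (.w, true), (.u, true), (.w, false)],
  [(.u, true), (.a, true), (.w, true), (.u, true), (.w, false), (.u, true), (.w, true), (.u, true), (.w, false)],
  [(.w, true), (.a, true), (.w, true), (.u, true), (.w, false), (.u, true), (.w, true), (.u, true), (.w, false)],
  [(.w, true), (.u, true), (.a, true), (.w, true), (.u, true), (.a, true), (.w, false), (.u, true), (.w, false)],
  [(.w, false), (.u, true), (.a, true), (.w, true), (.u, true), (.a, true), (.w, false), (.u, true), (.w, false)],
  [(.a, true), (.w, true), (.u, true), (.w, true), (.u, true), (.a, true), (.w, false), (.u, true), (.w, false)],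
  [(.a, true), (.w, false), (.u, true), (.w, true), (.u, true), (.a, true), (.w, false), (.u, true), (.w, false)],
  [(.u, true), (.w, false), (.a, true), (.w, false), (.u, true), (.a, true), (.w, false), (.u, true), (.w, false)],
  [(.w, true), (.u, true), (.w, false), (.a, true), (.w, true), (.a, true), (.w, false), (.u, true), (.w, false)],
  [(.u, true), (.a, true), (.w, false), (.u, true), (.w, false), (.a, true), (.w, false), (.u, true), (.w, false)],
  [(.w, false), (.a, true), (.w, false), (.u, true), (.w, false), (.a, true), (.w, false), (.u, true), (.w, false)],
  [(.u, true), (.a, true), (.w, true), (.a, true), (.w, true), (.u, true), (.a, true), (.w, true), (.u, true), (.a, true)],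
  [(.u, true), (.a, true), (.w, false), (.u, true), (.w, true), (.u, true), (.a, true), (.w, true), (.u, true), (.a, true)],
  [(.w, true), (.a, true), (.w, false), (.u, true), (.w, true), (.u, true), (.a, true), (.w, true), (.u, true), (.a, true)],
  [(.w, true), (.u, true), (.w, false), (.u, true), (.w, true), (.u, true), (.a, true), (.w, true), (.u, true), (.a, true)],
  [(.a, true), (.w, true), (.u, true), (.a, true), (.w, false), (.u, true), (.a, true), (.w, true), (.u, true), (.a, true)],
  [(.u, true), (.w, true), (.u, true), (.a, true), (.w, false), (.u, true), (.a, true), (.w, true), (.u, true), (.a, true)],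
  [(.u, true), (.a, true), (.w, true), (.u, true), (.w, false), (.u, true), (.a, true), (.w, true), (.u, true), (.a, true)],
  [(.w, true), (.u, true), (.w, true), (.u, true), (.w, false), (.u, true), (.a, true), (.w, true), (.u, true), (.a, true)],
  [(.w, false), (.u, true), (.w, true), (.u, true), (.w, false), (.u, true), (.a, true), (.w, true), (.u, true), (.a, true)],
  [(.u, true), (.a, true), (.w, false), (.u, true), (.w, false), (.u, true), (.a, true), (.w, true), (.u, true), (.a, true)],
  [(.w, true), (.a, true), (.w, false), (.u, true), (.w, false), (.u, true), (.a, true), (.w, true), (.u, true), (.a, true)],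
  [(.w, false), (.a, true), (.w, false), (.u, true), (.w, false), (.u, true), (.a, true), (.w, true), (.u, true), (.a, true)],
  [(.u, true), (.a, true), (.w, true), (.u, true), (.a, true), (.w, true), (.a, true), (.w, true), (.u, true), (.a, true)],
  [(.w, true), (.u, true), (.w, true), (.u, true), (.a, true), (.w, true), (.a, true), (.w, true), (.u, true), (.a, true)],
  [(.w, false), (.u, true), (.w, true), (.u, true), (.a, true), (.w, true), (.a, true), (.w, true), (.u, true), (.a, true)],
  [(.w, true), (.u, true), (.a, true), (.w, true), (.u, true), (.w, true), (.a, true), (.w, true), (.u, true), (.a, true)],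
  [(.w, false), (.u, true), (.a, true), (.w, true), (.u, true), (.w, true), (.a, true), (.w, true), (.u, true), (.a, true)],
  [(.w, true), (.u, true), (.a, true), (.w, true), (.a, true), (.w, false), (.a, true), (.w, true), (.u, true), (.a, true)],
  [(.w, false), (.u, true), (.a, true), (.w, true), (.a, true), (.w, false), (.a, true), (.w, true), (.u, true), (.a, true)],
  [(.u, true), (.w, true), (.u, true), (.w, false), (.a, true), (.w, false), (.a, true), (.w, true), (.u, true), (.a, true)],
  [(.u, true), (.a, true), (.w, false), (.u, true), (.a, true), (.w, true), (.u, true), (.w, true), (.u, true), (.a, true)],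
  [(.w, true), (.a, true), (.w, false), (.u, true), (.a, true), (.w, true), (.u, true), (.w, true), (.u, true), (.a, true)],
  [(.w, true), (.u, true), (.w, false), (.u, true), (.a, true), (.w, true), (.u, true), (.w, true), (.u, true), (.a, true)],
  [(.w, false), (.u, true), (.w, false), (.u, true), (.a, true), (.w, true), (.u, true), (.w, true), (.u, true), (.a, true)],
  [(.a, true), (.w, true), (.u, true), (.w, true), (.a, true), (.w, true), (.u, true), (.w, true), (.u, true), (.a, true)],
  [(.u, true), (.w, true), (.u, true), (.w, true), (.a, true), (.w, true), (.u, true), (.w, true), (.u, true), (.a, true)],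
  [(.a, true), (.w, false), (.u, true), (.w, true), (.a, true), (.w, true), (.u, true), (.w, true), (.u, true), (.a, true)],
  [(.u, true), (.a, true), (.w, true), (.u, true), (.a, true), (.w, false), (.u, true), (.w, true), (.u, true), (.a, true)],
  [(.w, true), (.u, true), (.w, true), (.u, true), (.a, true), (.w, false), (.u, true), (.w, true), (.u, true), (.a, true)],
  [(.w, false), (.u, true), (.w, true), (.u, true), (.a, true), (.w, false), (.u, true), (.w, true), (.u, true), (.a, true)],
  [(.u, true), (.a, true), (.w, false), (.u, true), (.a, true), (.w, false), (.u, true), (.w, true), (.u, true), (.a, true)],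
  [(.w, true), (.a, true), (.w, false), (.u, true), (.a, true), (.w, false), (.u, true), (.w, true), (.u, true), (.a, true)],
  [(.w, false), (.a, true), (.w, false), (.u, true), (.a, true), (.w, false), (.u, true), (.w, true), (.u, true), (.a, true)],
  [(.u, true), (.w, false), (.a, true), (.w, true), (.a, true), (.w, false), (.u, true), (.w, true), (.u, true), (.a, true)],
  [(.w, true), (.u, true), (.a, true), (.w, true), (.u, true), (.w, false), (.u, true), (.w, true), (.u, true), (.a, true)],
  [(.w, false), (.u, true), (.a, true), (.w, true), (.u, true), (.w, false), (.u, true), (.w, true), (.u, true), (.a, true)],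
  [(.a, true), (.w, true), (.a, true), (.w, true), (.u, true), (.w, false), (.u, true), (.w, true), (.u, true), (.a, true)],
  [(.a, true), (.w, false), (.u, true), (.w, true), (.u, true), (.w, false), (.u, true), (.w, true), (.u, true), (.a, true)],
  [(.u, true), (.w, false), (.u, true), (.w, true), (.u, true), (.w, false), (.u, true), (.w, true), (.u, true), (.a, true)],
  [(.a, true), (.w, false), (.u, true), (.a, true), (.w, true), (.u, true), (.a, true), (.w, false), (.u, true), (.a, true)],
  [(.u, true), (.w, false), (.u, true), (.a, true), (.w, true), (.u, true), (.a, true), (.w, false), (.u, true), (.a, true)],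
  [(.w, true), (.a, true), (.w, true), (.u, true), (.w, true), (.u, true), (.a, true), (.w, false), (.u, true), (.a, true)],
  [(.w, false), (.a, true), (.w, true), (.u, true), (.w, true), (.u, true), (.a, true), (.w, false), (.u, true), (.a, true)],
  [(.u, true), (.a, true), (.w, false), (.u, true), (.w, true), (.u, true), (.a, true), (.w, false), (.u, true), (.a, true)],
  [(.w, true), (.u, true), (.w, false), (.u, true), (.w, true), (.u, true), (.a, true), (.w, false), (.u, true), (.a, true)],
  [(.w, false), (.u, true), (.w, false), (.u, true), (.w, true), (.u, true), (.a, true), (.w, false), (.u, true), (.a, true)],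
  [(.u, true), (.a, true), (.w, true), (.u, true), (.w, false), (.u, true), (.a, true), (.w, false), (.u, true), (.a, true)],
  [(.w, false), (.a, true), (.w, true), (.u, true), (.w, false), (.u, true), (.a, true), (.w, false), (.u, true), (.a, true)],
  [(.w, false), (.u, true), (.w, true), (.u, true), (.w, false), (.u, true), (.a, true), (.w, false), (.u, true), (.a, true)],
  [(.w, true), (.u, true), (.a, true), (.w, false), (.a, true), (.w, true), (.a, true), (.w, false), (.u, true), (.a, true)],
  [(.w, false), (.u, true), (.a, true), (.w, false), (.a, true), (.w, true), (.a, true), (.w, false), (.u, true), (.a, true)],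
  [(.u, true), (.a, true), (.w, false), (.u, true), (.a, true), (.w, false), (.a, true), (.w, false), (.u, true), (.a, true)],
  [(.w, true), (.u, true), (.w, false), (.u, true), (.a, true), (.w, false), (.a, true), (.w, false), (.u, true), (.a, true)],
  [(.w, false), (.u, true), (.w, false), (.u, true), (.a, true), (.w, false), (.a, true), (.w, false), (.u, true), (.a, true)],
  [(.w, true), (.u, true), (.a, true), (.w, false), (.u, true), (.w, false), (.a, true), (.w, false), (.u, true), (.a, true)],
  [(.w, false), (.u, true), (.a, true), (.w, false), (.u, true), (.w, false), (.a, true), (.w, false), (.u, true), (.a, true)],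
  [(.w, true), (.a, true), (.w, true), (.u, true), (.a, true), (.w, true), (.u, true), (.w, false), (.u, true), (.a, true)],
  [(.w, false), (.a, true), (.w, true), (.u, true), (.a, true), (.w, true), (.u, true), (.w, false), (.u, true), (.a, true)],
  [(.u, true), (.a, true), (.w, false), (.u, true), (.a, true), (.w, true), (.u, true), (.w, false), (.u, true), (.a, true)],
  [(.w, true), (.u, true), (.w, false), (.u, true), (.a, true), (.w, true), (.u, true), (.w, false), (.u, true), (.a, true)],
  [(.w, false), (.u, true), (.w, false), (.u, true), (.a, true), (.w, true), (.u, true), (.w, false), (.u, true), (.a, true)],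
  [(.u, true), (.w, true), (.a, true), (.w, false), (.a, true), (.w, true), (.u, true), (.w, false), (.u, true), (.a, true)],
  [(.w, true), (.u, true), (.a, true), (.w, false), (.u, true), (.w, true), (.u, true), (.w, false), (.u, true), (.a, true)],
  [(.w, false), (.u, true), (.a, true), (.w, false), (.u, true), (.w, true), (.u, true), (.w, false), (.u, true), (.a, true)],
  [(.a, true), (.w, true), (.u, true), (.w, false), (.u, true), (.w, true), (.u, true), (.w, false), (.u, true), (.a, true)],
  [(.u, true), (.w, true), (.u, true), (.w, false), (.u, true), (.w, true), (.u, true), (.w, false), (.u, true), (.a, true)],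
  [(.u, true), (.a, true), (.w, true), (.u, true), (.a, true), (.w, false), (.u, true), (.w, false), (.u, true), (.a, true)],
  [(.w, false), (.a, true), (.w, true), (.u, true), (.a, true), (.w, false), (.u, true), (.w, false), (.u, true), (.a, true)],
  [(.w, true), (.u, true), (.w, true), (.u, true), (.a, true), (.w, false), (.u, true), (.w, false), (.u, true), (.a, true)],
  [(.w, false), (.u, true), (.w, true), (.u, true), (.a, true), (.w, false), (.u, true), (.w, false), (.u, true), (.a, true)],
  [(.a, true), (.w, false), (.u, true), (.w, false), (.a, true), (.w, false), (.u, true), (.w, false), (.u, true), (.a, true)],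
  [(.u, true), (.w, false), (.u, true), (.w, false), (.a, true), (.w, false), (.u, true), (.w, false), (.u, true), (.a, true)],
  [(.w, true), (.u, true), (.w, false), (.u, true), (.a, true), (.w, true), (.u, true), (.a, true), (.w, true), (.a, true)],
  [(.w, false), (.u, true), (.w, false), (.u, true), (.a, true), (.w, true), (.u, true), (.a, true), (.w, true), (.a, true)],
  [(.w, true), (.u, true), (.a, true), (.w, true), (.a, true), (.w, true), (.u, true), (.a, true), (.w, true), (.a, true)],
  [(.u, true), (.w, true), (.a, true), (.w, true), (.u, true), (.w, true), (.u, true), (.a, true), (.w, true), (.a, true)],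
  [(.w, true), (.u, true), (.a, true), (.w, false), (.u, true), (.w, true), (.u, true), (.a, true), (.w, true), (.a, true)],
  [(.w, false), (.u, true), (.a, true), (.w, false), (.u, true), (.w, true), (.u, true), (.a, true), (.w, true), (.a, true)],
  [(.a, true), (.w, true), (.u, true), (.w, false), (.u, true), (.w, true), (.u, true), (.a, true), (.w, true), (.a, true)],
  [(.u, true), (.a, true), (.w, true), (.u, true), (.a, true), (.w, false), (.u, true), (.a, true), (.w, true), (.a, true)],
  [(.w, true), (.u, true), (.w, true), (.u, true), (.a, true), (.w, false), (.u, true), (.a, true), (.w, true), (.a, true)],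
  [(.w, true), (.u, true), (.a, true), (.w, true), (.u, true), (.w, false), (.u, true), (.a, true), (.w, true), (.a, true)],
  [(.w, false), (.u, true), (.a, true), (.w, true), (.u, true), (.w, false), (.u, true), (.a, true), (.w, true), (.a, true)],
  [(.u, true), (.w, false), (.u, true), (.w, true), (.u, true), (.w, false), (.u, true), (.a, true), (.w, true), (.a, true)],
  [(.w, true), (.u, true), (.a, true), (.w, false), (.u, true), (.w, false), (.u, true), (.a, true), (.w, true), (.a, true)],
  [(.u, true), (.w, false), (.a, true), (.w, false), (.u, true), (.w, false), (.u, true), (.a, true), (.w, true), (.a, true)],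
  [(.u, true), (.w, false), (.u, true), (.w, true), (.u, true), (.a, true), (.w, true), (.a, true), (.w, true), (.a, true)],
  [(.u, true), (.w, false), (.u, true), (.a, true), (.w, true), (.u, true), (.w, true), (.a, true), (.w, true), (.a, true)],
  [(.u, true), (.w, true), (.u, true), (.a, true), (.w, true), (.a, true), (.w, false), (.a, true), (.w, true), (.a, true)],
  [(.u, true), (.w, false), (.u, true), (.a, true), (.w, true), (.a, true), (.w, false), (.a, true), (.w, true), (.a, true)],
  [(.u, true), (.w, true), (.a, true), (.w, true), (.u, true), (.a, true), (.w, true), (.u, true), (.w, true), (.a, true)],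
  [(.w, true), (.u, true), (.a, true), (.w, false), (.u, true), (.a, true), (.w, true), (.u, true), (.w, true), (.a, true)],
  [(.w, false), (.u, true), (.a, true), (.w, false), (.u, true), (.a, true), (.w, true), (.u, true), (.w, true), (.a, true)],
  [(.a, true), (.w, true), (.u, true), (.w, false), (.u, true), (.a, true), (.w, true), (.u, true), (.w, true), (.a, true)],
  [(.a, true), (.w, false), (.u, true), (.w, false), (.u, true), (.a, true), (.w, true), (.u, true), (.w, true), (.a, true)],
  [(.u, true), (.w, false), (.u, true), (.w, false), (.u, true), (.a, true), (.w, true), (.u, true), (.w, true), (.a, true)],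
  [(.u, true), (.a, true), (.w, true), (.u, true), (.w, true), (.a, true), (.w, true), (.u, true), (.w, true), (.a, true)],
  [(.w, true), (.u, true), (.a, true), (.w, true), (.u, true), (.a, true), (.w, false), (.u, true), (.w, true), (.a, true)],
  [(.a, true), (.w, true), (.u, true), (.w, true), (.u, true), (.a, true), (.w, false), (.u, true), (.w, true), (.a, true)],
  [(.a, true), (.w, false), (.u, true), (.w, true), (.u, true), (.a, true), (.w, false), (.u, true), (.w, true), (.a, true)],
  [(.u, true), (.w, false), (.u, true), (.w, true), (.u, true), (.a, true), (.w, false), (.u, true), (.w, true), (.a, true)],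
  [(.u, true), (.w, false), (.a, true), (.w, false), (.u, true), (.a, true), (.w, false), (.u, true), (.w, true), (.a, true)],
  [(.a, true), (.w, true), (.u, true), (.a, true), (.w, true), (.u, true), (.w, false), (.u, true), (.w, true), (.a, true)],
  [(.u, true), (.w, false), (.u, true), (.a, true), (.w, true), (.u, true), (.w, false), (.u, true), (.w, true), (.a, true)],
  [(.u, true), (.a, true), (.w, false), (.u, true), (.w, true), (.u, true), (.w, false), (.u, true), (.w, true), (.a, true)],
  [(.w, true), (.u, true), (.w, false), (.u, true), (.w, true), (.u, true), (.w, false), (.u, true), (.w, true), (.a, true)],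
  [(.u, true), (.a, true), (.w, false), (.u, true), (.a, true), (.w, true), (.u, true), (.a, true), (.w, false), (.a, true)],
  [(.w, false), (.u, true), (.w, false), (.u, true), (.a, true), (.w, true), (.u, true), (.a, true), (.w, false), (.a, true)],
  [(.u, true), (.w, true), (.a, true), (.w, true), (.u, true), (.w, true), (.u, true), (.a, true), (.w, false), (.a, true)],
  [(.w, true), (.u, true), (.a, true), (.w, false), (.u, true), (.w, true), (.u, true), (.a, true), (.w, false), (.a, true)],
  [(.w, false), (.u, true), (.a, true), (.w, false), (.u, true), (.w, true), (.u, true), (.a, true), (.w, false), (.a, true)],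
  [(.u, true), (.w, true), (.u, true), (.w, false), (.u, true), (.w, true), (.u, true), (.a, true), (.w, false), (.a, true)],
  [(.w, true), (.u, true), (.w, true), (.u, true), (.a, true), (.w, false), (.u, true), (.a, true), (.w, false), (.a, true)],
  [(.w, false), (.u, true), (.w, true), (.u, true), (.a, true), (.w, false), (.u, true), (.a, true), (.w, false), (.a, true)],
  [(.w, true), (.u, true), (.a, true), (.w, true), (.u, true), (.w, false), (.u, true), (.a, true), (.w, false), (.a, true)],
  [(.w, false), (.u, true), (.a, true), (.w, true), (.u, true), (.w, false), (.u, true), (.a, true), (.w, false), (.a, true)],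
  [(.a, true), (.w, false), (.u, true), (.w, true), (.u, true), (.w, false), (.u, true), (.a, true), (.w, false), (.a, true)],
  [(.u, true), (.w, false), (.a, true), (.w, false), (.u, true), (.w, false), (.u, true), (.a, true), (.w, false), (.a, true)],
  [(.u, true), (.w, true), (.u, true), (.a, true), (.w, false), (.a, true), (.w, true), (.a, true), (.w, false), (.a, true)],
  [(.u, true), (.w, false), (.u, true), (.a, true), (.w, false), (.a, true), (.w, true), (.a, true), (.w, false), (.a, true)],
  [(.u, true), (.w, true), (.u, true), (.w, false), (.u, true), (.a, true), (.w, false), (.a, true), (.w, false), (.a, true)],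
  [(.u, true), (.w, true), (.u, true), (.a, true), (.w, false), (.u, true), (.w, false), (.a, true), (.w, false), (.a, true)],
  [(.u, true), (.w, true), (.a, true), (.w, true), (.u, true), (.a, true), (.w, true), (.u, true), (.w, false), (.a, true)],
  [(.w, false), (.u, true), (.a, true), (.w, false), (.u, true), (.a, true), (.w, true), (.u, true), (.w, false), (.a, true)],
  [(.a, true), (.w, true), (.u, true), (.w, false), (.u, true), (.a, true), (.w, true), (.u, true), (.w, false), (.a, true)],
  [(.u, true), (.w, true), (.u, true), (.w, false), (.u, true), (.a, true), (.w, true), (.u, true), (.w, false), (.a, true)],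
  [(.a, true), (.w, false), (.u, true), (.w, false), (.u, true), (.a, true), (.w, true), (.u, true), (.w, false), (.a, true)],
  [(.u, true), (.w, true), (.u, true), (.a, true), (.w, false), (.u, true), (.w, true), (.u, true), (.w, false), (.a, true)],
  [(.a, true), (.w, false), (.u, true), (.a, true), (.w, false), (.u, true), (.w, true), (.u, true), (.w, false), (.a, true)],
  [(.u, true), (.a, true), (.w, true), (.u, true), (.w, false), (.u, true), (.w, true), (.u, true), (.w, false), (.a, true)],
  [(.w, true), (.a, true), (.w, true), (.u, true), (.w, false), (.u, true), (.w, true), (.u, true), (.w, false), (.a, true)],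
  [(.w, true), (.u, true), (.a, true), (.w, true), (.u, true), (.a, true), (.w, false), (.u, true), (.w, false), (.a, true)],
  [(.w, false), (.u, true), (.a, true), (.w, true), (.u, true), (.a, true), (.w, false), (.u, true), (.w, false), (.a, true)],
  [(.a, true), (.w, true), (.u, true), (.w, true), (.u, true), (.a, true), (.w, false), (.u, true), (.w, false), (.a, true)],
  [(.a, true), (.w, false), (.u, true), (.w, true), (.u, true), (.a, true), (.w, false), (.u, true), (.w, false), (.a, true)],
  [(.u, true), (.w, false), (.a, true), (.w, false), (.u, true), (.a, true), (.w, false), (.u, true), (.w, false), (.a, true)],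
  [(.u, true), (.a, true), (.w, false), (.u, true), (.w, false), (.a, true), (.w, false), (.u, true), (.w, false), (.a, true)],
  [(.w, true), (.u, true), (.a, true), (.w, true), (.a, true), (.w, true), (.u, true), (.a, true), (.w, true), (.u, true)],
  [(.w, true), (.u, true), (.a, true), (.w, false), (.u, true), (.w, true), (.u, true), (.a, true), (.w, true), (.u, true)],
  [(.w, false), (.u, true), (.a, true), (.w, false), (.u, true), (.w, true), (.u, true), (.a, true), (.w, true), (.u, true)],
  [(.a, true), (.w, true), (.u, true), (.w, false), (.u, true), (.w, true), (.u, true), (.a, true), (.w, true), (.u, true)],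
  [(.u, true), (.a, true), (.w, true), (.u, true), (.a, true), (.w, false), (.u, true), (.a, true), (.w, true), (.u, true)],
  [(.w, true), (.u, true), (.w, true), (.u, true), (.a, true), (.w, false), (.u, true), (.a, true), (.w, true), (.u, true)],
  [(.w, false), (.u, true), (.w, true), (.u, true), (.a, true), (.w, false), (.u, true), (.a, true), (.w, true), (.u, true)],
  [(.w, true), (.u, true), (.a, true), (.w, true), (.u, true), (.w, false), (.u, true), (.a, true), (.w, true), (.u, true)],
  [(.w, false), (.u, true), (.a, true), (.w, true), (.u, true), (.w, false), (.u, true), (.a, true), (.w, true), (.u, true)],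
  [(.a, true), (.w, false), (.u, true), (.w, true), (.u, true), (.w, false), (.u, true), (.a, true), (.w, true), (.u, true)],
  [(.u, true), (.w, false), (.u, true), (.w, true), (.u, true), (.w, false), (.u, true), (.a, true), (.w, true), (.u, true)],
  [(.w, true), (.u, true), (.a, true), (.w, false), (.u, true), (.w, false), (.u, true), (.a, true), (.w, true), (.u, true)],
  [(.u, true), (.w, false), (.a, true), (.w, false), (.u, true), (.w, false), (.u, true), (.a, true), (.w, true), (.u, true)],
  [(.u, true), (.w, false), (.u, true), (.w, true), (.u, true), (.a, true), (.w, true), (.a, true), (.w, true), (.u, true)],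
  [(.u, true), (.w, false), (.u, true), (.a, true), (.w, true), (.u, true), (.w, true), (.a, true), (.w, true), (.u, true)],
  [(.u, true), (.w, true), (.u, true), (.a, true), (.w, true), (.a, true), (.w, false), (.a, true), (.w, true), (.u, true)],
  [(.u, true), (.w, false), (.u, true), (.a, true), (.w, true), (.a, true), (.w, false), (.a, true), (.w, true), (.u, true)],
  [(.w, true), (.u, true), (.a, true), (.w, false), (.u, true), (.a, true), (.w, true), (.u, true), (.w, true), (.u, true)],
  [(.w, false), (.u, true), (.a, true), (.w, false), (.u, true), (.a, true), (.w, true), (.u, true), (.w, true), (.u, true)],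
  [(.a, true), (.w, true), (.u, true), (.w, false), (.u, true), (.a, true), (.w, true), (.u, true), (.w, true), (.u, true)],
  [(.a, true), (.w, false), (.u, true), (.w, false), (.u, true), (.a, true), (.w, true), (.u, true), (.w, true), (.u, true)],
  [(.u, true), (.w, false), (.u, true), (.w, false), (.u, true), (.a, true), (.w, true), (.u, true), (.w, true), (.u, true)],
  [(.u, true), (.a, true), (.w, true), (.u, true), (.w, true), (.a, true), (.w, true), (.u, true), (.w, true), (.u, true)],
  [(.w, true), (.a, true), (.w, true), (.u, true), (.w, true), (.a, true), (.w, true), (.u, true), (.w, true), (.u, true)],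
  [(.w, true), (.u, true), (.a, true), (.w, true), (.u, true), (.a, true), (.w, false), (.u, true), (.w, true), (.u, true)],
  [(.w, false), (.u, true), (.a, true), (.w, true), (.u, true), (.a, true), (.w, false), (.u, true), (.w, true), (.u, true)],
  [(.a, true), (.w, true), (.u, true), (.w, true), (.u, true), (.a, true), (.w, false), (.u, true), (.w, true), (.u, true)],
  [(.a, true), (.w, false), (.u, true), (.w, true), (.u, true), (.a, true), (.w, false), (.u, true), (.w, true), (.u, true)],
  [(.u, true), (.w, false), (.u, true), (.w, true), (.u, true), (.a, true), (.w, false), (.u, true), (.w, true), (.u, true)],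
  [(.u, true), (.w, false), (.a, true), (.w, false), (.u, true), (.a, true), (.w, false), (.u, true), (.w, true), (.u, true)],
  [(.w, false), (.u, true), (.w, false), (.a, true), (.w, true), (.a, true), (.w, false), (.u, true), (.w, true), (.u, true)],
  [(.a, true), (.w, true), (.u, true), (.a, true), (.w, true), (.u, true), (.w, false), (.u, true), (.w, true), (.u, true)],
  [(.a, true), (.w, false), (.u, true), (.a, true), (.w, true), (.u, true), (.w, false), (.u, true), (.w, true), (.u, true)],
  [(.u, true), (.w, false), (.u, true), (.a, true), (.w, true), (.u, true), (.w, false), (.u, true), (.w, true), (.u, true)],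
  [(.u, true), (.a, true), (.w, false), (.u, true), (.w, true), (.u, true), (.w, false), (.u, true), (.w, true), (.u, true)],
  [(.w, true), (.u, true), (.w, false), (.u, true), (.w, true), (.u, true), (.w, false), (.u, true), (.w, true), (.u, true)],
  [(.u, true), (.a, true), (.w, false), (.u, true), (.a, true), (.w, true), (.u, true), (.a, true), (.w, false), (.u, true)],
  [(.w, true), (.u, true), (.w, false), (.u, true), (.a, true), (.w, true), (.u, true), (.a, true), (.w, false), (.u, true)],
  [(.w, false), (.u, true), (.w, false), (.u, true), (.a, true), (.w, true), (.u, true), (.a, true), (.w, false), (.u, true)],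
  [(.u, true), (.w, true), (.a, true), (.w, true), (.u, true), (.w, true), (.u, true), (.a, true), (.w, false), (.u, true)],
  [(.w, true), (.u, true), (.a, true), (.w, false), (.u, true), (.w, true), (.u, true), (.a, true), (.w, false), (.u, true)],
  [(.w, false), (.u, true), (.a, true), (.w, false), (.u, true), (.w, true), (.u, true), (.a, true), (.w, false), (.u, true)],
  [(.a, true), (.w, true), (.u, true), (.w, false), (.u, true), (.w, true), (.u, true), (.a, true), (.w, false), (.u, true)],
  [(.u, true), (.w, true), (.u, true), (.w, false), (.u, true), (.w, true), (.u, true), (.a, true), (.w, false), (.u, true)],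
  [(.w, true), (.u, true), (.a, true), (.w, true), (.u, true), (.w, false), (.u, true), (.a, true), (.w, false), (.u, true)],
  [(.w, false), (.u, true), (.a, true), (.w, true), (.u, true), (.w, false), (.u, true), (.a, true), (.w, false), (.u, true)],
  [(.a, true), (.w, false), (.u, true), (.w, true), (.u, true), (.w, false), (.u, true), (.a, true), (.w, false), (.u, true)],
  [(.u, true), (.w, true), (.u, true), (.a, true), (.w, false), (.a, true), (.w, true), (.a, true), (.w, false), (.u, true)],
  [(.u, true), (.w, false), (.u, true), (.a, true), (.w, false), (.a, true), (.w, true), (.a, true), (.w, false), (.u, true)],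
  [(.u, true), (.w, true), (.u, true), (.w, false), (.u, true), (.a, true), (.w, false), (.a, true), (.w, false), (.u, true)],
  [(.u, true), (.w, true), (.u, true), (.a, true), (.w, false), (.u, true), (.w, false), (.a, true), (.w, false), (.u, true)],
  [(.u, true), (.w, true), (.a, true), (.w, true), (.u, true), (.a, true), (.w, true), (.u, true), (.w, false), (.u, true)],
  [(.w, true), (.u, true), (.a, true), (.w, false), (.u, true), (.a, true), (.w, true), (.u, true), (.w, false), (.u, true)],
  [(.w, false), (.u, true), (.a, true), (.w, false), (.u, true), (.a, true), (.w, true), (.u, true), (.w, false), (.u, true)],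
  [(.a, true), (.w, true), (.u, true), (.w, false), (.u, true), (.a, true), (.w, true), (.u, true), (.w, false), (.u, true)],
  [(.u, true), (.w, true), (.u, true), (.w, false), (.u, true), (.a, true), (.w, true), (.u, true), (.w, false), (.u, true)],
  [(.a, true), (.w, false), (.u, true), (.w, false), (.u, true), (.a, true), (.w, true), (.u, true), (.w, false), (.u, true)],
  [(.w, true), (.u, true), (.w, true), (.a, true), (.w, false), (.a, true), (.w, true), (.u, true), (.w, false), (.u, true)],
  [(.a, true), (.w, true), (.u, true), (.a, true), (.w, false), (.u, true), (.w, true), (.u, true), (.w, false), (.u, true)],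
  [(.u, true), (.w, true), (.u, true), (.a, true), (.w, false), (.u, true), (.w, true), (.u, true), (.w, false), (.u, true)],
  [(.a, true), (.w, false), (.u, true), (.a, true), (.w, false), (.u, true), (.w, true), (.u, true), (.w, false), (.u, true)],
  [(.u, true), (.a, true), (.w, true), (.u, true), (.w, false), (.u, true), (.w, true), (.u, true), (.w, false), (.u, true)],
  [(.w, true), (.a, true), (.w, true), (.u, true), (.w, false), (.u, true), (.w, true), (.u, true), (.w, false), (.u, true)],
  [(.w, true), (.u, true), (.a, true), (.w, true), (.u, true), (.a, true), (.w, false), (.u, true), (.w, false), (.u, true)],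
  [(.w, false), (.u, true), (.a, true), (.w, true), (.u, true), (.a, true), (.w, false), (.u, true), (.w, false), (.u, true)],
  [(.a, true), (.w, true), (.u, true), (.w, true), (.u, true), (.a, true), (.w, false), (.u, true), (.w, false), (.u, true)],
  [(.a, true), (.w, false), (.u, true), (.w, true), (.u, true), (.a, true), (.w, false), (.u, true), (.w, false), (.u, true)],
  [(.u, true), (.a, true), (.w, false), (.u, true), (.w, false), (.a, true), (.w, false), (.u, true), (.w, false), (.u, true)],
  [(.w, false), (.a, true), (.w, false), (.u, true), (.w, false), (.a, true), (.w, false), (.u, true), (.w, false), (.u, true)],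
  [(.a, true), (.w, true), (.u, true), (.a, true), (.w, true), (.a, true), (.w, true), (.u, true), (.a, true), (.w, true)],
  [(.u, true), (.w, true), (.u, true), (.a, true), (.w, true), (.a, true), (.w, true), (.u, true), (.a, true), (.w, true)],
  [(.w, false), (.u, true), (.w, true), (.a, true), (.w, true), (.u, true), (.w, true), (.u, true), (.a, true), (.w, true)],
  [(.a, true), (.w, true), (.u, true), (.a, true), (.w, false), (.u, true), (.w, true), (.u, true), (.a, true), (.w, true)],
  [(.u, true), (.w, true), (.u, true), (.a, true), (.w, false), (.u, true), (.w, true), (.u, true), (.a, true), (.w, true)],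
  [(.a, true), (.w, false), (.u, true), (.a, true), (.w, false), (.u, true), (.w, true), (.u, true), (.a, true), (.w, true)],
  [(.u, true), (.w, false), (.u, true), (.a, true), (.w, false), (.u, true), (.w, true), (.u, true), (.a, true), (.w, true)],
  [(.w, true), (.a, true), (.w, true), (.u, true), (.w, false), (.u, true), (.w, true), (.u, true), (.a, true), (.w, true)],
  [(.w, true), (.u, true), (.a, true), (.w, true), (.u, true), (.a, true), (.w, false), (.u, true), (.a, true), (.w, true)],
  [(.w, false), (.u, true), (.a, true), (.w, true), (.u, true), (.a, true), (.w, false), (.u, true), (.a, true), (.w, true)],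
  [(.a, true), (.w, true), (.u, true), (.w, true), (.u, true), (.a, true), (.w, false), (.u, true), (.a, true), (.w, true)],
  [(.u, true), (.w, false), (.u, true), (.w, true), (.u, true), (.a, true), (.w, false), (.u, true), (.a, true), (.w, true)],
  [(.a, true), (.w, true), (.u, true), (.a, true), (.w, true), (.u, true), (.w, false), (.u, true), (.a, true), (.w, true)],
  [(.a, true), (.w, false), (.u, true), (.a, true), (.w, true), (.u, true), (.w, false), (.u, true), (.a, true), (.w, true)],
  [(.u, true), (.w, false), (.u, true), (.a, true), (.w, true), (.u, true), (.w, false), (.u, true), (.a, true), (.w, true)],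
  [(.u, true), (.a, true), (.w, false), (.u, true), (.w, true), (.u, true), (.w, false), (.u, true), (.a, true), (.w, true)],
  [(.w, true), (.u, true), (.w, false), (.u, true), (.w, true), (.u, true), (.w, false), (.u, true), (.a, true), (.w, true)],
  [(.a, true), (.w, true), (.u, true), (.a, true), (.w, false), (.u, true), (.w, false), (.u, true), (.a, true), (.w, true)],
  [(.u, true), (.w, true), (.u, true), (.a, true), (.w, false), (.u, true), (.w, false), (.u, true), (.a, true), (.w, true)],
  [(.w, false), (.u, true), (.w, false), (.a, true), (.w, false), (.u, true), (.w, false), (.u, true), (.a, true), (.w, true)],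
  [(.w, false), (.u, true), (.w, true), (.u, true), (.w, false), (.u, true), (.a, true), (.w, true), (.a, true), (.w, true)],
  [(.w, true), (.u, true), (.w, false), (.u, true), (.a, true), (.w, true), (.u, true), (.w, true), (.a, true), (.w, true)],
  [(.w, false), (.u, true), (.w, false), (.u, true), (.a, true), (.w, true), (.u, true), (.w, true), (.a, true), (.w, true)],
  [(.u, true), (.w, true), (.u, true), (.w, true), (.a, true), (.w, true), (.u, true), (.w, true), (.a, true), (.w, true)],
  [(.w, true), (.u, true), (.w, true), (.u, true), (.a, true), (.w, false), (.u, true), (.w, true), (.a, true), (.w, true)],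
  [(.w, false), (.u, true), (.w, true), (.u, true), (.a, true), (.w, true), (.a, true), (.w, false), (.a, true), (.w, true)],
  [(.w, false), (.u, true), (.w, false), (.u, true), (.a, true), (.w, true), (.a, true), (.w, false), (.a, true), (.w, true)],
  [(.w, false), (.u, true), (.w, true), (.a, true), (.w, true), (.u, true), (.a, true), (.w, true), (.u, true), (.w, true)],
  [(.a, true), (.w, true), (.u, true), (.a, true), (.w, false), (.u, true), (.a, true), (.w, true), (.u, true), (.w, true)],
  [(.u, true), (.w, true), (.u, true), (.a, true), (.w, false), (.u, true), (.a, true), (.w, true), (.u, true), (.w, true)],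
  [(.w, true), (.a, true), (.w, true), (.u, true), (.w, false), (.u, true), (.a, true), (.w, true), (.u, true), (.w, true)],
  [(.u, true), (.a, true), (.w, false), (.u, true), (.w, false), (.u, true), (.a, true), (.w, true), (.u, true), (.w, true)],
  [(.w, true), (.a, true), (.w, false), (.u, true), (.w, false), (.u, true), (.a, true), (.w, true), (.u, true), (.w, true)],
  [(.w, false), (.a, true), (.w, false), (.u, true), (.w, false), (.u, true), (.a, true), (.w, true), (.u, true), (.w, true)],
  [(.w, false), (.u, true), (.a, true), (.w, true), (.u, true), (.w, true), (.a, true), (.w, true), (.u, true), (.w, true)],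
  [(.u, true), (.w, false), (.u, true), (.a, true), (.w, true), (.u, true), (.a, true), (.w, false), (.u, true), (.w, true)],
  [(.w, true), (.a, true), (.w, true), (.u, true), (.w, true), (.u, true), (.a, true), (.w, false), (.u, true), (.w, true)],
  [(.u, true), (.a, true), (.w, false), (.u, true), (.w, true), (.u, true), (.a, true), (.w, false), (.u, true), (.w, true)],
  [(.w, true), (.u, true), (.w, false), (.u, true), (.w, true), (.u, true), (.a, true), (.w, false), (.u, true), (.w, true)],
  [(.w, true), (.u, true), (.w, false), (.a, true), (.w, false), (.u, true), (.a, true), (.w, false), (.u, true), (.w, true)],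
  [(.w, true), (.u, true), (.w, false), (.u, true), (.a, true), (.w, false), (.a, true), (.w, false), (.u, true), (.w, true)],
  [(.w, false), (.u, true), (.w, false), (.u, true), (.a, true), (.w, false), (.a, true), (.w, false), (.u, true), (.w, true)],
  [(.u, true), (.a, true), (.w, false), (.u, true), (.a, true), (.w, true), (.u, true), (.w, false), (.u, true), (.w, true)],
  [(.w, true), (.u, true), (.w, false), (.u, true), (.a, true), (.w, true), (.u, true), (.w, false), (.u, true), (.w, true)],
  [(.w, true), (.u, true), (.a, true), (.w, false), (.u, true), (.w, true), (.u, true), (.w, false), (.u, true), (.w, true)],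
  [(.w, true), (.u, true), (.a, true), (.w, false), (.u, true), (.a, true), (.w, true), (.u, true), (.a, true), (.w, false)],
  [(.w, false), (.u, true), (.a, true), (.w, false), (.u, true), (.a, true), (.w, true), (.u, true), (.a, true), (.w, false)],
  [(.u, true), (.w, true), (.u, true), (.w, false), (.u, true), (.a, true), (.w, true), (.u, true), (.a, true), (.w, false)],
  [(.a, true), (.w, false), (.u, true), (.w, false), (.u, true), (.a, true), (.w, true), (.u, true), (.a, true), (.w, false)],
  [(.u, true), (.w, false), (.u, true), (.w, false), (.u, true), (.a, true), (.w, true), (.u, true), (.a, true), (.w, false)],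
  [(.w, true), (.u, true), (.w, true), (.a, true), (.w, true), (.u, true), (.w, true), (.u, true), (.a, true), (.w, false)],
  [(.w, false), (.u, true), (.w, true), (.a, true), (.w, true), (.u, true), (.w, true), (.u, true), (.a, true), (.w, false)],
  [(.a, true), (.w, true), (.u, true), (.a, true), (.w, false), (.u, true), (.w, true), (.u, true), (.a, true), (.w, false)],
  [(.u, true), (.w, true), (.u, true), (.a, true), (.w, false), (.u, true), (.w, true), (.u, true), (.a, true), (.w, false)],
  [(.a, true), (.w, false), (.u, true), (.a, true), (.w, false), (.u, true), (.w, true), (.u, true), (.a, true), (.w, false)],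
  [(.u, true), (.w, false), (.u, true), (.a, true), (.w, false), (.u, true), (.w, true), (.u, true), (.a, true), (.w, false)],
  [(.u, true), (.a, true), (.w, true), (.u, true), (.w, false), (.u, true), (.w, true), (.u, true), (.a, true), (.w, false)],
  [(.a, true), (.w, true), (.u, true), (.a, true), (.w, true), (.u, true), (.w, false), (.u, true), (.a, true), (.w, false)],
  [(.a, true), (.w, false), (.u, true), (.a, true), (.w, true), (.u, true), (.w, false), (.u, true), (.a, true), (.w, false)],
  [(.u, true), (.w, false), (.u, true), (.a, true), (.w, true), (.u, true), (.w, false), (.u, true), (.a, true), (.w, false)],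
  [(.w, true), (.u, true), (.w, true), (.u, true), (.a, true), (.w, false), (.a, true), (.w, true), (.a, true), (.w, false)],
  [(.w, true), (.u, true), (.w, false), (.u, true), (.a, true), (.w, false), (.a, true), (.w, true), (.a, true), (.w, false)],
  [(.w, false), (.u, true), (.w, false), (.u, true), (.a, true), (.w, true), (.u, true), (.w, false), (.a, true), (.w, false)],
  [(.w, true), (.u, true), (.w, true), (.u, true), (.a, true), (.w, false), (.u, true), (.w, false), (.a, true), (.w, false)],
  [(.w, false), (.u, true), (.w, true), (.u, true), (.a, true), (.w, false), (.u, true), (.w, false), (.a, true), (.w, false)],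
  [(.u, true), (.w, false), (.u, true), (.w, false), (.a, true), (.w, false), (.u, true), (.w, false), (.a, true), (.w, false)],
  [(.w, false), (.u, true), (.w, true), (.a, true), (.w, true), (.u, true), (.a, true), (.w, true), (.u, true), (.w, false)],
  [(.u, true), (.w, true), (.u, true), (.a, true), (.w, false), (.u, true), (.a, true), (.w, true), (.u, true), (.w, false)],
  [(.u, true), (.a, true), (.w, true), (.u, true), (.w, false), (.u, true), (.a, true), (.w, true), (.u, true), (.w, false)],
  [(.w, false), (.a, true), (.w, false), (.u, true), (.w, false), (.u, true), (.a, true), (.w, true), (.u, true), (.w, false)],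
  [(.w, true), (.u, true), (.w, true), (.u, true), (.a, true), (.w, true), (.a, true), (.w, true), (.u, true), (.w, false)],
  [(.w, false), (.u, true), (.w, true), (.u, true), (.a, true), (.w, true), (.a, true), (.w, true), (.u, true), (.w, false)],
  [(.u, true), (.a, true), (.w, true), (.u, true), (.a, true), (.w, false), (.u, true), (.w, true), (.u, true), (.w, false)],
  [(.a, true), (.w, true), (.a, true), (.w, true), (.u, true), (.w, false), (.u, true), (.w, true), (.u, true), (.w, false)],
  [(.u, true), (.w, false), (.u, true), (.a, true), (.w, true), (.u, true), (.a, true), (.w, false), (.u, true), (.w, false)],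
  [(.w, true), (.a, true), (.w, true), (.u, true), (.w, true), (.u, true), (.a, true), (.w, false), (.u, true), (.w, false)],
  [(.w, false), (.a, true), (.w, true), (.u, true), (.w, true), (.u, true), (.a, true), (.w, false), (.u, true), (.w, false)],
  [(.w, false), (.a, true), (.w, false), (.u, true), (.w, true), (.u, true), (.a, true), (.w, false), (.u, true), (.w, false)],
  [(.w, true), (.u, true), (.w, false), (.a, true), (.w, false), (.u, true), (.a, true), (.w, false), (.u, true), (.w, false)],
  [(.w, true), (.u, true), (.a, true), (.w, false), (.u, true), (.w, false), (.a, true), (.w, false), (.u, true), (.w, false)],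
  [(.w, true), (.u, true), (.a, true), (.w, true), (.a, true), (.w, true), (.u, true), (.a, true), (.w, true), (.u, true), (.a, true)],
  [(.w, true), (.u, true), (.a, true), (.w, false), (.u, true), (.w, true), (.u, true), (.a, true), (.w, true), (.u, true), (.a, true)],
  [(.w, false), (.u, true), (.a, true), (.w, false), (.u, true), (.w, true), (.u, true), (.a, true), (.w, true), (.u, true), (.a, true)],
  [(.u, true), (.a, true), (.w, true), (.u, true), (.a, true), (.w, false), (.u, true), (.a, true), (.w, true), (.u, true), (.a, true)],
  [(.w, true), (.u, true), (.w, true), (.u, true), (.a, true), (.w, false), (.u, true), (.a, true), (.w, true), (.u, true), (.a, true)],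
  [(.w, true), (.u, true), (.a, true), (.w, true), (.u, true), (.w, false), (.u, true), (.a, true), (.w, true), (.u, true), (.a, true)],
  [(.w, false), (.u, true), (.a, true), (.w, true), (.u, true), (.w, false), (.u, true), (.a, true), (.w, true), (.u, true), (.a, true)],
  [(.u, true), (.w, false), (.u, true), (.w, true), (.u, true), (.w, false), (.u, true), (.a, true), (.w, true), (.u, true), (.a, true)],
  [(.w, true), (.u, true), (.a, true), (.w, false), (.u, true), (.w, false), (.u, true), (.a, true), (.w, true), (.u, true), (.a, true)],
  [(.u, true), (.w, false), (.a, true), (.w, false), (.u, true), (.w, false), (.u, true), (.a, true), (.w, true), (.u, true), (.a, true)],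
  [(.u, true), (.w, false), (.u, true), (.w, true), (.u, true), (.a, true), (.w, true), (.a, true), (.w, true), (.u, true), (.a, true)],
  [(.u, true), (.w, false), (.u, true), (.a, true), (.w, true), (.u, true), (.w, true), (.a, true), (.w, true), (.u, true), (.a, true)],
  [(.u, true), (.w, true), (.u, true), (.a, true), (.w, true), (.a, true), (.w, false), (.a, true), (.w, true), (.u, true), (.a, true)],
  [(.u, true), (.w, false), (.u, true), (.a, true), (.w, true), (.a, true), (.w, false), (.a, true), (.w, true), (.u, true), (.a, true)],
  [(.w, true), (.u, true), (.a, true), (.w, false), (.u, true), (.a, true), (.w, true), (.u, true), (.w, true), (.u, true), (.a, true)],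
  [(.w, false), (.u, true), (.a, true), (.w, false), (.u, true), (.a, true), (.w, true), (.u, true), (.w, true), (.u, true), (.a, true)],
  [(.u, true), (.w, false), (.u, true), (.w, false), (.u, true), (.a, true), (.w, true), (.u, true), (.w, true), (.u, true), (.a, true)],
  [(.u, true), (.a, true), (.w, true), (.u, true), (.w, true), (.a, true), (.w, true), (.u, true), (.w, true), (.u, true), (.a, true)],
  [(.w, true), (.u, true), (.a, true), (.w, true), (.u, true), (.a, true), (.w, false), (.u, true), (.w, true), (.u, true), (.a, true)],
  [(.a, true), (.w, true), (.u, true), (.w, true), (.u, true), (.a, true), (.w, false), (.u, true), (.w, true), (.u, true), (.a, true)],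
  [(.a, true), (.w, false), (.u, true), (.w, true), (.u, true), (.a, true), (.w, false), (.u, true), (.w, true), (.u, true), (.a, true)],
  [(.u, true), (.w, false), (.u, true), (.w, true), (.u, true), (.a, true), (.w, false), (.u, true), (.w, true), (.u, true), (.a, true)],
  [(.u, true), (.w, false), (.a, true), (.w, false), (.u, true), (.a, true), (.w, false), (.u, true), (.w, true), (.u, true), (.a, true)],
  [(.a, true), (.w, true), (.u, true), (.a, true), (.w, true), (.u, true), (.w, false), (.u, true), (.w, true), (.u, true), (.a, true)],
  [(.u, true), (.w, false), (.u, true), (.a, true), (.w, true), (.u, true), (.w, false), (.u, true), (.w, true), (.u, true), (.a, true)],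
  [(.u, true), (.a, true), (.w, false), (.u, true), (.w, true), (.u, true), (.w, false), (.u, true), (.w, true), (.u, true), (.a, true)],
  [(.w, true), (.u, true), (.w, false), (.u, true), (.w, true), (.u, true), (.w, false), (.u, true), (.w, true), (.u, true), (.a, true)],
  [(.u, true), (.a, true), (.w, false), (.u, true), (.a, true), (.w, true), (.u, true), (.a, true), (.w, false), (.u, true), (.a, true)],
  [(.w, false), (.u, true), (.w, false), (.u, true), (.a, true), (.w, true), (.u, true), (.a, true), (.w, false), (.u, true), (.a, true)],
  [(.u, true), (.w, true), (.a, true), (.w, true), (.u, true), (.w, true), (.u, true), (.a, true), (.w, false), (.u, true), (.a, true)],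
  [(.w, true), (.u, true), (.a, true), (.w, false), (.u, true), (.w, true), (.u, true), (.a, true), (.w, false), (.u, true), (.a, true)],
  [(.w, false), (.u, true), (.a, true), (.w, false), (.u, true), (.w, true), (.u, true), (.a, true), (.w, false), (.u, true), (.a, true)],
  [(.u, true), (.w, true), (.u, true), (.w, false), (.u, true), (.w, true), (.u, true), (.a, true), (.w, false), (.u, true), (.a, true)],
  [(.w, true), (.u, true), (.a, true), (.w, true), (.u, true), (.w, false), (.u, true), (.a, true), (.w, false), (.u, true), (.a, true)],
  [(.w, false), (.u, true), (.a, true), (.w, true), (.u, true), (.w, false), (.u, true), (.a, true), (.w, false), (.u, true), (.a, true)],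
  [(.u, true), (.w, true), (.u, true), (.a, true), (.w, false), (.a, true), (.w, true), (.a, true), (.w, false), (.u, true), (.a, true)],
  [(.u, true), (.w, false), (.u, true), (.a, true), (.w, false), (.a, true), (.w, true), (.a, true), (.w, false), (.u, true), (.a, true)],
  [(.u, true), (.w, true), (.u, true), (.w, false), (.u, true), (.a, true), (.w, false), (.a, true), (.w, false), (.u, true), (.a, true)],
  [(.u, true), (.w, true), (.u, true), (.a, true), (.w, false), (.u, true), (.w, false), (.a, true), (.w, false), (.u, true), (.a, true)],
  [(.u, true), (.w, true), (.a, true), (.w, true), (.u, true), (.a, true), (.w, true), (.u, true), (.w, false), (.u, true), (.a, true)],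
  [(.w, false), (.u, true), (.a, true), (.w, false), (.u, true), (.a, true), (.w, true), (.u, true), (.w, false), (.u, true), (.a, true)],
  [(.a, true), (.w, true), (.u, true), (.w, false), (.u, true), (.a, true), (.w, true), (.u, true), (.w, false), (.u, true), (.a, true)],
  [(.u, true), (.w, true), (.u, true), (.w, false), (.u, true), (.a, true), (.w, true), (.u, true), (.w, false), (.u, true), (.a, true)],
  [(.a, true), (.w, false), (.u, true), (.w, false), (.u, true), (.a, true), (.w, true), (.u, true), (.w, false), (.u, true), (.a, true)],
  [(.u, true), (.w, true), (.u, true), (.a, true), (.w, false), (.u, true), (.w, true), (.u, true), (.w, false), (.u, true), (.a, true)],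
  [(.a, true), (.w, false), (.u, true), (.a, true), (.w, false), (.u, true), (.w, true), (.u, true), (.w, false), (.u, true), (.a, true)],
  [(.u, true), (.a, true), (.w, true), (.u, true), (.w, false), (.u, true), (.w, true), (.u, true), (.w, false), (.u, true), (.a, true)],
  [(.w, true), (.a, true), (.w, true), (.u, true), (.w, false), (.u, true), (.w, true), (.u, true), (.w, false), (.u, true), (.a, true)],
  [(.w, true), (.u, true), (.a, true), (.w, true), (.u, true), (.a, true), (.w, false), (.u, true), (.w, false), (.u, true), (.a, true)],
  [(.w, false), (.u, true), (.a, true), (.w, true), (.u, true), (.a, true), (.w, false), (.u, true), (.w, false), (.u, true), (.a, true)],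
  [(.u, true), (.a, true), (.w, false), (.u, true), (.w, false), (.a, true), (.w, false), (.u, true), (.w, false), (.u, true), (.a, true)],
  [(.a, true), (.w, true), (.u, true), (.a, true), (.w, true), (.a, true), (.w, true), (.u, true), (.a, true), (.w, true), (.a, true)],
  [(.u, true), (.w, true), (.u, true), (.a, true), (.w, true), (.a, true), (.w, true), (.u, true), (.a, true), (.w, true), (.a, true)],
  [(.a, true), (.w, true), (.u, true), (.a, true), (.w, false), (.u, true), (.w, true), (.u, true), (.a, true), (.w, true), (.a, true)],
  [(.u, true), (.w, true), (.u, true), (.a, true), (.w, false), (.u, true), (.w, true), (.u, true), (.a, true), (.w, true), (.a, true)],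
  [(.a, true), (.w, false), (.u, true), (.a, true), (.w, false), (.u, true), (.w, true), (.u, true), (.a, true), (.w, true), (.a, true)],
  [(.u, true), (.w, false), (.u, true), (.a, true), (.w, false), (.u, true), (.w, true), (.u, true), (.a, true), (.w, true), (.a, true)],
  [(.w, true), (.u, true), (.a, true), (.w, true), (.u, true), (.a, true), (.w, false), (.u, true), (.a, true), (.w, true), (.a, true)],
  [(.w, false), (.u, true), (.a, true), (.w, true), (.u, true), (.a, true), (.w, false), (.u, true), (.a, true), (.w, true), (.a, true)],
  [(.a, true), (.w, true), (.u, true), (.a, true), (.w, true), (.u, true), (.w, false), (.u, true), (.a, true), (.w, true), (.a, true)],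
  [(.a, true), (.w, false), (.u, true), (.a, true), (.w, true), (.u, true), (.w, false), (.u, true), (.a, true), (.w, true), (.a, true)],
  [(.u, true), (.w, false), (.u, true), (.a, true), (.w, true), (.u, true), (.w, false), (.u, true), (.a, true), (.w, true), (.a, true)],
  [(.w, true), (.u, true), (.w, false), (.u, true), (.w, true), (.u, true), (.w, false), (.u, true), (.a, true), (.w, true), (.a, true)],
  [(.a, true), (.w, true), (.u, true), (.a, true), (.w, false), (.u, true), (.w, false), (.u, true), (.a, true), (.w, true), (.a, true)],
  [(.u, true), (.w, true), (.u, true), (.a, true), (.w, false), (.u, true), (.w, false), (.u, true), (.a, true), (.w, true), (.a, true)],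
  [(.w, false), (.u, true), (.w, false), (.a, true), (.w, false), (.u, true), (.w, false), (.u, true), (.a, true), (.w, true), (.a, true)],
  [(.w, true), (.u, true), (.w, false), (.u, true), (.a, true), (.w, true), (.u, true), (.w, true), (.a, true), (.w, true), (.a, true)],
  [(.w, false), (.u, true), (.w, true), (.u, true), (.a, true), (.w, true), (.a, true), (.w, false), (.a, true), (.w, true), (.a, true)],
  [(.w, false), (.u, true), (.w, false), (.u, true), (.a, true), (.w, true), (.a, true), (.w, false), (.a, true), (.w, true), (.a, true)],
  [(.u, true), (.w, true), (.u, true), (.a, true), (.w, false), (.u, true), (.a, true), (.w, true), (.u, true), (.w, true), (.a, true)],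
  [(.u, true), (.a, true), (.w, false), (.u, true), (.w, true), (.u, true), (.a, true), (.w, false), (.u, true), (.w, true), (.a, true)],
  [(.w, true), (.u, true), (.w, false), (.u, true), (.w, true), (.u, true), (.a, true), (.w, false), (.u, true), (.w, true), (.a, true)],
  [(.w, true), (.u, true), (.w, false), (.u, true), (.a, true), (.w, true), (.u, true), (.w, false), (.u, true), (.w, true), (.a, true)],
  [(.w, true), (.u, true), (.a, true), (.w, false), (.u, true), (.w, true), (.u, true), (.w, false), (.u, true), (.w, true), (.a, true)],
  [(.w, true), (.u, true), (.a, true), (.w, false), (.u, true), (.a, true), (.w, true), (.u, true), (.a, true), (.w, false), (.a, true)],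
  [(.w, false), (.u, true), (.a, true), (.w, false), (.u, true), (.a, true), (.w, true), (.u, true), (.a, true), (.w, false), (.a, true)],
  [(.w, true), (.u, true), (.w, true), (.a, true), (.w, true), (.u, true), (.w, true), (.u, true), (.a, true), (.w, false), (.a, true)],
  [(.w, false), (.u, true), (.w, true), (.a, true), (.w, true), (.u, true), (.w, true), (.u, true), (.a, true), (.w, false), (.a, true)],
  [(.a, true), (.w, true), (.u, true), (.a, true), (.w, false), (.u, true), (.w, true), (.u, true), (.a, true), (.w, false), (.a, true)],
  [(.u, true), (.w, true), (.u, true), (.a, true), (.w, false), (.u, true), (.w, true), (.u, true), (.a, true), (.w, false), (.a, true)],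
  [(.a, true), (.w, false), (.u, true), (.a, true), (.w, false), (.u, true), (.w, true), (.u, true), (.a, true), (.w, false), (.a, true)],
  [(.a, true), (.w, true), (.u, true), (.a, true), (.w, true), (.u, true), (.w, false), (.u, true), (.a, true), (.w, false), (.a, true)],
  [(.a, true), (.w, false), (.u, true), (.a, true), (.w, true), (.u, true), (.w, false), (.u, true), (.a, true), (.w, false), (.a, true)],
  [(.u, true), (.w, false), (.u, true), (.a, true), (.w, true), (.u, true), (.w, false), (.u, true), (.a, true), (.w, false), (.a, true)],
  [(.w, true), (.u, true), (.w, true), (.u, true), (.a, true), (.w, false), (.a, true), (.w, true), (.a, true), (.w, false), (.a, true)],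
  [(.w, true), (.u, true), (.w, false), (.u, true), (.a, true), (.w, false), (.a, true), (.w, true), (.a, true), (.w, false), (.a, true)],
  [(.w, false), (.u, true), (.w, true), (.u, true), (.a, true), (.w, false), (.u, true), (.w, false), (.a, true), (.w, false), (.a, true)],
  [(.u, true), (.a, true), (.w, true), (.u, true), (.w, false), (.u, true), (.a, true), (.w, true), (.u, true), (.w, false), (.a, true)],
  [(.u, true), (.w, false), (.u, true), (.a, true), (.w, true), (.u, true), (.a, true), (.w, false), (.u, true), (.w, false), (.a, true)],
  [(.a, true), (.w, true), (.u, true), (.a, true), (.w, true), (.a, true), (.w, true), (.u, true), (.a, true), (.w, true), (.u, true)],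
  [(.u, true), (.w, true), (.u, true), (.a, true), (.w, true), (.a, true), (.w, true), (.u, true), (.a, true), (.w, true), (.u, true)],
  [(.a, true), (.w, false), (.u, true), (.a, true), (.w, false), (.u, true), (.w, true), (.u, true), (.a, true), (.w, true), (.u, true)],
  [(.u, true), (.w, false), (.u, true), (.a, true), (.w, false), (.u, true), (.w, true), (.u, true), (.a, true), (.w, true), (.u, true)],
  [(.w, true), (.u, true), (.a, true), (.w, true), (.u, true), (.a, true), (.w, false), (.u, true), (.a, true), (.w, true), (.u, true)],
  [(.w, false), (.u, true), (.a, true), (.w, true), (.u, true), (.a, true), (.w, false), (.u, true), (.a, true), (.w, true), (.u, true)],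
  [(.u, true), (.w, false), (.u, true), (.w, true), (.u, true), (.a, true), (.w, false), (.u, true), (.a, true), (.w, true), (.u, true)],
  [(.a, true), (.w, false), (.u, true), (.a, true), (.w, true), (.u, true), (.w, false), (.u, true), (.a, true), (.w, true), (.u, true)],
  [(.u, true), (.w, false), (.u, true), (.a, true), (.w, true), (.u, true), (.w, false), (.u, true), (.a, true), (.w, true), (.u, true)],
  [(.u, true), (.a, true), (.w, false), (.u, true), (.w, true), (.u, true), (.w, false), (.u, true), (.a, true), (.w, true), (.u, true)],
  [(.w, true), (.u, true), (.w, false), (.u, true), (.w, true), (.u, true), (.w, false), (.u, true), (.a, true), (.w, true), (.u, true)],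
  [(.a, true), (.w, true), (.u, true), (.a, true), (.w, false), (.u, true), (.w, false), (.u, true), (.a, true), (.w, true), (.u, true)],
  [(.u, true), (.w, true), (.u, true), (.a, true), (.w, false), (.u, true), (.w, false), (.u, true), (.a, true), (.w, true), (.u, true)],
  [(.w, false), (.u, true), (.w, false), (.a, true), (.w, false), (.u, true), (.w, false), (.u, true), (.a, true), (.w, true), (.u, true)],
  [(.w, true), (.u, true), (.w, false), (.u, true), (.a, true), (.w, true), (.u, true), (.w, true), (.a, true), (.w, true), (.u, true)],
  [(.w, false), (.u, true), (.w, false), (.u, true), (.a, true), (.w, true), (.u, true), (.w, true), (.a, true), (.w, true), (.u, true)],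
  [(.w, false), (.u, true), (.w, false), (.u, true), (.a, true), (.w, true), (.a, true), (.w, false), (.a, true), (.w, true), (.u, true)],
  [(.u, true), (.a, true), (.w, false), (.u, true), (.w, false), (.u, true), (.a, true), (.w, true), (.u, true), (.w, true), (.u, true)],
  [(.w, false), (.u, true), (.a, true), (.w, true), (.u, true), (.w, true), (.a, true), (.w, true), (.u, true), (.w, true), (.u, true)],
  [(.u, true), (.w, false), (.u, true), (.a, true), (.w, true), (.u, true), (.a, true), (.w, false), (.u, true), (.w, true), (.u, true)],
  [(.w, true), (.a, true), (.w, true), (.u, true), (.w, true), (.u, true), (.a, true), (.w, false), (.u, true), (.w, true), (.u, true)],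
  [(.u, true), (.a, true), (.w, false), (.u, true), (.w, true), (.u, true), (.a, true), (.w, false), (.u, true), (.w, true), (.u, true)],
  [(.w, true), (.u, true), (.w, false), (.u, true), (.w, true), (.u, true), (.a, true), (.w, false), (.u, true), (.w, true), (.u, true)],
  [(.u, true), (.a, true), (.w, false), (.u, true), (.a, true), (.w, true), (.u, true), (.w, false), (.u, true), (.w, true), (.u, true)],
  [(.w, true), (.u, true), (.w, false), (.u, true), (.a, true), (.w, true), (.u, true), (.w, false), (.u, true), (.w, true), (.u, true)],
  [(.w, true), (.u, true), (.a, true), (.w, false), (.u, true), (.w, true), (.u, true), (.w, false), (.u, true), (.w, true), (.u, true)],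
  [(.w, true), (.u, true), (.a, true), (.w, false), (.u, true), (.a, true), (.w, true), (.u, true), (.a, true), (.w, false), (.u, true)],
  [(.w, false), (.u, true), (.a, true), (.w, false), (.u, true), (.a, true), (.w, true), (.u, true), (.a, true), (.w, false), (.u, true)],
  [(.u, true), (.w, true), (.u, true), (.w, false), (.u, true), (.a, true), (.w, true), (.u, true), (.a, true), (.w, false), (.u, true)],
  [(.w, true), (.u, true), (.w, true), (.a, true), (.w, true), (.u, true), (.w, true), (.u, true), (.a, true), (.w, false), (.u, true)],
  [(.w, false), (.u, true), (.w, true), (.a, true), (.w, true), (.u, true), (.w, true), (.u, true), (.a, true), (.w, false), (.u, true)],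
  [(.a, true), (.w, true), (.u, true), (.a, true), (.w, false), (.u, true), (.w, true), (.u, true), (.a, true), (.w, false), (.u, true)],
  [(.u, true), (.w, true), (.u, true), (.a, true), (.w, false), (.u, true), (.w, true), (.u, true), (.a, true), (.w, false), (.u, true)],
  [(.u, true), (.a, true), (.w, true), (.u, true), (.w, false), (.u, true), (.w, true), (.u, true), (.a, true), (.w, false), (.u, true)],
  [(.a, true), (.w, true), (.u, true), (.a, true), (.w, true), (.u, true), (.w, false), (.u, true), (.a, true), (.w, false), (.u, true)],
  [(.w, true), (.u, true), (.w, true), (.u, true), (.a, true), (.w, false), (.a, true), (.w, true), (.a, true), (.w, false), (.u, true)],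
  [(.w, true), (.u, true), (.w, true), (.u, true), (.a, true), (.w, false), (.u, true), (.w, false), (.a, true), (.w, false), (.u, true)],
  [(.w, false), (.u, true), (.w, true), (.u, true), (.a, true), (.w, false), (.u, true), (.w, false), (.a, true), (.w, false), (.u, true)],
  [(.u, true), (.w, true), (.u, true), (.a, true), (.w, false), (.u, true), (.a, true), (.w, true), (.u, true), (.w, false), (.u, true)],
  [(.u, true), (.a, true), (.w, true), (.u, true), (.w, false), (.u, true), (.a, true), (.w, true), (.u, true), (.w, false), (.u, true)],
  [(.w, false), (.a, true), (.w, false), (.u, true), (.w, false), (.u, true), (.a, true), (.w, true), (.u, true), (.w, false), (.u, true)],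
  [(.u, true), (.a, true), (.w, true), (.u, true), (.a, true), (.w, false), (.u, true), (.w, true), (.u, true), (.w, false), (.u, true)],
  [(.a, true), (.w, true), (.a, true), (.w, true), (.u, true), (.w, false), (.u, true), (.w, true), (.u, true), (.w, false), (.u, true)],
  [(.w, true), (.u, true), (.a, true), (.w, false), (.u, true), (.w, false), (.a, true), (.w, false), (.u, true), (.w, false), (.u, true)],
  [(.u, true), (.a, true), (.w, true), (.u, true), (.a, true), (.w, true), (.a, true), (.w, true), (.u, true), (.a, true), (.w, true)],
  [(.w, false), (.u, true), (.w, true), (.u, true), (.a, true), (.w, true), (.a, true), (.w, true), (.u, true), (.a, true), (.w, true)],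
  [(.u, true), (.a, true), (.w, false), (.u, true), (.a, true), (.w, false), (.u, true), (.w, true), (.u, true), (.a, true), (.w, true)],
  [(.w, true), (.a, true), (.w, false), (.u, true), (.a, true), (.w, false), (.u, true), (.w, true), (.u, true), (.a, true), (.w, true)],
  [(.a, true), (.w, false), (.u, true), (.a, true), (.w, true), (.u, true), (.a, true), (.w, false), (.u, true), (.a, true), (.w, true)],
  [(.u, true), (.w, false), (.u, true), (.a, true), (.w, true), (.u, true), (.a, true), (.w, false), (.u, true), (.a, true), (.w, true)],
  [(.w, true), (.u, true), (.w, false), (.u, true), (.w, true), (.u, true), (.a, true), (.w, false), (.u, true), (.a, true), (.w, true)],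
  [(.w, true), (.a, true), (.w, true), (.u, true), (.a, true), (.w, true), (.u, true), (.w, false), (.u, true), (.a, true), (.w, true)],
  [(.u, true), (.a, true), (.w, false), (.u, true), (.a, true), (.w, true), (.u, true), (.w, false), (.u, true), (.a, true), (.w, true)],
  [(.w, true), (.u, true), (.w, false), (.u, true), (.a, true), (.w, true), (.u, true), (.w, false), (.u, true), (.a, true), (.w, true)],
  [(.w, true), (.u, true), (.a, true), (.w, false), (.u, true), (.w, true), (.u, true), (.w, false), (.u, true), (.a, true), (.w, true)],
  [(.w, false), (.u, true), (.a, true), (.w, false), (.u, true), (.w, true), (.u, true), (.w, false), (.u, true), (.a, true), (.w, true)],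
  [(.a, true), (.w, true), (.u, true), (.w, false), (.u, true), (.w, true), (.u, true), (.w, false), (.u, true), (.a, true), (.w, true)],
  [(.u, true), (.a, true), (.w, true), (.u, true), (.a, true), (.w, false), (.u, true), (.w, false), (.u, true), (.a, true), (.w, true)],
  [(.w, true), (.u, true), (.w, true), (.u, true), (.a, true), (.w, false), (.u, true), (.w, false), (.u, true), (.a, true), (.w, true)],
  [(.u, true), (.w, false), (.u, true), (.w, false), (.a, true), (.w, false), (.u, true), (.w, false), (.u, true), (.a, true), (.w, true)],
  [(.w, false), (.u, true), (.w, true), (.u, true), (.a, true), (.w, false), (.u, true), (.a, true), (.w, true), (.u, true), (.w, true)],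
  [(.u, true), (.w, false), (.u, true), (.a, true), (.w, true), (.u, true), (.w, true), (.a, true), (.w, true), (.u, true), (.w, true)],
  [(.w, true), (.u, true), (.w, false), (.u, true), (.a, true), (.w, true), (.u, true), (.a, true), (.w, false), (.u, true), (.w, true)],
  [(.w, false), (.u, true), (.w, false), (.u, true), (.a, true), (.w, true), (.u, true), (.a, true), (.w, false), (.u, true), (.w, true)],
  [(.u, true), (.w, true), (.a, true), (.w, true), (.u, true), (.w, true), (.u, true), (.a, true), (.w, false), (.u, true), (.w, true)],
  [(.w, true), (.u, true), (.a, true), (.w, false), (.u, true), (.w, true), (.u, true), (.a, true), (.w, false), (.u, true), (.w, true)],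
  [(.a, true), (.w, true), (.u, true), (.w, false), (.u, true), (.w, true), (.u, true), (.a, true), (.w, false), (.u, true), (.w, true)],
  [(.w, true), (.u, true), (.a, true), (.w, false), (.u, true), (.a, true), (.w, true), (.u, true), (.w, false), (.u, true), (.w, true)],
  [(.a, true), (.w, true), (.u, true), (.w, false), (.u, true), (.a, true), (.w, true), (.u, true), (.w, false), (.u, true), (.w, true)],
  [(.a, true), (.w, true), (.u, true), (.a, true), (.w, false), (.u, true), (.w, true), (.u, true), (.w, false), (.u, true), (.w, true)],
  [(.a, true), (.w, true), (.u, true), (.a, true), (.w, false), (.u, true), (.a, true), (.w, true), (.u, true), (.a, true), (.w, false)],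
  [(.u, true), (.w, true), (.u, true), (.a, true), (.w, false), (.u, true), (.a, true), (.w, true), (.u, true), (.a, true), (.w, false)],
  [(.u, true), (.w, true), (.u, true), (.w, true), (.a, true), (.w, true), (.u, true), (.w, true), (.u, true), (.a, true), (.w, false)],
  [(.a, true), (.w, false), (.u, true), (.w, true), (.a, true), (.w, true), (.u, true), (.w, true), (.u, true), (.a, true), (.w, false)],
  [(.u, true), (.a, true), (.w, true), (.u, true), (.a, true), (.w, false), (.u, true), (.w, true), (.u, true), (.a, true), (.w, false)],
  [(.w, false), (.u, true), (.w, true), (.u, true), (.a, true), (.w, false), (.u, true), (.w, true), (.u, true), (.a, true), (.w, false)],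
  [(.w, false), (.a, true), (.w, false), (.u, true), (.a, true), (.w, false), (.u, true), (.w, true), (.u, true), (.a, true), (.w, false)],
  [(.w, true), (.u, true), (.a, true), (.w, true), (.u, true), (.w, false), (.u, true), (.w, true), (.u, true), (.a, true), (.w, false)],
  [(.w, false), (.u, true), (.a, true), (.w, true), (.u, true), (.w, false), (.u, true), (.w, true), (.u, true), (.a, true), (.w, false)],
  [(.w, false), (.a, true), (.w, true), (.u, true), (.a, true), (.w, true), (.u, true), (.w, false), (.u, true), (.a, true), (.w, false)],
  [(.w, true), (.u, true), (.w, true), (.u, true), (.a, true), (.w, false), (.u, true), (.a, true), (.w, true), (.u, true), (.w, false)],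
  [(.w, false), (.u, true), (.w, true), (.u, true), (.a, true), (.w, false), (.u, true), (.a, true), (.w, true), (.u, true), (.w, false)],
  [(.w, false), (.u, true), (.a, true), (.w, true), (.u, true), (.w, false), (.u, true), (.a, true), (.w, true), (.u, true), (.w, false)],
  [(.u, true), (.w, false), (.a, true), (.w, false), (.u, true), (.w, false), (.u, true), (.a, true), (.w, true), (.u, true), (.w, false)],
  [(.w, true), (.u, true), (.w, false), (.u, true), (.a, true), (.w, true), (.u, true), (.a, true), (.w, false), (.u, true), (.w, false)],
  [(.u, true), (.w, true), (.u, true), (.a, true), (.w, false), (.u, true), (.w, false), (.a, true), (.w, false), (.u, true), (.w, false)],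
  [(.a, true), (.w, true), (.u, true), (.a, true), (.w, true), (.a, true), (.w, true), (.u, true), (.a, true), (.w, true), (.u, true), (.a, true)],
  [(.u, true), (.w, true), (.u, true), (.a, true), (.w, true), (.a, true), (.w, true), (.u, true), (.a, true), (.w, true), (.u, true), (.a, true)],
  [(.a, true), (.w, false), (.u, true), (.a, true), (.w, false), (.u, true), (.w, true), (.u, true), (.a, true), (.w, true), (.u, true), (.a, true)],
  [(.u, true), (.w, false), (.u, true), (.a, true), (.w, false), (.u, true), (.w, true), (.u, true), (.a, true), (.w, true), (.u, true), (.a, true)],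
  [(.w, true), (.u, true), (.a, true), (.w, true), (.u, true), (.a, true), (.w, false), (.u, true), (.a, true), (.w, true), (.u, true), (.a, true)],
  [(.w, false), (.u, true), (.a, true), (.w, true), (.u, true), (.a, true), (.w, false), (.u, true), (.a, true), (.w, true), (.u, true), (.a, true)],
  [(.a, true), (.w, false), (.u, true), (.a, true), (.w, true), (.u, true), (.w, false), (.u, true), (.a, true), (.w, true), (.u, true), (.a, true)],
  [(.u, true), (.w, false), (.u, true), (.a, true), (.w, true), (.u, true), (.w, false), (.u, true), (.a, true), (.w, true), (.u, true), (.a, true)],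
  [(.w, true), (.u, true), (.w, false), (.u, true), (.w, true), (.u, true), (.w, false), (.u, true), (.a, true), (.w, true), (.u, true), (.a, true)],
  [(.a, true), (.w, true), (.u, true), (.a, true), (.w, false), (.u, true), (.w, false), (.u, true), (.a, true), (.w, true), (.u, true), (.a, true)],
  [(.u, true), (.w, true), (.u, true), (.a, true), (.w, false), (.u, true), (.w, false), (.u, true), (.a, true), (.w, true), (.u, true), (.a, true)],
  [(.w, false), (.u, true), (.w, false), (.a, true), (.w, false), (.u, true), (.w, false), (.u, true), (.a, true), (.w, true), (.u, true), (.a, true)],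
  [(.w, true), (.u, true), (.w, false), (.u, true), (.a, true), (.w, true), (.u, true), (.w, true), (.a, true), (.w, true), (.u, true), (.a, true)],
  [(.w, false), (.u, true), (.w, false), (.u, true), (.a, true), (.w, true), (.a, true), (.w, false), (.a, true), (.w, true), (.u, true), (.a, true)],
  [(.u, true), (.a, true), (.w, false), (.u, true), (.w, true), (.u, true), (.a, true), (.w, false), (.u, true), (.w, true), (.u, true), (.a, true)],
  [(.w, true), (.u, true), (.w, false), (.u, true), (.w, true), (.u, true), (.a, true), (.w, false), (.u, true), (.w, true), (.u, true), (.a, true)],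
  [(.w, true), (.u, true), (.w, false), (.u, true), (.a, true), (.w, true), (.u, true), (.w, false), (.u, true), (.w, true), (.u, true), (.a, true)],
  [(.w, true), (.u, true), (.a, true), (.w, false), (.u, true), (.w, true), (.u, true), (.w, false), (.u, true), (.w, true), (.u, true), (.a, true)],
  [(.w, true), (.u, true), (.a, true), (.w, false), (.u, true), (.a, true), (.w, true), (.u, true), (.a, true), (.w, false), (.u, true), (.a, true)],
  [(.w, false), (.u, true), (.a, true), (.w, false), (.u, true), (.a, true), (.w, true), (.u, true), (.a, true), (.w, false), (.u, true), (.a, true)],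
  [(.w, true), (.u, true), (.w, true), (.a, true), (.w, true), (.u, true), (.w, true), (.u, true), (.a, true), (.w, false), (.u, true), (.a, true)],
  [(.w, false), (.u, true), (.w, true), (.a, true), (.w, true), (.u, true), (.w, true), (.u, true), (.a, true), (.w, false), (.u, true), (.a, true)],
  [(.a, true), (.w, true), (.u, true), (.a, true), (.w, false), (.u, true), (.w, true), (.u, true), (.a, true), (.w, false), (.u, true), (.a, true)],
  [(.u, true), (.w, true), (.u, true), (.a, true), (.w, false), (.u, true), (.w, true), (.u, true), (.a, true), (.w, false), (.u, true), (.a, true)],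
  [(.a, true), (.w, true), (.u, true), (.a, true), (.w, true), (.u, true), (.w, false), (.u, true), (.a, true), (.w, false), (.u, true), (.a, true)],
  [(.w, true), (.u, true), (.w, true), (.u, true), (.a, true), (.w, false), (.a, true), (.w, true), (.a, true), (.w, false), (.u, true), (.a, true)],
  [(.w, false), (.u, true), (.w, true), (.u, true), (.a, true), (.w, false), (.u, true), (.w, false), (.a, true), (.w, false), (.u, true), (.a, true)],
  [(.u, true), (.a, true), (.w, true), (.u, true), (.w, false), (.u, true), (.a, true), (.w, true), (.u, true), (.w, false), (.u, true), (.a, true)],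
  [(.u, true), (.a, true), (.w, true), (.u, true), (.a, true), (.w, true), (.a, true), (.w, true), (.u, true), (.a, true), (.w, true), (.a, true)],
  [(.u, true), (.a, true), (.w, false), (.u, true), (.a, true), (.w, false), (.u, true), (.w, true), (.u, true), (.a, true), (.w, true), (.a, true)],
  [(.w, true), (.a, true), (.w, false), (.u, true), (.a, true), (.w, false), (.u, true), (.w, true), (.u, true), (.a, true), (.w, true), (.a, true)],
  [(.a, true), (.w, false), (.u, true), (.a, true), (.w, true), (.u, true), (.a, true), (.w, false), (.u, true), (.a, true), (.w, true), (.a, true)],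
  [(.u, true), (.w, false), (.u, true), (.a, true), (.w, true), (.u, true), (.a, true), (.w, false), (.u, true), (.a, true), (.w, true), (.a, true)],
  [(.u, true), (.a, true), (.w, false), (.u, true), (.a, true), (.w, true), (.u, true), (.w, false), (.u, true), (.a, true), (.w, true), (.a, true)],
  [(.a, true), (.w, true), (.u, true), (.w, false), (.u, true), (.w, true), (.u, true), (.w, false), (.u, true), (.a, true), (.w, true), (.a, true)],
  [(.u, true), (.a, true), (.w, true), (.u, true), (.a, true), (.w, false), (.u, true), (.w, false), (.u, true), (.a, true), (.w, true), (.a, true)],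
  [(.u, true), (.w, false), (.u, true), (.w, false), (.a, true), (.w, false), (.u, true), (.w, false), (.u, true), (.a, true), (.w, true), (.a, true)],
  [(.w, false), (.u, true), (.w, true), (.u, true), (.a, true), (.w, false), (.u, true), (.a, true), (.w, true), (.u, true), (.w, true), (.a, true)],
  [(.a, true), (.w, true), (.u, true), (.w, false), (.u, true), (.w, true), (.u, true), (.a, true), (.w, false), (.u, true), (.w, true), (.a, true)],
  [(.a, true), (.w, true), (.u, true), (.w, false), (.u, true), (.a, true), (.w, true), (.u, true), (.w, false), (.u, true), (.w, true), (.a, true)],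
  [(.a, true), (.w, true), (.u, true), (.a, true), (.w, false), (.u, true), (.w, true), (.u, true), (.w, false), (.u, true), (.w, true), (.a, true)],
  [(.a, true), (.w, true), (.u, true), (.a, true), (.w, false), (.u, true), (.a, true), (.w, true), (.u, true), (.a, true), (.w, false), (.a, true)],
  [(.u, true), (.w, true), (.u, true), (.a, true), (.w, false), (.u, true), (.a, true), (.w, true), (.u, true), (.a, true), (.w, false), (.a, true)],
  [(.u, true), (.w, true), (.u, true), (.w, true), (.a, true), (.w, true), (.u, true), (.w, true), (.u, true), (.a, true), (.w, false), (.a, true)],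
  [(.a, true), (.w, false), (.u, true), (.w, true), (.a, true), (.w, true), (.u, true), (.w, true), (.u, true), (.a, true), (.w, false), (.a, true)],
  [(.u, true), (.a, true), (.w, true), (.u, true), (.a, true), (.w, false), (.u, true), (.w, true), (.u, true), (.a, true), (.w, false), (.a, true)],
  [(.w, false), (.a, true), (.w, true), (.u, true), (.a, true), (.w, true), (.u, true), (.w, false), (.u, true), (.a, true), (.w, false), (.a, true)],
  [(.w, true), (.u, true), (.w, false), (.u, true), (.a, true), (.w, true), (.u, true), (.a, true), (.w, false), (.u, true), (.w, false), (.a, true)],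
  [(.u, true), (.a, true), (.w, true), (.u, true), (.a, true), (.w, true), (.a, true), (.w, true), (.u, true), (.a, true), (.w, true), (.u, true)],
  [(.u, true), (.a, true), (.w, false), (.u, true), (.a, true), (.w, false), (.u, true), (.w, true), (.u, true), (.a, true), (.w, true), (.u, true)],
  [(.a, true), (.w, false), (.u, true), (.a, true), (.w, true), (.u, true), (.a, true), (.w, false), (.u, true), (.a, true), (.w, true), (.u, true)],
  [(.u, true), (.w, false), (.u, true), (.a, true), (.w, true), (.u, true), (.a, true), (.w, false), (.u, true), (.a, true), (.w, true), (.u, true)],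
  [(.w, true), (.u, true), (.w, false), (.u, true), (.w, true), (.u, true), (.a, true), (.w, false), (.u, true), (.a, true), (.w, true), (.u, true)],
  [(.u, true), (.a, true), (.w, false), (.u, true), (.a, true), (.w, true), (.u, true), (.w, false), (.u, true), (.a, true), (.w, true), (.u, true)],
  [(.w, true), (.u, true), (.w, false), (.u, true), (.a, true), (.w, true), (.u, true), (.w, false), (.u, true), (.a, true), (.w, true), (.u, true)],
  [(.w, true), (.u, true), (.a, true), (.w, false), (.u, true), (.w, true), (.u, true), (.w, false), (.u, true), (.a, true), (.w, true), (.u, true)],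
  [(.w, false), (.u, true), (.a, true), (.w, false), (.u, true), (.w, true), (.u, true), (.w, false), (.u, true), (.a, true), (.w, true), (.u, true)],
  [(.a, true), (.w, true), (.u, true), (.w, false), (.u, true), (.w, true), (.u, true), (.w, false), (.u, true), (.a, true), (.w, true), (.u, true)],
  [(.u, true), (.a, true), (.w, true), (.u, true), (.a, true), (.w, false), (.u, true), (.w, false), (.u, true), (.a, true), (.w, true), (.u, true)],
  [(.u, true), (.w, false), (.u, true), (.w, false), (.a, true), (.w, false), (.u, true), (.w, false), (.u, true), (.a, true), (.w, true), (.u, true)],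
  [(.u, true), (.w, false), (.u, true), (.a, true), (.w, true), (.u, true), (.w, true), (.a, true), (.w, true), (.u, true), (.w, true), (.u, true)],
  [(.w, true), (.u, true), (.w, false), (.u, true), (.a, true), (.w, true), (.u, true), (.a, true), (.w, false), (.u, true), (.w, true), (.u, true)],
  [(.w, false), (.u, true), (.w, false), (.u, true), (.a, true), (.w, true), (.u, true), (.a, true), (.w, false), (.u, true), (.w, true), (.u, true)],
  [(.u, true), (.w, true), (.a, true), (.w, true), (.u, true), (.w, true), (.u, true), (.a, true), (.w, false), (.u, true), (.w, true), (.u, true)],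
  [(.w, true), (.u, true), (.a, true), (.w, false), (.u, true), (.w, true), (.u, true), (.a, true), (.w, false), (.u, true), (.w, true), (.u, true)],
  [(.a, true), (.w, true), (.u, true), (.w, false), (.u, true), (.w, true), (.u, true), (.a, true), (.w, false), (.u, true), (.w, true), (.u, true)],
  [(.w, true), (.u, true), (.a, true), (.w, false), (.u, true), (.a, true), (.w, true), (.u, true), (.w, false), (.u, true), (.w, true), (.u, true)],
  [(.a, true), (.w, true), (.u, true), (.w, false), (.u, true), (.a, true), (.w, true), (.u, true), (.w, false), (.u, true), (.w, true), (.u, true)],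
  [(.a, true), (.w, true), (.u, true), (.a, true), (.w, false), (.u, true), (.w, true), (.u, true), (.w, false), (.u, true), (.w, true), (.u, true)],
  [(.a, true), (.w, true), (.u, true), (.a, true), (.w, false), (.u, true), (.a, true), (.w, true), (.u, true), (.a, true), (.w, false), (.u, true)],
  [(.u, true), (.w, true), (.u, true), (.a, true), (.w, false), (.u, true), (.a, true), (.w, true), (.u, true), (.a, true), (.w, false), (.u, true)],
  [(.u, true), (.w, true), (.u, true), (.w, true), (.a, true), (.w, true), (.u, true), (.w, true), (.u, true), (.a, true), (.w, false), (.u, true)],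
  [(.a, true), (.w, false), (.u, true), (.w, true), (.a, true), (.w, true), (.u, true), (.w, true), (.u, true), (.a, true), (.w, false), (.u, true)],
  [(.u, true), (.a, true), (.w, true), (.u, true), (.a, true), (.w, false), (.u, true), (.w, true), (.u, true), (.a, true), (.w, false), (.u, true)],
  [(.w, false), (.u, true), (.w, true), (.u, true), (.a, true), (.w, false), (.u, true), (.w, true), (.u, true), (.a, true), (.w, false), (.u, true)],
  [(.w, true), (.u, true), (.a, true), (.w, true), (.u, true), (.w, false), (.u, true), (.w, true), (.u, true), (.a, true), (.w, false), (.u, true)],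
  [(.w, false), (.u, true), (.a, true), (.w, true), (.u, true), (.w, false), (.u, true), (.w, true), (.u, true), (.a, true), (.w, false), (.u, true)],
  [(.w, true), (.u, true), (.w, true), (.u, true), (.a, true), (.w, false), (.u, true), (.a, true), (.w, true), (.u, true), (.w, false), (.u, true)],
  [(.w, false), (.u, true), (.w, true), (.u, true), (.a, true), (.w, false), (.u, true), (.a, true), (.w, true), (.u, true), (.w, false), (.u, true)],
  [(.w, false), (.u, true), (.a, true), (.w, true), (.u, true), (.w, false), (.u, true), (.a, true), (.w, true), (.u, true), (.w, false), (.u, true)],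
  [(.u, true), (.w, false), (.a, true), (.w, false), (.u, true), (.w, false), (.u, true), (.a, true), (.w, true), (.u, true), (.w, false), (.u, true)],
  [(.u, true), (.w, true), (.u, true), (.a, true), (.w, false), (.u, true), (.w, false), (.a, true), (.w, false), (.u, true), (.w, false), (.u, true)],
  [(.u, true), (.w, false), (.u, true), (.w, true), (.u, true), (.a, true), (.w, true), (.a, true), (.w, true), (.u, true), (.a, true), (.w, true)],
  [(.u, true), (.a, true), (.w, false), (.u, true), (.a, true), (.w, true), (.u, true), (.a, true), (.w, false), (.u, true), (.a, true), (.w, true)],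
  [(.u, true), (.w, true), (.u, true), (.w, false), (.u, true), (.w, true), (.u, true), (.a, true), (.w, false), (.u, true), (.a, true), (.w, true)],
  [(.u, true), (.w, true), (.a, true), (.w, true), (.u, true), (.a, true), (.w, true), (.u, true), (.w, false), (.u, true), (.a, true), (.w, true)],
  [(.w, true), (.a, true), (.w, true), (.u, true), (.w, false), (.u, true), (.w, true), (.u, true), (.w, false), (.u, true), (.a, true), (.w, true)],
  [(.u, true), (.w, false), (.u, true), (.w, true), (.u, true), (.a, true), (.w, false), (.u, true), (.a, true), (.w, true), (.u, true), (.w, true)],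
  [(.w, true), (.u, true), (.w, false), (.u, true), (.a, true), (.w, true), (.u, true), (.w, true), (.a, true), (.w, true), (.u, true), (.w, true)],
  [(.w, true), (.u, true), (.w, true), (.a, true), (.w, true), (.u, true), (.w, true), (.u, true), (.a, true), (.w, false), (.u, true), (.w, true)],
  [(.u, true), (.w, true), (.u, true), (.a, true), (.w, false), (.u, true), (.a, true), (.w, true), (.u, true), (.w, false), (.u, true), (.w, true)],
  [(.u, true), (.a, true), (.w, true), (.u, true), (.a, true), (.w, false), (.u, true), (.a, true), (.w, true), (.u, true), (.a, true), (.w, false)],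
  [(.u, true), (.w, false), (.a, true), (.w, false), (.u, true), (.a, true), (.w, false), (.u, true), (.w, true), (.u, true), (.a, true), (.w, false)],
  [(.u, true), (.w, true), (.u, true), (.w, false), (.u, true), (.a, true), (.w, true), (.u, true), (.a, true), (.w, false), (.u, true), (.w, false)],
  [(.u, true), (.a, true), (.w, true), (.u, true), (.a, true), (.w, true), (.a, true), (.w, true), (.u, true), (.a, true), (.w, true), (.u, true), (.a, true)],
  [(.u, true), (.a, true), (.w, false), (.u, true), (.a, true), (.w, false), (.u, true), (.w, true), (.u, true), (.a, true), (.w, true), (.u, true), (.a, true)],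
  [(.a, true), (.w, false), (.u, true), (.a, true), (.w, true), (.u, true), (.a, true), (.w, false), (.u, true), (.a, true), (.w, true), (.u, true), (.a, true)],
  [(.u, true), (.w, false), (.u, true), (.a, true), (.w, true), (.u, true), (.a, true), (.w, false), (.u, true), (.a, true), (.w, true), (.u, true), (.a, true)],
  [(.u, true), (.a, true), (.w, false), (.u, true), (.a, true), (.w, true), (.u, true), (.w, false), (.u, true), (.a, true), (.w, true), (.u, true), (.a, true)],
  [(.a, true), (.w, true), (.u, true), (.w, false), (.u, true), (.w, true), (.u, true), (.w, false), (.u, true), (.a, true), (.w, true), (.u, true), (.a, true)],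
  [(.u, true), (.a, true), (.w, true), (.u, true), (.a, true), (.w, false), (.u, true), (.w, false), (.u, true), (.a, true), (.w, true), (.u, true), (.a, true)],
  [(.u, true), (.w, false), (.u, true), (.w, false), (.a, true), (.w, false), (.u, true), (.w, false), (.u, true), (.a, true), (.w, true), (.u, true), (.a, true)],
  [(.a, true), (.w, true), (.u, true), (.w, false), (.u, true), (.w, true), (.u, true), (.a, true), (.w, false), (.u, true), (.w, true), (.u, true), (.a, true)],
  [(.a, true), (.w, true), (.u, true), (.w, false), (.u, true), (.a, true), (.w, true), (.u, true), (.w, false), (.u, true), (.w, true), (.u, true), (.a, true)],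
  [(.a, true), (.w, true), (.u, true), (.a, true), (.w, false), (.u, true), (.w, true), (.u, true), (.w, false), (.u, true), (.w, true), (.u, true), (.a, true)],
  [(.a, true), (.w, true), (.u, true), (.a, true), (.w, false), (.u, true), (.a, true), (.w, true), (.u, true), (.a, true), (.w, false), (.u, true), (.a, true)],
  [(.u, true), (.w, true), (.u, true), (.a, true), (.w, false), (.u, true), (.a, true), (.w, true), (.u, true), (.a, true), (.w, false), (.u, true), (.a, true)],
  [(.u, true), (.w, true), (.u, true), (.w, true), (.a, true), (.w, true), (.u, true), (.w, true), (.u, true), (.a, true), (.w, false), (.u, true), (.a, true)],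
  [(.a, true), (.w, false), (.u, true), (.w, true), (.a, true), (.w, true), (.u, true), (.w, true), (.u, true), (.a, true), (.w, false), (.u, true), (.a, true)],
  [(.u, true), (.a, true), (.w, true), (.u, true), (.a, true), (.w, false), (.u, true), (.w, true), (.u, true), (.a, true), (.w, false), (.u, true), (.a, true)],
  [(.u, true), (.a, true), (.w, false), (.u, true), (.a, true), (.w, true), (.u, true), (.a, true), (.w, false), (.u, true), (.a, true), (.w, true), (.a, true)],
  [(.u, true), (.w, false), (.u, true), (.w, true), (.u, true), (.a, true), (.w, false), (.u, true), (.a, true), (.w, true), (.u, true), (.w, true), (.a, true)],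
  [(.u, true), (.a, true), (.w, true), (.u, true), (.a, true), (.w, false), (.u, true), (.a, true), (.w, true), (.u, true), (.a, true), (.w, false), (.a, true)],
  [(.u, true), (.w, true), (.u, true), (.w, false), (.u, true), (.a, true), (.w, true), (.u, true), (.a, true), (.w, false), (.u, true), (.w, false), (.a, true)],
  [(.u, true), (.a, true), (.w, false), (.u, true), (.a, true), (.w, true), (.u, true), (.a, true), (.w, false), (.u, true), (.a, true), (.w, true), (.u, true)],
  [(.u, true), (.a, true), (.w, true), (.u, true), (.a, true), (.w, false), (.u, true), (.a, true), (.w, true), (.u, true), (.a, true), (.w, false), (.u, true)],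
  [(.w, true), (.u, true), (.a, true), (.w, false), (.u, true), (.a, true), (.w, true), (.u, true), (.a, true), (.w, false), (.u, true), (.a, true), (.w, true)],
  [(.u, true), (.a, true), (.w, false), (.u, true), (.a, true), (.w, true), (.u, true), (.a, true), (.w, false), (.u, true), (.a, true), (.w, true), (.u, true), (.a, true)],
  [(.u, true), (.a, true), (.w, true), (.u, true), (.a, true), (.w, false), (.u, true), (.a, true), (.w, true), (.u, true), (.a, true), (.w, false), (.u, true), (.a, true)],
  [(.w, true), (.u, true), (.a, true), (.w, false), (.u, true), (.a, true), (.w, true), (.u, true), (.a, true), (.w, false), (.u, true), (.a, true), (.w, true), (.a, true)],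
  [(.w, true), (.u, true), (.a, true), (.w, false), (.u, true), (.a, true), (.w, true), (.u, true), (.a, true), (.w, false), (.u, true), (.a, true), (.w, true), (.u, true)],
  [(.w, true), (.u, true), (.a, true), (.w, false), (.u, true), (.a, true), (.w, true), (.u, true), (.a, true), (.w, false), (.u, true), (.a, true), (.w, true), (.u, true), (.a, true)] ]

/-- the representative of the point `i` -/
def rep (i : ℕ) : List (Cfsg.Agent.Lib.Helper14.J2UT.L2Def.Gen × Bool) := reps.getD i []

/-- the point of a word -/
noncomputable def pt (L : List (Cfsg.Agent.Lib.Helper14.J2UT.L2Def.Gen × Bool)) : ℕ := table.walkT (pathOf lw L) 0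

theorem hrep : ∀ i, i < 1920 → pt (rep i) = i := by decide +kernel

def wA : List (Cfsg.Agent.Lib.Helper14.J2UT.L2Def.Gen × Bool) := [(.a, true)]
def wU : List (Cfsg.Agent.Lib.Helper14.J2UT.L2Def.Gen × Bool) := [(.u, true)]
def wUi : List (Cfsg.Agent.Lib.Helper14.J2UT.L2Def.Gen × Bool) := [(.u, false)]
def wW : List (Cfsg.Agent.Lib.Helper14.J2UT.L2Def.Gen × Bool) := [(.w, true)]
def wWi : List (Cfsg.Agent.Lib.Helper14.J2UT.L2Def.Gen × Bool) := [(.w, false)]
def wb1 : List (Cfsg.Agent.Lib.Helper14.J2UT.L2Def.Gen × Bool) := [(.u, true), (.w, true), (.a, true), (.w, false), (.u, false)]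
def wb2 : List (Cfsg.Agent.Lib.Helper14.J2UT.L2Def.Gen × Bool) := [(.u, true), (.w, true), (.u, true), (.w, true), (.a, true), (.w, false), (.u, false), (.w, false), (.u, false)]
def wg1 : List (Cfsg.Agent.Lib.Helper14.J2UT.L2Def.Gen × Bool) := [(.u, true), (.w, true), (.a, true), (.w, false), (.u, false), (.u, true), (.w, true), (.u, true), (.w, true), (.a, true), (.w, false), (.u, false), (.w, false), (.u, false)]
def wbeta : List (Cfsg.Agent.Lib.Helper14.J2UT.L2Def.Gen × Bool) := [(.a, true), (.u, true), (.w, true), (.a, true), (.w, false), (.u, false), (.a, true), (.u, true), (.w, true), (.a, true), (.w, false), (.u, false)]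
def wq : List (Cfsg.Agent.Lib.Helper14.J2UT.L2Def.Gen × Bool) := [(.w, true), (.u, true), (.w, true), (.u, true), (.w, false)]
def wqi : List (Cfsg.Agent.Lib.Helper14.J2UT.L2Def.Gen × Bool) := [(.w, true), (.u, false), (.w, false), (.u, false), (.w, false)]
def wu2 : List (Cfsg.Agent.Lib.Helper14.J2UT.L2Def.Gen × Bool) := [(.w, true), (.u, true), (.w, true), (.u, true), (.w, false), (.u, true), (.w, true), (.u, false), (.w, false), (.u, false), (.w, false)]
def wu2i : List (Cfsg.Agent.Lib.Helper14.J2UT.L2Def.Gen × Bool) := [(.w, true), (.u, true), (.w, true), (.u, true), (.w, false), (.u, false), (.w, true), (.u, false), (.w, false), (.u, false), (.w, false)]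
def wu3 : List (Cfsg.Agent.Lib.Helper14.J2UT.L2Def.Gen × Bool) := [(.w, true), (.u, true), (.w, true), (.u, true), (.w, false), (.w, true), (.u, true), (.w, true), (.u, true), (.w, false), (.u, true), (.w, true), (.u, false), (.w, false), (.u, false), (.w, false), (.w, true), (.u, false), (.w, false), (.u, false), (.w, false)]
def wu3i : List (Cfsg.Agent.Lib.Helper14.J2UT.L2Def.Gen × Bool) := [(.w, true), (.u, true), (.w, true), (.u, true), (.w, false), (.w, true), (.u, true), (.w, true), (.u, true), (.w, false), (.u, false), (.w, true), (.u, false), (.w, false), (.u, false), (.w, false), (.w, true), (.u, false), (.w, false), (.u, false), (.w, false)]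
def wm0 : List (Cfsg.Agent.Lib.Helper14.J2UT.L2Def.Gen × Bool) := [(.w, false), (.u, true), (.w, true), (.a, true), (.u, true), (.w, false), (.u, true), (.w, true), (.a, true), (.u, true), (.w, false)]

theorem T1 : pt (wg1 ++ wg1) = pt (wbeta) := by decide +kernel
theorem T21 : pt (wU ++ wg1 ++ wUi) = pt (wg1 ++ wbeta) := by decide +kernel
theorem T22 : pt (wu2 ++ wg1 ++ wu2i) = pt (wg1 ++ wbeta ++ wA) := by decide +kernel
theorem T23 : pt (wu3 ++ wg1 ++ wu3i) = pt (wg1 ++ wA) := by decide +kernel
theorem T3 : pt (wg1 ++ wq ++ wg1 ++ wqi ++ wq ++ wq ++ wg1 ++ wqi ++ wqi) = pt (wbeta) := by decide +kernel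
theorem T4a : pt (wg1 ++ wA) = pt (wA ++ wg1) := by decide +kernel
theorem T4b : pt (wg1 ++ wbeta) = pt (wbeta ++ wg1) := by decide +kernel

/-- the conditions that determine the element -/
noncomputable def chk (i : ℕ) : Bool :=
  !(Nat.beq (pt (rep i ++ rep i)) (pt wA) &&
   Nat.beq (pt (wU ++ rep i ++ wUi)) (pt (rep i ++ wA)) &&
   Nat.beq (pt (wu2 ++ rep i ++ wu2i)) (pt (rep i ++ wbeta)) &&
   Nat.beq (pt (wu3 ++ rep i ++ wu3i)) (pt (rep i ++ wbeta ++ wA)) &&
   Nat.beq (pt (rep i ++ wq ++ rep i ++ wqi ++ wq ++ wq ++ rep i ++ wqi ++ wqi)) (pt wA) &&
   Nat.beq (pt (rep i ++ wA)) (pt (wA ++ rep i)) &&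
   Nat.beq (pt (rep i ++ wbeta)) (pt (wbeta ++ rep i))) || Nat.beq i 1787

theorem huniq : ∀ i, i < 1920 → chk i = true := by decide +kernel

theorem hm0 : pt wm0 = 1787 := by decide +kernel

end Cfsg.Agent.Lib.Helper14.J2UT.L2Chk
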