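import Cfsg.Agent.Lib.Helper28.TC2Upper
import Cfsg.Agent.Lib.Helper14.J2UT.L2DataC0
set_option autoImplicit false
set_option maxRecDepth 100000

namespace Cfsg.Agent.Lib.Helper14.J2UT.L2Data
open Cfsg.Agent.Lib.Helper28.TC2Upper

/-- relators -/
def relT : BT (ℕ × List ℕ × List ℕ) := (BT.node 3 (BT.node 1 (BT.node 0 (BT.leaf (2, [2, 2], [3, 3])) (BT.leaf (3, [4, 4, 4], [5, 5, 5]))) (BT.node 2 (BT.leaf (10, [4, 2, 4, 2, 4, 2, 4, 2, 4, 2], [3, 5, 3, 5, 3, 5, 3, 5, 3, 5])) (BT.leaf (2, [0, 0], [1, 1])))) (BT.node 5 (BT.node 4 (BT.leaf (4, [1, 3, 0, 2], [3, 1, 2, 0])) (BT.leaf (12, [1, 5, 3, 5, 3, 4, 0, 5, 2, 4, 2, 4], [5, 3, 5, 3, 4, 1, 5, 2, 4, 2, 4, 0]))) (BT.leaf (45, [3, 5, 3, 5, 3, 5, 3, 5, 0, 4, 2, 4, 2, 4, 2, 4, 2, 3, 5, 3, 5, 3, 5, 0, 4, 2, 4, 2, 4, 2, 3, 5, 3, 5, 0, 4, 2, 4, 2, 3, 5, 0, 4, 2, 0], [1, 3,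 5, 1, 4, 2, 3, 5, 3, 5, 1, 4, 2, 4, 2, 3, 5, 3, 5, 3, 5, 1, 4, 2, 4, 2, 4, 2, 3, 5, 3, 5, 3, 5, 3, 5, 1, 4, 2, 4, 2, 4, 2, 4, 2]))))
/-- subgroup generators -/
def subT : BT (ℕ × List ℕ × List ℕ) := (BT.leaf (0, [], []))
/-- fact chunks -/
def colET : BT ℕ := (BT.node 13 (BT.node 6 (BT.node 3 (BT.node 1 (BT.node 0 (BT.leaf cE0) (BT.leaf cE1)) (BT.node 2 (BT.leaf cE2) (BT.leaf cE3))) (BT.node 5 (BT.node 4 (BT.leaf cE4) (BT.leaf cE5)) (BT.leaf cE6))) (BT.node 10 (BT.node 8 (BT.node 7 (BT.leaf cE7) (BT.leaf cE8)) (BT.node 9 (BT.leaf cE9) (BT.leaf cE10))) (BT.node 12 (BT.node 11 (BT.leaf cE11) (BT.leaf cE12)) (BT.leaf cE13)))) (BT.node 20 (BT.node 17 (BT.node 15 (BT.node 14 (BT.leaf cE14) (BT.leaf cE15)) (BT.node 16 (BT.leaf cE16) (BT.leaf cE17))) (BT.node 19 (BT.node 18 (BT.leaf cE18) (BT.leaf cE19)) (BT.leaf cE20)))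 (BT.node 24 (BT.node 22 (BT.node 21 (BT.leaf cE21) (BT.leaf cE22)) (BT.node 23 (BT.leaf cE23) (BT.leaf cE24))) (BT.node 26 (BT.node 25 (BT.leaf cE25) (BT.leaf cE26)) (BT.leaf cE27)))))
/-- justification chunks -/
def colJT : BT ℕ := (BT.node 13 (BT.node 6 (BT.node 3 (BT.node 1 (BT.node 0 (BT.leaf cJ0) (BT.leaf cJ1)) (BT.node 2 (BT.leaf cJ2) (BT.leaf cJ3))) (BT.node 5 (BT.node 4 (BT.leaf cJ4) (BT.leaf cJ5)) (BT.leaf cJ6))) (BT.node 10 (BT.node 8 (BT.node 7 (BT.leaf cJ7) (BT.leaf cJ8)) (BT.node 9 (BT.leaf cJ9) (BT.leaf cJ10))) (BT.node 12 (BT.node 11 (BT.leaf cJ11) (BT.leaf cJ12)) (BT.leaf cJ13)))) (BT.node 20 (BT.node 17 (BT.node 15 (BT.node 14 (BT.leaf cJ14) (BT.leaf cJ15)) (BT.node 16 (BT.leaf cJ16) (BT.leaf cJ17))) (BT.node 19 (BT.node 18 (BT.leaf cJ18) (BT.leaf cJ19)) (BT.leaf cJ20))) (BT.node 24 (BT.node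 22 (BT.node 21 (BT.leaf cJ21) (BT.leaf cJ22)) (BT.node 23 (BT.leaf cJ23) (BT.leaf cJ24))) (BT.node 26 (BT.node 25 (BT.leaf cJ25) (BT.leaf cJ26)) (BT.leaf cJ27)))))
/-- parent chunks -/
def parCT : BT ℕ := (BT.node 1 (BT.node 0 (BT.leaf cP0) (BT.leaf cP1)) (BT.node 2 (BT.leaf cP2) (BT.leaf cP3)))
/-- the certificate -/
def data : Data where
  k := 6
  N := 1920
  W := 25
  MW := 33554432
  B := 2048
  CH := 512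
  NCH := 4
  colE := colET
  JW := 64
  MJ := 18446744073709551616
  A := 1048576
  colJ := colJT
  PW := 21
  MP := 2097152
  parC := parCT
  inv := (BT.node 3 (BT.node 1 (BT.node 0 (BT.leaf 1) (BT.leaf 0)) (BT.node 2 (BT.leaf 3) (BT.leaf 2))) (BT.node 5 (BT.node 4 (BT.leaf 5) (BT.leaf 4)) (BT.leaf 6)))
  rel := relT
  sub := subT
  fuel := 4

end Cfsg.Agent.Lib.Helper14.J2UT.L2Data
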