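import Mathlib
set_option autoImplicit false

namespace Cfsg.Agent.Lib.Helper14.J2UT.L2Def

/-- the generators -/
inductive Gen
  | a
  | u
  | w
  deriving DecidableEq

/-- the relators in list form -/
def relWords : List (List (Gen × Bool)) := [
  [(.u, true), (.u, true)],
  [(.w, true), (.w, true), (.w, true)],
  [(.u, true), (.w, true), (.u, true), (.w, true), (.u, true), (.w, true), (.u, true), (.w, true), (.u, true), (.w, true)],
  [(.a, true), (.a, true)],
  [(.u, true), (.a, true), (.u, false), (.a, false)],
  [(.w, true), (.u, true), (.w, true), (.u, true), (.w, false), (.a, true), (.w, true), (.u, false), (.w, false), (.u, false), (.w, false), (.a, false)],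
  [(.a, true), (.u, true), (.w, true), (.a, true), (.w, false), (.u, false), (.u, true), (.w, true), (.u, true), (.w, true), (.a, true), (.w, false), (.u, false), (.w, false), (.u, false), (.u, true), (.w, true), (.u, true), (.w, true), (.u, true), (.w, true), (.a, true), (.w, false), (.u, false), (.w, false), (.u, false), (.w, false), (.u, false), (.u, true), (.w, true), (.u, true), (.w, true), (.u, true), (.w, true), (.u, true), (.w, true), (.a, true), (.w, false), (.u, false), (.w, false), (.u, false), (.w, false), (.u, false), (.w, false), (.u, false)] ]

end Cfsg.Agent.Lib.Helper14.J2UT.L2Def
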