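import Cfsg.Agent.Lib.Helper28.TC2Glue
import Cfsg.Agent.Lib.Helper14.J2UT.L2Data
import Cfsg.Agent.Lib.Helper14.J2UT.L2Table
import Cfsg.Agent.Lib.Helper14.J2UT.L2Def
set_option autoImplicit false
set_option maxRecDepth 100000

namespace Cfsg.Agent.Lib.Helper14.J2UT.L2Link
open Cfsg.Agent.Lib.Helper28.TC2Upper Cfsg.Agent.Lib.Helper28.TC2Lower Cfsg.Agent.Lib.Helper28.TC2Glue Cfsg.Agent.Lib.Helper14.J2UT.L2Data Cfsg.Agent.Lib.Helper14.J2UT.L2Table

/-- all relators in list form -/
abbrev relWords : List (List (Cfsg.Agent.Lib.Helper14.J2UT.L2Def.Gen × Bool)) := Cfsg.Agent.Lib.Helper14.J2UT.L2Def.relWords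

/-- the subgroup generators in list form -/
def subWords : List (List (Cfsg.Agent.Lib.Helper14.J2UT.L2Def.Gen × Bool)) := [
  [] ]

/-- coding of the letters -/
def lw : Cfsg.Agent.Lib.Helper14.J2UT.L2Def.Gen × Bool → ℕ
  | (.a, true) => 0
  | (.a, false) => 1
  | (.u, true) => 2
  | (.u, false) => 3
  | (.w, true) => 4
  | (.w, false) => 5

/-- decoding of the letters -/
def dec : ℕ → Cfsg.Agent.Lib.Helper14.J2UT.L2Def.Gen × Bool
  | 0 => (.a, true)
  | 1 => (.a, false)
  | 2 => (.u, true)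
  | 3 => (.u, false)
  | 4 => (.w, true)
  | _ => (.w, false)

/-- the relators -/
abbrev rels : Set (FreeGroup Cfsg.Agent.Lib.Helper14.J2UT.L2Def.Gen) := {r | ∃ L ∈ relWords, r = FreeGroup.mk L}

/-- the subgroup generators -/
abbrev S : Set (FreeGroup Cfsg.Agent.Lib.Helper14.J2UT.L2Def.Gen) := {1}

theorem hS : ∀ s, s ∈ S ↔ ∃ L ∈ subWords, s = FreeGroup.mk L := by
  intro s
  constructor
  · intro h; exact ⟨[], List.mem_singleton.mpr rfl, h⟩
  · rintro ⟨L, hL, rfl⟩; rw [subWords, List.mem_singleton] at hL; subst hL; rfl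

theorem relD_ok : BT.all (fun t => decide (wfWord data t ∧ ∃ L ∈ relWords, t.2.1 = pathOf lw L)) data.rel = true := by
  decide +kernel

theorem subD_ok : BT.all (fun t => decide (wfWord data t ∧ ∃ L ∈ subWords, t.2.1 = pathOf lw L)) data.sub = true := by
  decide +kernel

theorem link : Link rels S relWords subWords lw dec data table where
  hrels := fun _ => Iff.rfl
  hS := hS
  lwk := by rintro ⟨x, b⟩; cases x <;> cases b <;> decide
  lwinv := by intro x; cases x <;> decide +kernel
  d1 := by intro l hl; have : l < 6 := hl; interval_cases l <;> rfl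
  d2 := by intro x; cases x <;> rfl
  d3 := by intro x; cases x <;> exact Or.inl rfl
  invk := by intro l hl; have : l < 6 := hl; interval_cases l <;> decide +kernel
  relD := BT.All_of_all (fun _ h => of_decide_eq_true h) _ relD_ok
  subD := BT.All_of_all (fun _ h => of_decide_eq_true h) _ subD_ok
  Tk := rfl
  Tinv := fun _ => rfl

theorem hrelmem : ∀ L ∈ relWords, pathOf lw L ∈ relPaths := by decide +kernel
theorem hsubmem : ∀ L ∈ subWords, pathOf lw L ∈ subPaths := by decide +kernel
theorem hsubmem' : ∀ s ∈ subPaths, ∃ L ∈ subWords, s = pathOf lw L := by decide +kernel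

end Cfsg.Agent.Lib.Helper14.J2UT.L2Link
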